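import Cfsg.Agent.Lib.Leech.Mult.ThreeData
import Cfsg.Agent.Lib.Leech.Sub.Split

/-!
The checks of the certificates for the stabilizer of a vector of the second shortest length.
-/

set_option autoImplicit false
set_option Elab.async false
set_option maxRecDepth 100000
set_option maxHeartbeats 4000000

namespace CfsgLib.Leech.Mult

open Cfsg CfsgLib.Leech

/-- the vector fixed by the group -/
def threeV : List ℤ := [1, 1, 1, 1, 1, 1, 1, 1, 1, 1, 1, 1, 1, 1, 1, 1, 1, 1, 1, 1, 1, 1, 1, 5]

theorem threeV_inL : inL threeV = true := by decide +kernel

/-- each element fixes the vector and has the listed table -/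
def eltOK (z : List (List ℤ) × List ℕ) : Bool := stabOK threeV z.1 && z.1.map keyL == z.2

theorem threeElts_piece0 : pieceOK 11 (threeMats.zip threeCols) eltOK 0 = true := by decide +kernel

theorem threeElts_piece1 : pieceOK 11 (threeMats.zip threeCols) eltOK 1 = true := by decide +kernel

theorem threeElts_piece2 : pieceOK 11 (threeMats.zip threeCols) eltOK 2 = true := by decide +kernel

theorem threeElts_piece3 : pieceOK 11 (threeMats.zip threeCols) eltOK 3 = true := by decide +kernel

theorem threeElts_piece4 : pieceOK 11 (threeMats.zip threeCols) eltOK 4 = true := by decide +kernel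

theorem threeElts_piece5 : pieceOK 11 (threeMats.zip threeCols) eltOK 5 = true := by decide +kernel

theorem threeElts_piece6 : pieceOK 11 (threeMats.zip threeCols) eltOK 6 = true := by decide +kernel

theorem threeElts_piece7 : pieceOK 11 (threeMats.zip threeCols) eltOK 7 = true := by decide +kernel

theorem threeElts_piece8 : pieceOK 11 (threeMats.zip threeCols) eltOK 8 = true := by decide +kernel

theorem threeElts_piece9 : pieceOK 11 (threeMats.zip threeCols) eltOK 9 = true := by decide +kernel

theorem threeElts_len : threeMats.length = threeCols.length ∧ (threeMats.zip threeCols).length ≤ 11 * 10 := by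
  decide +kernel

theorem threeElts_ok : (threeMats.zip threeCols).all eltOK = true := by
  refine all_of_pieces threeElts_len.2 fun i hi => ?_
  interval_cases i
  · exact threeElts_piece0
  · exact threeElts_piece1
  · exact threeElts_piece2
  · exact threeElts_piece3
  · exact threeElts_piece4
  · exact threeElts_piece5
  · exact threeElts_piece6
  · exact threeElts_piece7
  · exact threeElts_piece8
  · exact threeElts_piece9

theorem threeTab_ok : threeTab.ok = true := by decide +kernel

theorem threeClasses_ok : threeTwo.classesOK = true := by decide +kernel

theorem three3_ok : threeOdd3.pieceOK threeOdd3.as threeOdd3.pairA = true ∧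
    threeOdd3.pieceOK threeOdd3.bs threeOdd3.pairB = true ∧ threeOdd3.actOK = true ∧
    threeOdd3.sizeOK threeOdd3.bs = true := by decide +kernel

theorem three3_size : threeOdd3.sizeOK threeOdd3.as = true := by decide +kernel

theorem three5_ok : threeOdd5.pieceOK threeOdd5.as threeOdd5.pairA = true ∧
    threeOdd5.pieceOK threeOdd5.bs threeOdd5.pairB = true ∧ threeOdd5.actOK = true ∧
    threeOdd5.sizeOK threeOdd5.as = true ∧ threeOdd5.sizeOK threeOdd5.bs = true := by decide +kernel

end CfsgLib.Leech.Mult
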