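import Cfsg.Agent.Lib.Leech.Sub.StabCols
import Cfsg.Agent.Lib.Schur.InvolutionLift
import Cfsg.Agent.Lib.Schur.OddSplit

/-!
Checking certificates against stem extensions of vector stabilizers in the lattice group, elements
being given by their tables on classes modulo two.
-/

set_option autoImplicit false
set_option maxRecDepth 10000

namespace CfsgLib.Leech.Mult

open Cfsg CfsgLib.Golay CfsgLib.Leech CfsgLib.Schur.InvTable CfsgLib.Schur.InvolLift

attribute [local irreducible] dL bL key keyL coord packB linL bits

/-- one number for a table -/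
def packC (c : List ℕ) : ℕ := c.foldr (fun a acc => a + 16777216 * acc) 0

/-- the table of a number -/
def unpackC (x : ℕ) : List ℕ := (List.range 24).map fun j => (x >>> (24 * j)) % 16777216

/-- the number determined by the action of a table -/
def keyC (c : List ℕ) : ℕ := packC ((List.range 24).map fun j => comb c (2 ^ j))

variable {V : List ℤ} (hV : inL V = true)

theorem keyC_eq {g : ↥(stabL hV)} {c d : List ℕ} (hc : Rep hV g c) (hd : Rep hV g d) : keyC c = keyC d := by
  rw [keyC, keyC]
  congr 1
  refine List.map_congr_left fun j hj => ?_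
  have hk : 2 ^ j < 2 ^ 24 := Nat.pow_lt_pow_right (by norm_num) (List.mem_range.1 hj)
  rw [← hc _ hk, ← hd _ hk]

/-- the table of a word in given elements -/
def wordC (cs : List (List ℕ)) (w : List ℕ) : List ℕ := (w.map fun i => cs.getD i pow2L).foldr mulC pow2L

/-! ### The prime two -/

/-- lookup in a list cut into pieces of thirty-two -/
def get2 (L : List (List ℕ)) (i : ℕ) : ℕ := (L.getD (i / 32) []).getD (i % 32) 0

/-- the data for the prime two -/
structure Two where
  /-- the table -/
  T : Tab
  /-- the tables of the elements used; the first ones are the generators -/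
  cs : List (List ℕ)
  /-- packed elements of the subgroup -/
  els : List (List ℕ)
  /-- sorting of the elements -/
  srt : List (List ℕ)
  /-- positions in the sorting -/
  rank : List (List ℕ)
  /-- representatives of the classes of involutions -/
  reps : List ℕ
  /-- triples of commuting involutions with the classes of their seven products -/
  seven : List (ℕ × ℕ × ℕ × List (ℕ × ℕ))
  /-- classes and conjugators of the generators -/
  genWhy : List (ℕ × ℕ)
  /-- classes and conjugators of the halves of the relators -/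
  wordWhy : List (ℕ × ℕ)

namespace Two

variable (C : Two)

/-- one table -/
def tb (i : ℕ) : List ℕ := C.cs.getD i pow2L

/-- conjugate to a representative -/
def conjOK (c g : ℕ) (x : List ℕ) : Bool :=
  decide (c < C.reps.length) && mulC (C.tb g) x == mulC (C.tb (C.reps.getD c 0)) (C.tb g)

/-- the seven products determine one class -/
def sevenOK (c : ℕ) (y : ℕ × ℕ × ℕ × List (ℕ × ℕ)) : Bool :=
  match y with
  | (u, v, w, l) =>
    mulC (C.tb v) (C.tb u) == mulC (C.tb u) (C.tb v) && mulC (C.tb w) (C.tb u) == mulC (C.tb u) (C.tb w)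
      && mulC (C.tb w) (C.tb v) == mulC (C.tb v) (C.tb w) && l.length == 7
      && (l.zip [mulC (mulC (C.tb u) (C.tb v)) (C.tb w), mulC (C.tb u) (C.tb v), mulC (C.tb u) (C.tb w),
          mulC (C.tb v) (C.tb w), C.tb u, C.tb v, C.tb w]).all
        (fun z => decide (z.1.1 ≤ c) && C.conjOK z.1.1 z.1.2 z.2)
      && decide ((l.countP fun z => z.1 == c) % 2 = 1)

/-- a relator -/
def wordOK (w : List ℕ) (y : ℕ × ℕ) : Bool :=
  w == w.take (w.length / 2) ++ w.take (w.length / 2) && C.conjOK y.1 y.2 (wordC C.cs (w.take (w.length / 2)))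

/-- the step of the tree leading to a point -/
def treeOK (z : ℕ × ℕ × ℕ) : Bool :=
  unpackC (get2 C.els (z.1 + 1)) == mulC (C.tb z.2.1) (unpackC (get2 C.els z.2.2)) && decide (z.2.2 < z.1 + 1)

/-- one point in the sorting -/
def posOK (i : ℕ) : Bool :=
  get2 C.srt (get2 C.rank i) == i && decide (get2 C.rank i < C.T.N)
    && keyC (unpackC (get2 C.els i)) == get2 C.els i

/-- the checks of the representatives, triples, generators and relators -/
def classesOK : Bool :=
  C.reps.all (fun R => mulC (C.tb R) (C.tb R) == pow2L)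
    && C.seven.length == C.reps.length
    && (List.range C.reps.length).all (fun c => C.sevenOK c (C.seven.getD c (0, 0, 0, [])))
    && C.genWhy.length == C.T.k
    && (List.range C.T.k).all (fun j => C.conjOK (C.genWhy.getD j (0, 0)).1 (C.genWhy.getD j (0, 0)).2 (C.tb j))
    && C.wordWhy.length == C.T.words.length
    && (C.T.words.zip C.wordWhy).all (fun z => C.wordOK z.1 z.2)

/-- the checks of the points -/
def pointsOK : Bool :=
  unpackC (get2 C.els 0) == pow2L
    && ((List.range C.T.tree.length).zip C.T.tree).all C.treeOK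
    && (List.range C.T.N).all C.posOK
    && (List.range (C.T.N - 1)).all (fun r =>
      decide (get2 C.els (get2 C.srt r) < get2 C.els (get2 C.srt (r + 1))))

end Two

/-- A certificate rules out stem double covers. -/
theorem no_double_of_two (hne : vec V ≠ 0) (C : Two) (hT : C.T.ok = true) (hcls : C.classesOK = true)
    (hpts : C.pointsOK = true) (G : ℕ → ↥(stabL hV)) (hG : ∀ i, Rep hV (G i) (C.tb i))
    [Finite ↥(stabL hV)] (hodd : ∀ m, C.T.N * m = Nat.card ↥(stabL hV) → ¬ 2 ∣ m) (E : Type) [Group E]
    [Finite E] (τ : E →* ↥(stabL hV)) (hτ : Cfsg.IsStemExtension τ) (h2 : Nat.card τ.ker = 2) : False := by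
  simp only [Two.classesOK, Bool.and_eq_true, beq_iff_eq] at hcls
  obtain ⟨⟨⟨⟨⟨⟨hrsq, hslen⟩, hsev⟩, hgwlen⟩, hgw⟩, hwwlen⟩, hww⟩ := hcls
  simp only [Two.pointsOK, Bool.and_eq_true, beq_iff_eq] at hpts
  obtain ⟨⟨⟨hel0, htree⟩, hpos⟩, hmono⟩ := hpts
  have D := double_of_card_two hτ h2
  let rep : ℕ → ↥(stabL hV) := fun c => G (C.reps.getD c 0)
  have hrep2 : ∀ c < C.reps.length, rep c * rep c = 1 := fun c hc => by
    have hm : C.reps.getD c 0 ∈ C.reps := by
      rw [List.getD_eq_getElem?_getD, List.getElem?_eq_getElem hc]; exact List.getElem_mem hc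
    have h := List.all_eq_true.1 hrsq _ hm
    rw [beq_iff_eq] at h
    refine Rep.eq hV hne ((hG _).mul hV (hG _)) ?_
    rw [h]; exact rep_one hV
  have hconj : ∀ {c g : ℕ} {x : ↥(stabL hV)} {d : List ℕ}, C.conjOK c g d = true → Rep hV x d →
      c < C.reps.length ∧ x * x = 1 ∧ D.q x = D.q (rep c) := by
    intro c g x d h hx
    simp only [Two.conjOK, Bool.and_eq_true, decide_eq_true_eq, beq_iff_eq] at h
    obtain ⟨hc, he⟩ := h
    have he' : G g * x = rep c * G g :=
      Rep.eq hV hne ((hG g).mul hV hx) (by rw [he]; exact (hG _).mul hV (hG g))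
    have h2x : x * x = 1 := by
      have hx' : x = (G g)⁻¹ * rep c * G g := by rw [mul_assoc, ← he', inv_mul_cancel_left]
      rw [hx', show (G g)⁻¹ * rep c * G g * ((G g)⁻¹ * rep c * G g) =
        (G g)⁻¹ * (rep c * rep c) * G g by group, hrep2 c hc, mul_one, inv_mul_cancel]
    exact ⟨hc, h2x, (D.q_conj he' h2x).symm⟩
  -- every class lifts to involutions
  have hclass : ∀ c, c < C.reps.length → D.q (rep c) = 1 := by
    intro c
    induction c using Nat.strong_induction_on with
    | _ c ih =>
      intro hc
      have hs := List.all_eq_true.1 hsev c (List.mem_range.2 hc)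
      rcases hy : C.seven.getD c (0, 0, 0, []) with ⟨u, v, w, l⟩
      rw [hy] at hs
      simp only [Two.sevenOK, Bool.and_eq_true, beq_iff_eq, decide_eq_true_eq] at hs
      obtain ⟨⟨⟨⟨⟨huv, huw⟩, hvw⟩, hl⟩, hz⟩, hcnt⟩ := hs
      have hcomm : ∀ {p q : ℕ}, mulC (C.tb q) (C.tb p) = mulC (C.tb p) (C.tb q) → G q * G p = G p * G q :=
        fun {p q} h => Rep.eq hV hne ((hG q).mul hV (hG p)) (by rw [h]; exact (hG p).mul hV (hG q))
      match l, hl with
      | [a0, a1, a2, a3, a4, a5, a6], _ =>
        simp only [List.zip_cons_cons, List.zip_nil_left, List.all_cons, List.all_nil, Bool.and_true,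
          Bool.and_eq_true, decide_eq_true_eq] at hz
        obtain ⟨⟨c0, k0⟩, ⟨c1, k1⟩, ⟨c2, k2⟩, ⟨c3, k3⟩, ⟨c4, k4⟩, ⟨c5, k5⟩, ⟨c6, k6⟩⟩ := hz
        obtain ⟨-, hu2, e4⟩ := hconj k4 (hG u)
        obtain ⟨-, hv2, e5⟩ := hconj k5 (hG v)
        obtain ⟨-, hw2, e6⟩ := hconj k6 (hG w)
        obtain ⟨-, -, e1⟩ := hconj k1 ((hG u).mul hV (hG v))
        obtain ⟨-, -, e2⟩ := hconj k2 ((hG u).mul hV (hG w))
        obtain ⟨-, -, e3⟩ := hconj k3 ((hG v).mul hV (hG w))
        obtain ⟨-, -, e0⟩ := hconj k0 (((hG u).mul hV (hG v)).mul hV (hG w))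
        have h7 := D.q_seven hu2 hv2 hw2 (hcomm huv) (hcomm huw) (hcomm hvw)
        rw [e0, e1, e2, e3, e4, e5, e6] at h7
        have hk := D.q_mem_ker (hrep2 c hc)
        have hqq := D.sq hk
        have val : ∀ d, d ≤ c → D.q (rep d) = D.q (rep c) ^ (if d = c then 1 else 0) := fun d hd => by
          split_ifs with h
          · rw [h, pow_one]
          · rw [pow_zero]
            exact ih d (lt_of_le_of_ne hd h) (lt_of_le_of_lt hd hc)
        rw [val _ c0, val _ c1, val _ c2, val _ c3, val _ c4, val _ c5, val _ c6] at h7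
        simp only [← pow_add] at h7
        set n0 := (if a0.1 = c then 1 else 0) with hn0
        set n1 := (if a1.1 = c then 1 else 0) + (if a2.1 = c then 1 else 0) + (if a3.1 = c then 1 else 0)
          + ((if a4.1 = c then 1 else 0) + (if a5.1 = c then 1 else 0) + (if a6.1 = c then 1 else 0))
          with hn1
        have hn : (n0 + n1) % 2 = 1 := by
          simp only [List.countP_cons, List.countP_nil, beq_iff_eq] at hcnt
          rw [hn0, hn1]; omega
        have h8 : D.q (rep c) ^ (n0 + n1) = 1 := by
          rw [pow_add, h7, ← pow_add, ← two_mul, pow_mul, sq, hqq, one_pow]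
        obtain ⟨m, hm⟩ : ∃ m, n0 + n1 = 2 * m + 1 := ⟨(n0 + n1) / 2, by omega⟩
        rwa [hm, pow_succ, pow_mul, sq, hqq, one_pow, one_mul] at h8
  have hsqOne : ∀ {c g : ℕ} {x : ↥(stabL hV)} {d : List ℕ}, C.conjOK c g d = true → Rep hV x d →
      x * x = 1 ∧ SqOne τ x := by
    intro c g x d h hx
    obtain ⟨hc, h2x, he⟩ := hconj h hx
    exact ⟨h2x, D.sqOne_iff.2 (he.trans (hclass c hc))⟩
  refine no_double hτ h2 C.T [] G hT ?_ ?_ (fun j hj => absurd hj (by simp)) ?_ hodd
  · intro j hj
    exact hsqOne (List.all_eq_true.1 hgw j (List.mem_range.2 hj)) (hG j)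
  · intro w hw
    obtain ⟨i, hi, rfl⟩ := List.getElem_of_mem hw
    have hz : ((C.T.words[i]), (C.wordWhy[i]'(by omega))) ∈ C.T.words.zip C.wordWhy := by
      rw [List.mem_iff_getElem]
      exact ⟨i, by simp [List.length_zip]; omega, by simp⟩
    have h := List.all_eq_true.1 hww _ hz
    simp only [Two.wordOK, Bool.and_eq_true, beq_iff_eq] at h
    exact Or.inl ⟨_, h.1, hsqOne h.2 (Rep.prod hV fun a _ => hG a)⟩
  · have hel : ∀ t, t < C.T.N → Rep hV (C.T.phi G t) (unpackC (get2 C.els t)) := by
      intro t
      induction t using Nat.strong_induction_on with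
      | _ t ih =>
        intro ht
        have hN : C.T.tree.length + 1 = C.T.N := by
          simp only [Tab.ok, Bool.and_eq_true, decide_eq_true_eq] at hT
          exact hT.1.2
        rcases t with _ | t
        · rw [Tab.phi_zero, hel0]
          exact rep_one hV
        · have h := List.all_eq_true.1 htree (t, C.T.tree.getD t (0, 0)) (List.mem_iff_getElem.2
            ⟨t, by simp [List.length_zip]; omega,
              by simp [List.getD_eq_getElem?_getD, List.getElem?_eq_getElem (show t < C.T.tree.length by omega)]⟩)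
          simp only [Two.treeOK, Bool.and_eq_true, beq_iff_eq, decide_eq_true_eq] at h
          obtain ⟨he, hlt⟩ := h
          have hp := (hG (C.T.tree.getD t (0, 0)).1).mul hV (ih _ hlt (by omega))
          rw [Tab.phi, if_pos (by simp only [Nat.add_sub_cancel]; omega)]
          simp only [Nat.add_sub_cancel]
          rw [he]
          exact hp
    intro i i' hi hi' he
    have e1 : keyC (unpackC (get2 C.els i)) = keyC (unpackC (get2 C.els i')) :=
      keyC_eq hV (hel i hi) (he ▸ hel i' hi')
    have hpi := List.all_eq_true.1 hpos i (List.mem_range.2 hi)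
    have hpi' := List.all_eq_true.1 hpos i' (List.mem_range.2 hi')
    simp only [Two.posOK, Bool.and_eq_true, beq_iff_eq, decide_eq_true_eq] at hpi hpi'
    rw [hpi.2, hpi'.2] at e1
    have hsm : ∀ b, ∀ a, a < b → b < C.T.N →
        get2 C.els (get2 C.srt a) < get2 C.els (get2 C.srt b) := by
      intro b
      induction b with
      | zero => intro a ha; omega
      | succ b ih =>
        intro a ha hb
        have h := List.all_eq_true.1 hmono b (List.mem_range.2 (by omega))
        rw [decide_eq_true_eq] at h
        rcases Nat.lt_or_ge a b with hab | hab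
        · exact lt_trans (ih a hab (by omega)) h
        · rwa [show a = b by omega]
    rcases Nat.lt_trichotomy (get2 C.rank i) (get2 C.rank i') with h | h | h
    · have := hsm _ _ h hpi'.1.2
      rw [hpi.1.1, hpi'.1.1] at this; omega
    · rw [← hpi.1.1, h, hpi'.1.1]
    · have := hsm _ _ h hpi.1.2
      rw [hpi.1.1, hpi'.1.1] at this; omega

end CfsgLib.Leech.Mult
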