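import Cfsg.Agent.Lib.Leech.Mult.Check

/-!
Checking certificates for odd primes: two abelian pieces of a Sylow subgroup with inverting elements.
-/

set_option autoImplicit false
set_option maxRecDepth 10000

namespace CfsgLib.Leech.Mult

open Cfsg CfsgLib.Golay CfsgLib.Leech CfsgLib.Schur

attribute [local irreducible] dL bL key keyL coord packB linL bits

/-- the data for an odd prime -/
structure OddC where
  /-- the prime -/
  p : ℕ
  /-- the tables of the elements used -/
  cs : List (List ℕ)
  /-- generators of the first piece -/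
  as : List ℕ
  /-- generators of the second piece -/
  bs : List ℕ
  /-- inverts the first piece and centralises the second -/
  t : ℕ
  /-- inverts the second piece -/
  r : ℕ
  /-- pairs of positions in the first piece with an element fixing one and inverting the other -/
  pairA : List (ℕ × ℕ × ℕ)
  /-- the same in the second piece -/
  pairB : List (ℕ × ℕ × ℕ)
  /-- for each pair of generators the word of the conjugate -/
  norm : List (List (List ℕ))

namespace OddC

variable (C : OddC)

/-- one table -/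
def tb (i : ℕ) : List ℕ := C.cs.getD i pow2L

/-- powers of a table -/
def powC (c : List ℕ) : ℕ → List ℕ
  | 0 => pow2L
  | n + 1 => mulC c (powC c n)

/-- all products of powers of the given elements -/
def spanC : List ℕ → List (List ℕ)
  | [] => [pow2L]
  | a :: as =>
    let rest := spanC as
    (List.range C.p).flatMap fun e => rest.map (mulC (powC (C.tb a) e))

/-- one piece: orders, commutation and pairs -/
def pieceOK (xs : List ℕ) (pairs : List (ℕ × ℕ × ℕ)) : Bool :=
  (List.range xs.length).all (fun i =>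
    powC (C.tb (xs.getD i 0)) C.p == pow2L
      && (List.range xs.length).all (fun j => mulC (C.tb (xs.getD i 0)) (C.tb (xs.getD j 0))
          == mulC (C.tb (xs.getD j 0)) (C.tb (xs.getD i 0))
        && (i == j || pairs.any (fun q => ((q.1 == i && q.2.1 == j) || (q.1 == j && q.2.1 == i))
          && decide (q.1 < xs.length) && decide (q.2.1 < xs.length)
          && mulC (C.tb q.2.2) (C.tb (xs.getD q.1 0)) == mulC (C.tb (xs.getD q.1 0)) (C.tb q.2.2)
          && mulC (C.tb (xs.getD q.2.1 0)) (mulC (C.tb q.2.2) (C.tb (xs.getD q.2.1 0))) == C.tb q.2.2))))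

/-- the inverting elements and the normalisation -/
def actOK : Bool :=
  (List.range C.as.length).all (fun i =>
      mulC (C.tb (C.as.getD i 0)) (mulC (C.tb C.t) (C.tb (C.as.getD i 0))) == C.tb C.t
      && (List.range C.bs.length).all (fun j =>
        ((C.norm.getD j []).getD i []).all (fun a => decide (a < C.as.length))
        && mulC (C.tb (C.bs.getD j 0)) (C.tb (C.as.getD i 0)) ==
          mulC (wordC (C.as.map C.tb) ((C.norm.getD j []).getD i [])) (C.tb (C.bs.getD j 0))))
    && (List.range C.bs.length).all (fun j =>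
      mulC (C.tb C.t) (C.tb (C.bs.getD j 0)) == mulC (C.tb (C.bs.getD j 0)) (C.tb C.t)
      && mulC (C.tb (C.bs.getD j 0)) (mulC (C.tb C.r) (C.tb (C.bs.getD j 0))) == C.tb C.r)

/-- the products of one piece are distinct -/
def sizeOK (xs : List ℕ) : Bool :=
  let l := (C.spanC xs).map keyC
  decide (l.Nodup) && l.length == C.p ^ xs.length

end OddC

variable {V : List ℤ} (hV : inL V = true)

theorem rep_pow {g : ↥(stabL hV)} {c : List ℕ} (hg : Rep hV g c) :
    ∀ n, Rep hV (g ^ n) (OddC.powC c n)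
  | 0 => by rw [pow_zero]; exact rep_one hV
  | n + 1 => by rw [pow_succ']; exact hg.mul hV (rep_pow hg n)

theorem rep_span (C : OddC) (G : ℕ → ↥(stabL hV)) (hG : ∀ i, Rep hV (G i) (C.tb i))
    (S : Subgroup ↥(stabL hV)) : ∀ xs : List ℕ, (∀ a ∈ xs, G a ∈ S) →
    ∀ d ∈ C.spanC xs, ∃ g ∈ S, Rep hV g d := by
  intro xs
  induction xs with
  | nil =>
    intro _ d hd
    rw [OddC.spanC, List.mem_singleton] at hd
    exact ⟨1, one_mem S, hd ▸ rep_one hV⟩
  | cons a as ih =>
    intro h d hd
    simp only [List.mem_cons, forall_eq_or_imp] at h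
    simp only [OddC.spanC, List.mem_flatMap, List.mem_map] at hd
    obtain ⟨e, -, d', hd', rfl⟩ := hd
    obtain ⟨g, hg, hgr⟩ := ih h.2 d' hd'
    exact ⟨G a ^ e * g, mul_mem (pow_mem h.1 e) hg, (rep_pow hV (hG a) e).mul hV hgr⟩

theorem card_piece (C : OddC) (G : ℕ → ↥(stabL hV)) (hG : ∀ i, Rep hV (G i) (C.tb i))
    [Finite ↥(stabL hV)] (xs : List ℕ) (h : C.sizeOK xs = true) :
    C.p ^ xs.length ≤ Nat.card (Subgroup.closure (Set.range fun i : Fin xs.length => G (xs.getD i 0))) := by
  simp only [OddC.sizeOK, Bool.and_eq_true, beq_iff_eq, decide_eq_true_eq] at h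
  obtain ⟨hnd, hlen⟩ := h
  set S := Subgroup.closure (Set.range fun i : Fin xs.length => G (xs.getD i 0)) with hS
  rw [List.length_map] at hlen
  have hmem : ∀ i : Fin (C.spanC xs).length, ∃ g ∈ S, Rep hV g ((C.spanC xs)[i.1]) := fun i =>
    rep_span hV C G hG S xs (fun a ha => by
      obtain ⟨j, hj, rfl⟩ := List.getElem_of_mem ha
      exact Subgroup.subset_closure ⟨⟨j, hj⟩, by simp [List.getD_eq_getElem?_getD, List.getElem?_eq_getElem hj]⟩)
      _ (List.getElem_mem i.2)
  choose g hgS hgr using hmem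
  have hinj : Function.Injective fun i => (⟨g i, hgS i⟩ : S) := by
    intro i j he
    have he' : g i = g j := congrArg Subtype.val he
    have hk : keyC ((C.spanC xs)[i.1]) = keyC ((C.spanC xs)[j.1]) := keyC_eq hV (hgr i) (he' ▸ hgr j)
    refine Fin.ext ((List.Nodup.getElem_inj_iff hnd (hi := by rw [List.length_map]; exact i.2)
      (hj := by rw [List.length_map]; exact j.2)).1 ?_)
    rw [List.getElem_map, List.getElem_map, hk]
  have := Nat.card_le_card_of_injective _ hinj
  rwa [Nat.card_fin, hlen] at this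

theorem piece_spec (hne : vec V ≠ 0) (C : OddC) (G : ℕ → ↥(stabL hV))
    (hG : ∀ i, Rep hV (G i) (C.tb i)) (xs : List ℕ) (pairs : List (ℕ × ℕ × ℕ))
    (h : C.pieceOK xs pairs = true) :
    let a : Fin xs.length → ↥(stabL hV) := fun i => G (xs.getD i 0)
    (∀ i, a i ^ C.p = 1) ∧ (∀ i j, a i * a j = a j * a i) ∧
      ∀ i j, i ≠ j → FixInvert (a i) (a j) ∨ FixInvert (a j) (a i) := by
  intro a
  have h' := fun i : Fin xs.length => List.all_eq_true.1 h i.1 (List.mem_range.2 i.2)
  simp only [Bool.and_eq_true, beq_iff_eq, List.all_eq_true, List.mem_range, Bool.or_eq_true,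
    List.any_eq_true, decide_eq_true_eq] at h'
  refine ⟨fun i => Rep.eq hV hne (rep_pow hV (hG _) _) (by rw [(h' i).1]; exact rep_one hV),
    fun i j => Rep.eq hV hne ((hG _).mul hV (hG _))
      (by rw [((h' i).2 j j.2).1]; exact (hG _).mul hV (hG _)), fun i j hij => ?_⟩
  rcases ((h' i).2 j j.2).2 with e | ⟨⟨x, y, g⟩, -, ⟨⟨⟨hxy, -⟩, -⟩, hcom⟩, hinv⟩
  · exact absurd (Fin.ext e) hij
  have e1 : G g * G (xs.getD x 0) * (G g)⁻¹ = G (xs.getD x 0) := by
    rw [mul_inv_eq_iff_eq_mul]
    exact Rep.eq hV hne ((hG _).mul hV (hG _)) (by rw [hcom]; exact (hG _).mul hV (hG _))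
  have e2 : G g * G (xs.getD y 0) * (G g)⁻¹ = (G (xs.getD y 0))⁻¹ := by
    rw [mul_inv_eq_iff_eq_mul, eq_inv_mul_iff_mul_eq]
    exact Rep.eq hV hne ((hG _).mul hV ((hG _).mul hV (hG _))) (by rw [hinv]; exact hG _)
  rcases hxy with ⟨hx, hy⟩ | ⟨hx, hy⟩ <;> simp only at hx hy <;> subst hx hy
  · exact Or.inl ⟨G g, e1, e2⟩
  · exact Or.inr ⟨G g, e1, e2⟩

/-- A certificate rules out stem extensions with kernel of the order of the prime. -/
theorem no_stem_of_odd (hne : vec V ≠ 0) (C : OddC) (hp : C.p.Prime) (h2 : C.p ≠ 2)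
    (hA : C.pieceOK C.as C.pairA = true) (hB : C.pieceOK C.bs C.pairB = true) (hact : C.actOK = true)
    (hsA : C.sizeOK C.as = true) (hsB : C.sizeOK C.bs = true)
    (G : ℕ → ↥(stabL hV)) (hG : ∀ i, Rep hV (G i) (C.tb i)) [Finite ↥(stabL hV)]
    (hcard : ¬ C.p ^ (C.as.length + C.bs.length + 1) ∣ Nat.card ↥(stabL hV))
    (E : Type) [Group E] [Finite E] (τ : E →* ↥(stabL hV)) (hτ : Cfsg.IsStemExtension τ)
    (hk : Nat.card τ.ker = C.p) : False := by
  obtain ⟨ha, haa, hpa⟩ := piece_spec hV hne C G hG C.as C.pairA hA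
  obtain ⟨hb, hbb, hpb⟩ := piece_spec hV hne C G hG C.bs C.pairB hB
  simp only [OddC.actOK, Bool.and_eq_true, beq_iff_eq, List.all_eq_true, List.mem_range,
    decide_eq_true_eq] at hact
  obtain ⟨h1, h3⟩ := hact
  refine no_stem_of_two_abelian hp h2 hτ hk (fun i : Fin C.as.length => G (C.as.getD i 0))
    (fun j : Fin C.bs.length => G (C.bs.getD j 0)) (G C.t) (G C.r) (fun i => ?_) (fun j => ?_) (fun j => ?_)
    ha hb haa hbb hpa hpb (fun j i => ?_) (card_piece hV C G hG C.as hsA) (card_piece hV C G hG C.bs hsB) hcard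
  · rw [mul_inv_eq_iff_eq_mul, eq_inv_mul_iff_mul_eq]
    exact Rep.eq hV hne ((hG _).mul hV ((hG _).mul hV (hG _))) (by rw [(h1 i i.2).1]; exact hG _)
  · exact Rep.eq hV hne ((hG _).mul hV (hG _)) (by rw [(h3 j j.2).1]; exact (hG _).mul hV (hG _))
  · rw [mul_inv_eq_iff_eq_mul, eq_inv_mul_iff_mul_eq]
    exact Rep.eq hV hne ((hG _).mul hV ((hG _).mul hV (hG _))) (by rw [(h3 j j.2).2]; exact hG _)
  · obtain ⟨hlt, he⟩ := (h1 i i.2).2 j j.2
    set w := (C.norm.getD j []).getD i [] with hw
    set S := Subgroup.closure (Set.range fun i : Fin C.as.length => G (C.as.getD i 0)) with hS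
    have hrep : Rep hV ((w.map fun a => G (C.as.getD a 0)).prod) (wordC (C.as.map C.tb) w) := by
      have := Rep.prod hV (g := fun a => G (C.as.getD a 0)) (c := fun a => (C.as.map C.tb).getD a pow2L)
        (w := w) fun a ha' => by
          have hl := hlt a ha'
          simp only [List.getD_eq_getElem?_getD, List.getElem?_map, List.getElem?_eq_getElem hl,
            Option.map_some, Option.getD_some]
          exact hG _
      exact this
    have e : G (C.bs.getD j 0) * G (C.as.getD i 0) =
        (w.map fun a => G (C.as.getD a 0)).prod * G (C.bs.getD j 0) :=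
      Rep.eq hV hne ((hG _).mul hV (hG _)) (by rw [he]; exact hrep.mul hV (hG _))
    rw [e, mul_inv_cancel_right]
    refine Subgroup.list_prod_mem _ fun x hx => ?_
    obtain ⟨a, ha', rfl⟩ := List.mem_map.1 hx
    exact Subgroup.subset_closure ⟨⟨a, hlt a ha'⟩, rfl⟩

end CfsgLib.Leech.Mult
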