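import Cfsg.Agent.Lib.Leech.Mult.Check
import Cfsg.Agent.Lib.Schur.CosetSection

/-!
Checking a two-step certificate against stem double covers of vector stabilizers: relators are
squares of words giving involutions, or commutators with an involution.
-/

set_option autoImplicit false
set_option maxRecDepth 10000

namespace CfsgLib.Leech.Mult

open Cfsg CfsgLib.Golay CfsgLib.Leech CfsgLib.Schur.InvTable CfsgLib.Schur.InvolLift

attribute [local irreducible] dL bL key keyL coord packB linL bits

/-- why a relator holds in every choice of lifts -/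
inductive Why
  /-- a square of a word: class and conjugator of the half -/
  | sq (x : ℕ × ℕ)
  /-- a commutator of a word with a word giving an involution: length of the first word, class and
  conjugator of the involution, involutions with the classes of themselves and their products -/
  | comm (la : ℕ) (b : ℕ × ℕ) (ts : List (ℕ × (ℕ × ℕ) × (ℕ × ℕ)))

/-- the data -/
structure Rel where
  /-- the table of the subgroup -/
  P : Tab
  /-- the table on its cosets -/
  T : Tab
  /-- the tables of the elements used; the first ones are the generators -/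
  cs : List (List ℕ)
  /-- packed elements of the subgroup -/
  els : List (List ℕ)
  /-- packed pairs of classes marking the cosets -/
  pairs : List (List ℕ)
  /-- sorting of the pairs -/
  srt : List (List ℕ)
  /-- positions in the sorting -/
  rank : List (List ℕ)
  /-- representatives of the classes of involutions -/
  reps : List ℕ
  /-- triples of commuting involutions with the classes of their seven products -/
  seven : List (ℕ × ℕ × ℕ × List (ℕ × ℕ))
  /-- classes and conjugators of the generators -/
  genWhy : List (ℕ × ℕ)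
  /-- reasons for the relators -/
  why : List Why

/-- image of a packed pair of classes -/
def pairImg (c : List ℕ) (n : ℕ) : ℕ :=
  min (comb c (n % 16777216)) (comb c (n / 16777216)) +
    16777216 * max (comb c (n % 16777216)) (comb c (n / 16777216))

namespace Rel

variable (C : Rel)

/-- one table -/
def tb (i : ℕ) : List ℕ := C.cs.getD i pow2L

/-- conjugate to a representative -/
def qOK (x : ℕ × ℕ) (d : List ℕ) : Bool :=
  decide (x.1 < C.reps.length) && mulC (C.tb x.2) d == mulC (C.tb (C.reps.getD x.1 0)) (C.tb x.2)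

/-- the seven products determine one class -/
def sevenOK (c : ℕ) (y : ℕ × ℕ × ℕ × List (ℕ × ℕ)) : Bool :=
  match y with
  | (u, v, w, l) =>
    mulC (C.tb v) (C.tb u) == mulC (C.tb u) (C.tb v) && mulC (C.tb w) (C.tb u) == mulC (C.tb u) (C.tb w)
      && mulC (C.tb w) (C.tb v) == mulC (C.tb v) (C.tb w) && l.length == 7
      && (l.zip [mulC (mulC (C.tb u) (C.tb v)) (C.tb w), mulC (C.tb u) (C.tb v), mulC (C.tb u) (C.tb w),
          mulC (C.tb v) (C.tb w), C.tb u, C.tb v, C.tb w]).all
        (fun z => decide (z.1.1 ≤ c) && C.qOK z.1 z.2)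
      && decide ((l.countP fun z => z.1 == c) % 2 = 1)

/-- one relator -/
def whyOK (w : List ℕ) : Why → Bool
  | .sq x => w == w.take (w.length / 2) ++ w.take (w.length / 2) &&
      C.qOK x (wordC C.cs (w.take (w.length / 2)))
  | .comm la x ts =>
    w == w.take la ++ (w.take (w.length / 2)).drop la ++
        ((w.take la).reverse ++ ((w.take (w.length / 2)).drop la).reverse)
      && w.all (fun j => decide (j < C.T.k))
      && C.qOK x (wordC C.cs ((w.take (w.length / 2)).drop la))
      && wordC C.cs (ts.map fun t => t.1) == wordC C.cs (w.take la)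
      && ts.all (fun t =>
        C.qOK t.2.1 (C.tb t.1) &&
        C.qOK t.2.2 (mulC (C.tb t.1) (wordC C.cs ((w.take (w.length / 2)).drop la))) &&
        mulC (C.tb t.1) (wordC C.cs ((w.take (w.length / 2)).drop la))
          == mulC (wordC C.cs ((w.take (w.length / 2)).drop la)) (C.tb t.1))

/-- the checks of the representatives, triples, generators and relators -/
def classesOK : Bool :=
  C.reps.all (fun R => mulC (C.tb R) (C.tb R) == pow2L)
    && C.seven.length == C.reps.length
    && (List.range C.reps.length).all (fun c => C.sevenOK c (C.seven.getD c (0, 0, 0, [])))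
    && (List.range C.T.k).all (fun j => C.qOK (C.genWhy.getD j (0, 0)) (C.tb j))
    && C.why.length == C.T.words.length
    && (C.T.words.zip C.why).all (fun z => C.whyOK z.1 z.2)
    && C.P.words.all (fun w => C.T.words.any (fun v => v == w))

/-- the step of the tree leading to an element of the subgroup -/
def elOK (z : ℕ × ℕ × ℕ) : Bool :=
  unpackC (get2 C.els (z.1 + 1)) == mulC (C.tb z.2.1) (unpackC (get2 C.els z.2.2)) &&
    decide (z.2.2 < z.1 + 1)

/-- the checks of the elements of the subgroup -/
def elsOK : Bool :=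
  unpackC (get2 C.els 0) == pow2L
    && ((List.range C.P.tree.length).zip C.P.tree).all C.elOK
    && (List.range C.P.N).all (fun i => keyC (unpackC (get2 C.els i)) == get2 C.els i)
    && decide (((List.range C.P.N).map (get2 C.els)).Nodup)

/-- the step of the tree leading to a coset -/
def pairOK (z : ℕ × ℕ × ℕ) : Bool :=
  get2 C.pairs (z.1 + 1) == pairImg (C.tb z.2.1) (get2 C.pairs z.2.2) && decide (z.2.2 < z.1 + 1)

/-- the checks of the marks of the cosets -/
def pairsOK : Bool :=
  decide (get2 C.pairs 0 < 281474976710656)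
    && pairImg pow2L (get2 C.pairs 0) == get2 C.pairs 0
    && (List.range C.P.k).all (fun j => pairImg (C.tb j) (get2 C.pairs 0) == get2 C.pairs 0)
    && ((List.range C.T.tree.length).zip C.T.tree).all C.pairOK
    && (List.range C.T.N).all (fun i => get2 C.srt (get2 C.rank i) == i && decide (get2 C.rank i < C.T.N))
    && (List.range (C.T.N - 1)).all (fun r =>
      decide (get2 C.pairs (get2 C.srt r) < get2 C.pairs (get2 C.srt (r + 1))))

end Rel

variable {V : List ℤ} (hV : inL V = true)

/-- the action on packed pairs of classes -/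
noncomputable def pairAct (g : ↥(stabL hV)) (n : ℕ) : ℕ :=
  min (act (g : ↥Co0) (n % 16777216)) (act (g : ↥Co0) (n / 16777216)) +
    16777216 * max (act (g : ↥Co0) (n % 16777216)) (act (g : ↥Co0) (n / 16777216))

theorem pairAct_lt (g : ↥(stabL hV)) (n : ℕ) : pairAct hV g n < 281474976710656 := by
  have h1 := act_lt (g : ↥Co0) (n % 16777216)
  have h2 := act_lt (g : ↥Co0) (n / 16777216)
  norm_num at h1 h2
  unfold pairAct
  omega

theorem pairAct_mul (g h : ↥(stabL hV)) (n : ℕ) :
    pairAct hV (g * h) n = pairAct hV g (pairAct hV h n) := by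
  have h1 := act_lt (h : ↥Co0) (n % 16777216)
  have h2 := act_lt (h : ↥Co0) (n / 16777216)
  norm_num at h1 h2
  simp only [pairAct, Subgroup.coe_mul, act_mul]
  set a := act (h : ↥Co0) (n % 16777216)
  set b := act (h : ↥Co0) (n / 16777216)
  rcases le_total a b with hab | hab
  · rw [min_eq_left hab, max_eq_right hab, show (a + 16777216 * b) % 16777216 = a by omega,
      show (a + 16777216 * b) / 16777216 = b by omega]
  · rw [min_eq_right hab, max_eq_left hab, show (b + 16777216 * a) % 16777216 = b by omega,
      show (b + 16777216 * a) / 16777216 = a by omega, min_comm, max_comm]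

theorem pairImg_eq {g : ↥(stabL hV)} {c : List ℕ} (hc : Rep hV g c) {n : ℕ}
    (hn : n < 281474976710656) : pairImg c n = pairAct hV g n := by
  rw [pairImg, pairAct, hc (n % 16777216) (by norm_num; omega),
    hc (n / 16777216) (by norm_num; omega)]

/-- A certificate rules out stem double covers. -/
theorem no_double_of_rel (hne : vec V ≠ 0) (C : Rel) (hP : C.P.ok = true)
    (hT : C.T.okR C.P.k = true) (hcls : C.classesOK = true) (hels : C.elsOK = true)
    (hpairs : C.pairsOK = true) (G : ℕ → ↥(stabL hV)) (hG : ∀ i, Rep hV (G i) (C.tb i))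
    [Finite ↥(stabL hV)] (hodd : ∀ m, C.T.N * C.P.N * m = Nat.card ↥(stabL hV) → ¬ 2 ∣ m)
    (E : Type) [Group E] [Finite E] (τ : E →* ↥(stabL hV)) (hτ : Cfsg.IsStemExtension τ)
    (h2 : Nat.card τ.ker = 2) : False := by
  simp only [Rel.classesOK, Bool.and_eq_true, beq_iff_eq] at hcls
  obtain ⟨⟨⟨⟨⟨⟨hrsq, -⟩, hsev⟩, hgw⟩, hwlen⟩, hww⟩, hsub⟩ := hcls
  have D := double_of_card_two hτ h2
  let rep : ℕ → ↥(stabL hV) := fun c => G (C.reps.getD c 0)
  have hrep2 : ∀ c < C.reps.length, rep c * rep c = 1 := fun c hc => by
    have hm : C.reps.getD c 0 ∈ C.reps := by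
      rw [List.getD_eq_getElem?_getD, List.getElem?_eq_getElem hc]; exact List.getElem_mem hc
    have h := List.all_eq_true.1 hrsq _ hm
    rw [beq_iff_eq] at h
    refine Rep.eq hV hne ((hG _).mul hV (hG _)) ?_
    rw [h]; exact rep_one hV
  have hconj : ∀ {y : ℕ × ℕ} {x : ↥(stabL hV)} {d : List ℕ}, C.qOK y d = true → Rep hV x d →
      y.1 < C.reps.length ∧ x * x = 1 ∧ D.q x = D.q (rep y.1) := by
    rintro ⟨c, g⟩ x d h hx
    simp only [Rel.qOK, Bool.and_eq_true, decide_eq_true_eq, beq_iff_eq] at h
    obtain ⟨hc, he⟩ := h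
    have he' : G g * x = rep c * G g :=
      Rep.eq hV hne ((hG g).mul hV hx) (by rw [he]; exact (hG _).mul hV (hG g))
    have h2x : x * x = 1 := by
      have hx' : x = (G g)⁻¹ * rep c * G g := by rw [mul_assoc, ← he', inv_mul_cancel_left]
      rw [hx', show (G g)⁻¹ * rep c * G g * ((G g)⁻¹ * rep c * G g) =
        (G g)⁻¹ * (rep c * rep c) * G g by group, hrep2 c hc, mul_one, inv_mul_cancel]
    exact ⟨hc, h2x, (D.q_conj he' h2x).symm⟩
  have hclass : ∀ c, c < C.reps.length → D.q (rep c) = 1 := by
    intro c
    induction c using Nat.strong_induction_on with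
    | _ c ih =>
      intro hc
      have hs := List.all_eq_true.1 hsev c (List.mem_range.2 hc)
      rcases hy : C.seven.getD c (0, 0, 0, []) with ⟨u, v, w, l⟩
      rw [hy] at hs
      simp only [Rel.sevenOK, Bool.and_eq_true, beq_iff_eq, decide_eq_true_eq] at hs
      obtain ⟨⟨⟨⟨⟨huv, huw⟩, hvw⟩, hl⟩, hz⟩, hcnt⟩ := hs
      have hcomm : ∀ {p q : ℕ}, mulC (C.tb q) (C.tb p) = mulC (C.tb p) (C.tb q) → G q * G p = G p * G q :=
        fun {p q} h => Rep.eq hV hne ((hG q).mul hV (hG p)) (by rw [h]; exact (hG p).mul hV (hG q))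
      match l, hl with
      | [a0, a1, a2, a3, a4, a5, a6], _ =>
        simp only [List.zip_cons_cons, List.zip_nil_left, List.all_cons, List.all_nil, Bool.and_true,
          Bool.and_eq_true, decide_eq_true_eq] at hz
        obtain ⟨⟨c0, k0⟩, ⟨c1, k1⟩, ⟨c2, k2⟩, ⟨c3, k3⟩, ⟨c4, k4⟩, ⟨c5, k5⟩, ⟨c6, k6⟩⟩ := hz
        obtain ⟨-, hu2, e4⟩ := hconj k4 (hG u)
        obtain ⟨-, hv2, e5⟩ := hconj k5 (hG v)
        obtain ⟨-, hw2, e6⟩ := hconj k6 (hG w)
        obtain ⟨-, -, e1⟩ := hconj k1 ((hG u).mul hV (hG v))
        obtain ⟨-, -, e2⟩ := hconj k2 ((hG u).mul hV (hG w))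
        obtain ⟨-, -, e3⟩ := hconj k3 ((hG v).mul hV (hG w))
        obtain ⟨-, -, e0⟩ := hconj k0 (((hG u).mul hV (hG v)).mul hV (hG w))
        have h7 := D.q_seven hu2 hv2 hw2 (hcomm huv) (hcomm huw) (hcomm hvw)
        rw [e0, e1, e2, e3, e4, e5, e6] at h7
        have hk := D.q_mem_ker (hrep2 c hc)
        have hqq := D.sq hk
        have val : ∀ d, d ≤ c → D.q (rep d) = D.q (rep c) ^ (if d = c then 1 else 0) := fun d hd => by
          split_ifs with h
          · rw [h, pow_one]
          · rw [pow_zero]
            exact ih d (lt_of_le_of_ne hd h) (lt_of_le_of_lt hd hc)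
        rw [val _ c0, val _ c1, val _ c2, val _ c3, val _ c4, val _ c5, val _ c6] at h7
        simp only [← pow_add] at h7
        set n0 := (if a0.1 = c then 1 else 0) with hn0
        set n1 := (if a1.1 = c then 1 else 0) + (if a2.1 = c then 1 else 0) + (if a3.1 = c then 1 else 0)
          + ((if a4.1 = c then 1 else 0) + (if a5.1 = c then 1 else 0) + (if a6.1 = c then 1 else 0))
          with hn1
        have hn : (n0 + n1) % 2 = 1 := by
          simp only [List.countP_cons, List.countP_nil, beq_iff_eq] at hcnt
          rw [hn0, hn1]; omega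
        have h8 : D.q (rep c) ^ (n0 + n1) = 1 := by
          rw [pow_add, h7, ← pow_add, ← two_mul, pow_mul, sq, hqq, one_pow]
        obtain ⟨m, hm⟩ : ∃ m, n0 + n1 = 2 * m + 1 := ⟨(n0 + n1) / 2, by omega⟩
        rwa [hm, pow_succ, pow_mul, sq, hqq, one_pow, one_mul] at h8
  have hsqOne : ∀ {y : ℕ × ℕ} {x : ↥(stabL hV)} {d : List ℕ}, C.qOK y d = true → Rep hV x d →
      x * x = 1 ∧ SqOne τ x := by
    intro y x d h hx
    obtain ⟨hc, h2x, he⟩ := hconj h hx
    exact ⟨h2x, D.sqOne_iff.2 (he.trans (hclass _ hc))⟩
  have hgsq : ∀ j, j < C.T.k → G j * G j = 1 ∧ SqOne τ (G j) := fun j hj =>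
    hsqOne (List.all_eq_true.1 hgw j (List.mem_range.2 hj)) (hG j)
  have hrepW : ∀ w : List ℕ, Rep hV (w.map G).prod (wordC C.cs w) := fun w =>
    Rep.prod hV fun a _ => hG a
  have key : ∀ (L : ℕ → E), (∀ j, τ (L j) = G j) → ∀ w y, C.whyOK w y = true →
      (w.map L).prod = 1 := by
    intro L hL w y h
    have hLw : ∀ v : List ℕ, τ (v.map L).prod = (v.map G).prod := fun v => by
      rw [map_list_prod, List.map_map]
      exact congrArg List.prod (List.map_congr_left fun a _ => hL a)
    cases y with
    | sq x =>
      simp only [Rel.whyOK, Bool.and_eq_true, beq_iff_eq] at h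
      rw [h.1, List.map_append, List.prod_append]
      exact (hsqOne h.2 (hrepW _)).2 _ (hLw _)
    | comm la x ts =>
      simp only [Rel.whyOK, Bool.and_eq_true, beq_iff_eq, List.all_eq_true, decide_eq_true_eq] at h
      obtain ⟨⟨⟨⟨hw, hlt⟩, hb⟩, hts⟩, hall⟩ := h
      set a := w.take la
      set b := (w.take (w.length / 2)).drop la
      have hrev : ∀ v : List ℕ, (∀ j ∈ v, j < C.T.k) →
          (v.reverse.map L).prod = ((v.map L).prod)⁻¹ := by
        intro v hv
        induction v with
        | nil => simp
        | cons j v ih =>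
          rw [List.reverse_cons, List.map_append, List.prod_append,
            ih fun i hi => hv i (List.mem_cons_of_mem _ hi), List.map_cons, List.map_nil,
            List.prod_singleton, List.map_cons, List.prod_cons, mul_inv_rev,
            inv_eq_of_mul_eq_one_right ((hgsq j (hv j List.mem_cons_self)).2 _ (hL j))]
      have hlta : ∀ j ∈ a, j < C.T.k := fun j hj => hlt j (List.mem_of_mem_take hj)
      have hltb : ∀ j ∈ b, j < C.T.k := fun j hj =>
        hlt j (List.mem_of_mem_take (List.mem_of_mem_drop hj))
      obtain ⟨-, hB2⟩ := hsqOne hb (hrepW b)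
      set B := (b.map L).prod with hB
      have hBB : B * B = 1 := hB2 _ (hLw b)
      choose S hS using fun t : ℕ => D.surj (G t)
      have hSB : ∀ t ∈ ts, Commute (S t.1) B := by
        intro t ht
        obtain ⟨⟨h1, h2'⟩, -⟩ := hall t ht
        have e1 : S t.1 * S t.1 = 1 := (hsqOne h1 (hG _)).2 _ (hS _)
        have e2 : S t.1 * B * (S t.1 * B) = 1 :=
          (hsqOne h2' ((hG _).mul hV (hrepW b))).2 _ (by rw [map_mul, hS, hLw])
        calc S t.1 * B = (S t.1 * B)⁻¹ := eq_inv_of_mul_eq_one_left e2
          _ = B * S t.1 := by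
            rw [mul_inv_rev, inv_eq_of_mul_eq_one_right hBB, inv_eq_of_mul_eq_one_right e1]
      set A := (a.map L).prod with hA
      set A' := ((ts.map fun t => t.1).map S).prod with hA'
      have hk : A'⁻¹ * A ∈ τ.ker := by
        rw [MonoidHom.mem_ker, map_mul, map_inv, hA, hLw, hA', map_list_prod, List.map_map,
          inv_mul_eq_one]
        refine Rep.eq hV hne (g := ((ts.map fun t => t.1).map (τ ∘ S)).prod) ?_ (hrepW a)
        rw [← hts, show (τ ∘ S) = G from funext hS]
        exact hrepW _
      have hcA' : Commute A' B := Commute.list_prod_left _ _ fun s hs => by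
        rw [List.map_map] at hs
        obtain ⟨t, ht, rfl⟩ := List.mem_map.1 hs
        exact hSB t ht
      have hcomm : Commute A B := by
        rw [show A = A' * (A'⁻¹ * A) by rw [mul_inv_cancel_left]]
        exact hcA'.mul_left (D.comm hk B).symm
      rw [hw, List.map_append, List.map_append, List.map_append, List.prod_append, List.prod_append,
        List.prod_append, hrev a hlta, hrev b hltb, ← hA, ← hB, hcomm.eq]
      group
  have hwords : ∀ (L : ℕ → E), (∀ j, τ (L j) = G j) →
      ∀ w ∈ C.P.words ++ C.T.words, (w.map L).prod = 1 := by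
    intro L hL w hw
    have hwT : w ∈ C.T.words := by
      rcases List.mem_append.1 hw with h | h
      · have h' := List.all_eq_true.1 hsub w h
        rw [List.any_eq_true] at h'
        obtain ⟨v, hv, e⟩ := h'
        rw [beq_iff_eq] at e
        exact e ▸ hv
      · exact h
    obtain ⟨i, hi, rfl⟩ := List.getElem_of_mem hwT
    refine key L hL _ (C.why[i]'(by omega)) (List.all_eq_true.1 hww (_, _) ?_)
    rw [List.mem_iff_getElem]
    exact ⟨i, by simp [List.length_zip]; omega, by simp⟩
  choose L₀ hL₀ using fun j => D.surj (G j)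
  have hwG : ∀ w ∈ C.P.words ++ C.T.words, (w.map G).prod = 1 := by
    intro w hw
    have := congrArg τ (hwords L₀ hL₀ w hw)
    rw [map_one, map_list_prod, List.map_map] at this
    rwa [show (τ ∘ L₀) = G from funext hL₀] at this
  simp only [Rel.elsOK, Bool.and_eq_true, beq_iff_eq, decide_eq_true_eq] at hels
  obtain ⟨⟨⟨he0, hetree⟩, hekey⟩, hnd⟩ := hels
  simp only [Rel.pairsOK, Bool.and_eq_true, beq_iff_eq, decide_eq_true_eq] at hpairs
  obtain ⟨⟨⟨⟨⟨hp0, hpone⟩, hpfix⟩, hptree⟩, hppos⟩, hpmono⟩ := hpairs
  have hPlen : C.P.tree.length + 1 = C.P.N := by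
    simp only [Tab.ok, Bool.and_eq_true, decide_eq_true_eq] at hP
    exact hP.1.2
  have hTlen : C.T.tree.length + 1 = C.T.N := by
    simp only [Tab.okR, Bool.and_eq_true, decide_eq_true_eq] at hT
    exact hT.1.1.2
  have hel : ∀ t, t < C.P.N → Rep hV (C.P.phi G t) (unpackC (get2 C.els t)) := by
    intro t
    induction t using Nat.strong_induction_on with
    | _ t ih =>
      intro ht
      rcases t with _ | t
      · rw [Tab.phi_zero, he0]
        exact rep_one hV
      · have h := List.all_eq_true.1 hetree (t, C.P.tree.getD t (0, 0)) (List.mem_iff_getElem.2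
          ⟨t, by simp [List.length_zip]; omega,
            by simp [List.getD_eq_getElem?_getD, List.getElem?_eq_getElem (show t < C.P.tree.length by omega)]⟩)
        simp only [Rel.elOK, Bool.and_eq_true, beq_iff_eq, decide_eq_true_eq] at h
        obtain ⟨he, hlt⟩ := h
        have hp := (hG (C.P.tree.getD t (0, 0)).1).mul hV (ih _ hlt (by omega))
        rw [Tab.phi, if_pos (by simp only [Nat.add_sub_cancel]; omega)]
        simp only [Nat.add_sub_cancel]
        rw [he]
        exact hp
  have hinjP : ∀ l l', l < C.P.N → l' < C.P.N → C.P.phi G l = C.P.phi G l' → l = l' := by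
    intro l l' hl hl' he
    have e1 : keyC (unpackC (get2 C.els l)) = keyC (unpackC (get2 C.els l')) :=
      keyC_eq hV (hel l hl) (he ▸ hel l' hl')
    have a := List.all_eq_true.1 hekey l (List.mem_range.2 hl)
    have b := List.all_eq_true.1 hekey l' (List.mem_range.2 hl')
    rw [beq_iff_eq] at a b
    rw [a, b] at e1
    exact List.inj_on_of_nodup_map hnd (List.mem_range.2 hl) (List.mem_range.2 hl') e1
  set p0 := get2 C.pairs 0 with hp0def
  have hone : pairAct hV 1 p0 = p0 := by
    rw [← pairImg_eq hV (rep_one hV) hp0]; exact hpone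
  let S : Subgroup ↥(stabL hV) :=
    { carrier := {g | pairAct hV g p0 = p0}
      one_mem' := hone
      mul_mem' := fun {a b} ha hb => by
        show pairAct hV (a * b) p0 = p0
        rw [pairAct_mul, hb, ha]
      inv_mem' := fun {a} ha => by
        show pairAct hV a⁻¹ p0 = p0
        conv_lhs => rw [← ha]
        rw [← pairAct_mul, inv_mul_cancel, hone] }
  have hPk : C.P.k ≤ C.T.k := by
    simp only [Tab.okR, Bool.and_eq_true, decide_eq_true_eq] at hT
    exact hT.1.1.1.2
  have hPtree : C.P.treeKnown C.P.tree 1 0 ≠ none := by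
    intro e
    simp only [Tab.ok, Bool.and_eq_true, decide_eq_true_eq] at hP
    rw [e] at hP; simp at hP
  have hfix : ∀ l, l < C.P.N → pairAct hV (C.P.phi G l) p0 = p0 :=
    Tab.phi_mem (U := S) hPlen hPtree fun j hj => by
      show pairAct hV (G j) p0 = p0
      have h := List.all_eq_true.1 hpfix j (List.mem_range.2 hj)
      rw [beq_iff_eq] at h
      rw [← pairImg_eq hV (hG j) hp0]
      exact h
  have hpair : ∀ t, t < C.T.N → pairAct hV (C.T.phi G t) p0 = get2 C.pairs t := by
    intro t
    induction t using Nat.strong_induction_on with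
    | _ t ih =>
      intro ht
      rcases t with _ | t
      · rw [Tab.phi_zero, hone]
      · have h := List.all_eq_true.1 hptree (t, C.T.tree.getD t (0, 0)) (List.mem_iff_getElem.2
          ⟨t, by simp [List.length_zip]; omega,
            by simp [List.getD_eq_getElem?_getD, List.getElem?_eq_getElem (show t < C.T.tree.length by omega)]⟩)
        simp only [Rel.pairOK, Bool.and_eq_true, beq_iff_eq, decide_eq_true_eq] at h
        obtain ⟨he, hlt⟩ := h
        rw [Tab.phi, if_pos (by simp only [Nat.add_sub_cancel]; omega)]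
        simp only [Nat.add_sub_cancel]
        rw [pairAct_mul, ih _ hlt (by omega), he, pairImg_eq hV (hG _)]
        rw [← ih _ hlt (by omega)]
        exact pairAct_lt hV _ _
  have hsm : ∀ b, ∀ a, a < b → b < C.T.N →
      get2 C.pairs (get2 C.srt a) < get2 C.pairs (get2 C.srt b) := by
    intro b
    induction b with
    | zero => intro a ha; omega
    | succ b ih =>
      intro a ha hb
      have h := List.all_eq_true.1 hpmono b (List.mem_range.2 (by omega))
      rw [decide_eq_true_eq] at h
      rcases Nat.lt_or_ge a b with hab | hab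
      · exact lt_trans (ih a hab (by omega)) h
      · rwa [show a = b by omega]
  refine no_double_of_cosets hτ h2 C.P C.T G hP hT (fun j hj => (hgsq j hj).1) hwG ?_ hinjP ?_ hodd
  · exact fun L hL => ⟨fun j hj => (hgsq j hj).2 _ (hL j), hwords L hL⟩
  · intro i i' l hi hi' hl he
    have e1 : get2 C.pairs i = get2 C.pairs i' := by
      rw [← hpair i hi, he, pairAct_mul, hfix l hl, hpair i' hi']
    have hpi := List.all_eq_true.1 hppos i (List.mem_range.2 hi)
    have hpi' := List.all_eq_true.1 hppos i' (List.mem_range.2 hi')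
    simp only [Bool.and_eq_true, beq_iff_eq, decide_eq_true_eq] at hpi hpi'
    rcases Nat.lt_trichotomy (get2 C.rank i) (get2 C.rank i') with h | h | h
    · have := hsm _ _ h hpi'.2
      rw [hpi.1, hpi'.1] at this; omega
    · rw [← hpi.1, h, hpi'.1]
    · have := hsm _ _ h hpi.2
      rw [hpi.1, hpi'.1] at this; omega

end CfsgLib.Leech.Mult
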