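import Cfsg.Agent.Lib.Leech.Mult.Odd

/-!
Data: images of the basis under elements of the stabilizer of a vector.
-/

set_option autoImplicit false

namespace CfsgLib.Leech.Mult

/-- images of the basis -/
def threeW0 : List (List (List ℤ)) := [
  [[-2, -2, -2, 0, -2, 0, 0, 0, 0, 0, 0, 0, 0, -2, 0, 0, -2, 0, 0, 0, 0, 0, -2, -2], [0, 0, -2, 0, 0, -2, 0, 0, 0, -2, -2, 0, 0, 0, -2, 0, 0, 0, 0, -2, 0, -2, 0, -2], [0, 2, 0, 0, 0, -2, 0, 2, 0, 0, 0, 0, 0, 0, -2, 0, 2, 0, 0, 0, 0, -2, 2, -2], [0, 2, 2, 2, 0, 0, 0, 0, 0, 0, 2, 2, 0, 0, 0, 0, 2, 0, 0, 0, 0, 2, 0, 2], [-1, -1, -1, -1, -1, 1, -1, 1, -1, 1, 3, 1, 1, -1, 1, -1, -1, -1, -1, -1, 1, 1, -1, -1], [0, 2, -2, 2, 2, 0, 0, 0, 0, 0, 0, 0, 0, 0, -2, 0, 0, 0, 0, -2, 0, -2,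 2, 0], [-1, -3, -1, 1, -1, 1, -1, 1, -1, 1, 1, 1, -1, -1, 1, -1, -1, 1, 1, -1, -1, 1, -1, 1], [2, 0, 0, 0, 0, -2, 0, 2, 2, -2, 0, 0, 0, 0, 0, 0, 2, 0, 0, -2, 0, -2, 0, 0], [3, -1, -1, -1, 1, 1, -1, 1, -1, 1, -1, -1, -1, -1, 1, 1, -1, -1, -1, 1, -1, -1, 1, -1], [0, 0, 0, 2, 0, -2, 2, 0, 0, 0, 0, 0, -2, 0, 0, 2, 0, 0, 2, 0, -2, -2, 0, 0], [1, -1, -1, 1, 1, 1, -1, -1, -1, -1, -1, -1, 1, 1, 3, -1, -1, -1, 1, -1, -1, -1, -1, 1], [2, 0, 0, -2, 0, 0, 0, 0, 0, 0, 2, -2, 2, 0, 0, 0, -2, -2, 0, 2, 2, -2, 2, -2], [0, 2, 0, -4, 0, 0, 0, 2, 0, 2, 0, -4, 0, -2, 2, 0, 0, 0, 2, 2, 0, -2, 4, -4], [-2, 2, -2, 4, 0, 0, 0, -2, 0, 2, -2, -2, -2, -2, -2, 2, -2, 0, 2, 2, 0, -2, 2, 4], [-1, -1, -3, 3, 1, 3, -1, -3, -1, 1, -1, 1, 1, 1,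 -1, 1, -3, -1, -1, -3, -1, -1, 1, 5], [3, -3, -1, -3, -1, 1, 1, -1, 1, 1, -1, 3, -1, -1, -1, 1, 1, 1, -1, -3, 1, 1, -1, -1], [-2, 4, -2, -2, -2, -2, 2, 0, 2, 2, 0, 0, 0, -2, -4, -2, 0, 2, 0, 2, 2, 2, 2, -2], [2, -2, 2, -2, -2, 2, 2, 2, 2, -2, 2, 2, 2, 2, 2, -2, -2, 2, 2, -2, 2, -2, 2, 2], [-5, -5, 3, -3, -1, 1, 1, -9, 1, -1, -3, -3, -1, 7, 5, 3, -7, 1, -1, 1, 1, -1, -3, -1], [0, 2, -2, -2, -2, 2, 2, 0, 2, 4, -2, -4, -2, -4, 0, 2, 4, 2, -2, 2, 2, 2, 0, 2], [1, 1, -3, -1, 1, -1, -1, -3, -1, 1, 3, 3, 1, 1, -1, 5, -1, -1, -3, -5, -1, -3, -1, -3], [-1, -1, -1, 1, 3, 1, -3, 1, -3, 1, -3, -3, 1, -1, 1, -3, -1, -3, 1, 1, -3, 1, 3, -1], [3, 1, 5, 1, -1, 1, 1, 1, 1, 7, 5, 3, -7, 1, 1, -1, 5, 1, 3, 1, 1, 5, 3, 3], [-1, 5,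 1, 1, -1, -3, 1, 1, 1, -1, 5, -1, 1, 1, 1, 3, 1, 1, -1, 1, 1, -3, -1, -1]],
  [[0, 0, 0, -2, 0, 0, -2, 0, 0, 0, -2, -2, 0, 0, 0, -2, 0, 0, 0, 0, -2, 0, -2, -2], [-1, -1, -1, -1, -1, -1, -1, 1, -1, 1, 1, -1, -1, -1, 1, -1, -1, -1, 1, -1, 1, -1, 1, -3], [0, 0, 0, 0, -2, -2, 0, 2, 0, 0, 0, 2, 0, -2, 0, 0, 0, 0, 0, 0, 2, 0, 2, -2], [0, 2, 2, 0, 0, 0, 2, 0, 0, 0, 0, 2, 0, 2, 0, 0, 0, 2, 0, 0, 2, 0, 0, 2], [0, 2, 0, 0, 0, 0, -2, 0, -2, -2, -2, 0, 0, 0, 0, 0, 0, 2, 0, 0, -2, 0, -2, 0], [0, 0, -2, 0, 0, -2, 0, 2, 0, 0, 0, 0, 0, 0, 0, 0, 0, 0, 2, -2, 2, -2, 2, 0], [1, 1, 1, -1, 1, 1, -3, -1, 1, -1, -1, -1, -1, 1, -1, -1, -1, 1, 1, -1, -1, 1, -1, 1], [-1, 1, 1, 1, -1, -1, -1, 1, -1, 1, 3, 1, -1, -1, 1, -1, 1, -1, 1, -1, 1,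 1, 1, -1], [0, 0, -2, 2, 0, 0, -2, 0, 0, 0, 0, 0, 0, 0, -2, 0, 0, -2, -2, 0, -2, 0, 2, 0], [0, 0, 0, -2, 0, 0, 0, 0, 2, 0, 0, 0, -2, 0, 0, -2, 2, -2, 0, 0, 2, 0, 2, 0], [-1, 1, -1, 1, 1, 1, -1, -1, 1, -1, 1, -1, -1, 1, 1, 1, -1, -3, 1, -1, -1, -1, -1, 1], [-1, 1, -3, 1, 1, -1, 1, 1, -1, -1, -1, 1, 1, -3, 1, 1, 1, -1, -1, 1, -3, 1, 1, -1], [2, -2, 0, 2, -2, -2, 0, 2, 2, -2, -2, 2, 0, -4, 0, 2, 2, -2, -2, 0, -4, 0, 2, -2], [1, -1, -1, -1, 3, -1, 1, 1, 5, 3, -3, -1, 1, 1, -1, -1, 1, -1, 3, 1, 1, -3, 3, 1], [1, 1, -3, -1, 3, 1, -1, -1, -1, 1, -1, -3, 1, 3, -1, 1, -1, -1, 5, -1, 1, -3, 1, 3], [1, -1, 1, 1, -1, 1, -1, -1, -5, 1, 1, -3, -1, -1, -1, -3, -1, 1, -1, -1, -1, 1, 1, 1], [2, -2, 2, -2, 0, -2, 2, 4, 0, 2, -2,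 0, 2, -4, 0, 0, 0, 4, -2, 0, 0, -2, 0, -2], [4, 2, 0, 0, 2, 0, 0, 0, -2, -2, 4, 0, 0, -2, 4, 0, 0, 0, 2, 0, -2, 4, 0, 2], [0, -6, -4, -4, 2, 2, 4, -8, 0, -2, 2, -6, -2, 0, 0, 2, 2, -4, 2, 6, -4, 0, -6, 0], [3, -3, 3, 5, -1, 1, 1, 3, 1, 5, -3, -1, 1, -1, -3, -1, 3, 1, -1, 1, -1, -1, -1, 1], [-2, 2, -4, -2, -4, 0, 0, 0, -6, -2, 0, -2, -2, 0, -2, -2, 2, 0, 2, 0, 0, -4, 2, 0], [-1, -1, -1, 1, 1, -1, -3, -1, 3, -1, -3, 1, 1, 1, -1, 5, -3, -3, -1, -3, -1, -1, 1, -1], [3, 1, 7, 3, 3, -1, 3, -1, 1, -3, -1, 3, -3, -1, -5, -1, 1, 5, -3, 1, 3, 3, 3, 7], [-1, 3, -1, -1, -3, -1, 3, 3, 1, -1, 1, 3, -1, -1, 1, -1, 5, 1, 1, 3, 1, -1, -1, -1]],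
  [[-1, -1, -1, -1, 1, -1, -1, -1, -1, -1, 1, 1, -1, -1, 1, -1, 1, -1, -1, 1, -1, -1, 1, -3], [-1, 1, -1, -1, 1, -1, -1, -1, 1, 1, -1, -1, -1, 1, -1, -1, -1, -1, 1, -1, 1, -1, -1, -3], [1, 1, 1, -1, -1, -1, -1, -1, 1, 1, -1, -1, 1, 1, -3, 1, -1, -1, 1, 1, 1, -1, -1, -1], [0, 0, 0, 0, 0, 2, 0, 2, 0, 0, 0, 0, 2, 2, 0, 2, 0, 0, 0, 2, 0, 2, 0, 2], [-1, -1, 1, -1, 1, -1, 1, -1, -1, -3, 1, -1, 1, -1, 1, 1, 1, -1, -1, 1, -1, 1, 1, -1], [0, 2, 0, 0, 0, 0, 0, -2, 0, 0, 0, 0, 0, 2, 0, 0, -2, -2, 2, 0, 2, 0, -2, 0], [-2, -2, 0, 0, 2, 0, 0, 0, -2, -2, 2, 2, 0, 0, 0, 0, 2, 0, 0, 0, 0, 0, 0, 0], [0, 0, 0, 0, 2, -2, 0, 0, 0, 2, -2, -2, 0, 2, -2, 0, 0, 0, 2, 0, 0, 0, 0, 0], [0, 0, 2, 0, -2, -2, 2, 0, -2, 0, 0, 0, 0, 0, 0, -2, 0,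 0, 0, -2, 0, -2, 0, 0], [0, 2, 0, 0, 0, 0, -2, 0, -2, 2, 0, 2, -2, 2, -2, 0, 0, 0, 0, 0, 0, 0, 0, 0], [-1, 1, -1, 1, 1, -1, 1, 1, -1, -1, -1, 1, -1, -1, 1, -1, 1, -1, 1, -3, -1, 1, -1, 1], [2, 2, 2, 0, -2, -2, 0, -2, 0, -2, -2, -2, 0, -2, 0, -2, 0, 0, 0, 0, 0, 0, 2, 0], [5, 1, 1, -1, -3, -3, 1, -3, -1, -1, -1, 1, 1, -3, -3, 1, -1, 1, 1, -1, -1, -3, 1, -1], [0, 4, -2, 0, -2, 2, -2, -2, -2, 2, 2, 4, 0, 0, 2, -2, 0, 0, 2, 2, 2, -2, -2, 2], [-3, 3, -1, 3, 1, 1, 1, -1, -1, -1, 3, 1, -1, 1, 5, -1, 1, -1, 1, -1, 3, 1, -3, 1], [-2, -2, 0, 0, 2, 0, 4, 0, 0, 0, 0, -2, -2, 2, 0, 0, 0, 2, -2, 0, 2, -2, 2, -2], [2, 0, 0, -2, 0, 2, -2, -2, 2, 0, 0, 0, 2, -2, 0, 2, -4, 0, 0, 4, 2, -4, 2, -2], [1, -1, 1, 3, 3, -1, 1, -1, 1, -1,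 -1, -1, -1, -1, -1, 1, 3, 1, 3, -1, 3, 3, 5, 1], [-1, -1, -5, 3, -3, -1, -3, -1, 1, 1, 1, 1, -9, -7, 5, -1, 1, 5, -5, -5, -1, 5, 1, -1], [3, -1, -3, -1, -1, 1, 3, -1, -1, 3, 3, -1, 1, -1, 1, 1, -1, 1, -1, 3, -1, -7, 1, 3], [-3, 3, 1, -1, -1, -3, 1, -3, -1, -1, -1, -3, -3, 5, 3, 3, -1, -1, -3, -1, 1, 1, -1, -3], [1, 1, 1, 1, -1, -1, 1, 1, -1, -3, 1, 3, 3, -3, -1, -3, -1, -1, 1, -3, -1, -1, -5, -1], [1, -3, 3, -1, -1, 5, 3, 3, -5, -1, 1, 1, 1, 1, -5, 5, -1, 5, -1, 5, 3, 1, 1, 7], [2, 2, 0, -2, -2, -2, -4, -2, 0, 2, -2, -2, 0, 2, 0, 4, 0, -2, 0, 2, -2, 2, 2, 2]],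
  [[0, 0, 0, 0, 0, -2, -2, 0, 0, -2, -2, 0, -2, -2, 0, 0, 0, 0, 0, 0, -2, 0, 0, -2], [-1, -1, 1, 1, -1, 1, -1, -1, 1, -1, 1, -1, 1, -1, -1, 1, -1, -1, -1, -1, -1, -1, -1, -3], [1, 1, 1, 1, -1, 1, 1, -1, 1, 1, 1, -1, 1, 1, -1, 1, 1, -1, -1, 1, 1, -1, -1, -3], [0, 2, 2, 0, 0, 0, 2, 0, 0, 0, 0, 2, 0, 2, 0, 0, 0, 2, 0, 0, 2, 0, 0, 2], [1, 1, -1, 1, 1, -3, -1, -1, -1, -1, -1, 1, -1, 1, 1, -1, -1, 1, 1, 1, -1, 1, -1, -1], [-1, 1, 1, 1, -1, 1, 1, -1, 1, -1, 1, -1, 3, 1, -1, 1, 1, -1, 1, -1, -1, 1, -1, -1], [0, 0, 0, 0, 0, 0, -2, 0, 0, -2, -2, 0, -2, 0, 2, 0, 0, 2, 2, 0, 0, 2, 0, 0], [1, -1, 1, 1, -1, 1, 1, -1, 1, -1, 3, -1, 1, -1, 1, 1, -1, 1, -1, 1, 1, -1, -1, -1], [1, -1, -3, -1, -1, 1, 1, 1, -1, 1, -1, -1, 1, -1, 1,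 1, -1, -1, 1, 1, -1, 1, -1, -1], [0, 0, 0, -2, -2, 2, 0, 0, 2, -2, 0, 0, 0, 0, 0, 2, 2, 0, -2, 0, 0, 0, 0, 0], [-1, -1, -1, -1, -1, 1, -1, -1, -1, -1, 1, 1, 1, -1, 3, -1, -1, -1, 1, -1, -1, 1, 1, 1], [1, -1, -3, 1, 1, -1, 1, -1, -1, 1, 1, 1, 1, -1, -1, -1, 1, -3, -1, 3, -1, 1, -1, -1], [3, -1, -1, -1, -1, -1, 1, 1, -1, 3, 1, -3, -1, 1, 1, -1, 3, -5, -1, 3, -1, 1, -1, -3], [-3, 1, 1, 1, -3, 1, 1, 1, 1, -1, -3, -1, 1, -1, -1, 3, 5, -3, 1, -1, -1, 1, 1, 3], [-4, 0, 0, 0, 0, 0, -2, -2, 0, -2, -2, 0, 4, 0, 0, 2, 0, 0, 4, -2, -2, 2, 0, 4], [0, -2, 0, 0, 0, 0, -2, 2, 0, 0, 0, -2, 0, 0, -2, 0, -4, 4, 0, 2, -2, 0, -2, 0], [-1, 1, 3, 3, 1, -3, 1, 3, 3, 3, -1, -1, -1, 1, -3, -1, 3, -1, -1, 1, -1, -1, -1, -3], [3, -3, 1, 1,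 3, 1, -3, -1, 1, -1, 3, 1, 1, -1, 1, -3, 1, 1, 1, 3, 1, 1, -3, 3], [-3, -5, -5, -5, 5, -1, -7, -1, -5, -1, -1, -1, -1, -3, -1, -3, 3, -1, -5, -5, -3, -3, 3, 5], [1, 1, 1, 1, -3, -3, 3, 3, 1, 5, -1, -5, -3, -1, -1, 1, 1, 1, 1, 1, -3, -1, 1, 3], [-2, 2, -2, -2, 0, -2, -2, -2, -2, -2, 2, 0, 4, 2, -2, 4, -2, 2, -2, 0, -4, 0, -4, -2], [-1, -1, -1, -1, -1, 1, 1, -1, -1, 1, -3, -1, 1, 1, 3, -1, -1, -5, 3, -1, 1, 3, 3, -3], [2, 0, 0, 0, -2, 2, 4, 4, 0, 2, -2, 0, -2, 8, 0, -2, 4, 8, 0, 4, 4, 2, 0, 4], [2, 4, 0, 0, 0, -2, 2, -2, 0, 0, 4, 2, 0, 0, 0, 2, 4, 0, -4, 0, 0, -2, -2, 0]],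
  [[0, 0, 0, 0, -2, 0, 0, -2, -2, -2, 0, 0, 0, 0, 0, 0, -2, -2, 0, 0, 0, 0, -2, -2], [-1, -1, -1, -1, -1, -1, -1, -1, 3, -1, -1, -1, -1, -1, -1, -1, -1, -1, -1, -1, -1, -1, -1, -1], [1, -1, -1, 1, 1, -1, -1, -1, 3, 1, -1, -1, 1, -1, -1, -1, 1, -1, -1, 1, -1, -1, 1, -1], [2, 0, 0, 0, 2, 0, 0, 0, 0, 2, 0, 2, 0, 0, 0, 2, 0, 0, 2, 0, 0, 0, 2, 2], [1, 1, -1, 1, -1, -1, -1, -1, -3, -1, 1, -1, -1, 1, 1, 1, -1, -1, 1, 1, -1, 1, 1, -1], [-1, -1, -1, -1, 1, -1, -1, -1, 3, -1, 1, 1, -1, -1, 1, -1, 1, -1, -1, 1, -1, -1, 1, 1], [1, -1, 1, 1, -1, 1, -1, -1, -3, -1, 1, 1, -1, 1, 1, -1, -1, -1, 1, -1, -1, 1, -1, 1], [0, -2, 0, 0, 0, -2, 0, 0, 2, 0, -2, -2, 0, 0, -2, 0, 0, 0, 0, 0, -2, 0, 0, 2], [-1, -1, 1, 1, -1, -1, -1, 3, -1,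 -1, 1, -1, 1, -1, 1, -1, 1, 1, -1, 1, -1, -1, -1, -1], [0, -2, 2, 0, 0, 0, 0, 0, 2, 0, 0, 2, 0, 0, -2, 0, 2, -2, 0, 0, 0, 0, -2, 0], [-3, 1, 1, -1, -1, -1, -1, 1, -1, -1, -1, 1, -1, 1, 1, -1, 1, 1, 1, -1, -1, 1, -1, 1], [0, 2, -2, 0, 0, -2, 0, 2, 0, -2, 0, -2, 2, 0, 0, 0, 2, 0, -2, 2, 0, 2, 0, -2], [0, 0, 0, 2, 2, 0, 0, 0, 0, 0, -2, -4, 2, 0, 2, -2, 4, 0, -2, 4, 0, 0, -2, -4], [0, 0, 0, 0, 0, 2, 2, 0, 2, -2, 0, 6, 0, -2, 2, -2, 2, -2, -2, 2, 2, -2, -2, 2], [-2, 2, 0, -2, -2, 0, 0, 0, 0, -2, 4, 4, -4, -2, 2, -2, 0, 0, 0, 0, 0, 0, 0, 4], [2, -2, 2, -2, -2, 0, 0, 2, 0, 0, 2, -4, -2, 0, 0, 0, -4, 0, 0, 0, 0, 0, 0, 0], [2, 0, -4, 0, 2, 2, 2, -2, 2, 2, 0, -2, 2, 0, 2, 0, -2, -4, -2, 2, 2, -2, 0, -2], [0, 0, 0, 0, 0, 0,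 0, 0, 0, 0, 0, -4, 0, 0, 0, 0, 0, 0, 0, 0, 0, 8, 0, 4], [-5, 3, 1, -5, -7, 5, 5, -1, -3, -1, 1, 1, -3, 1, -3, 1, 3, 5, -1, -3, 5, 5, -3, -5], [1, -1, 1, 1, 1, 3, 3, 1, -1, 1, -1, -1, 1, 1, 1, -1, -3, 1, -1, 7, 3, -5, -1, 1], [0, 0, 0, -4, -4, -2, -2, 0, 2, -2, 4, -2, -4, -2, -2, 2, 2, -2, 2, 2, -2, -2, 2, -2], [-2, 2, 0, 2, 2, -2, -2, 0, -2, 0, 0, 2, 0, 0, 4, -4, 2, 2, -2, -2, -2, -2, -2, -2], [8, -6, 2, 2, 4, 2, 2, 4, -2, 6, 2, 2, 0, 4, 2, 0, 2, 0, 2, 2, 2, 2, 4, 2], [0, 0, -2, 0, 0, 0, 0, -2, 2, 0, -2, 0, 2, 0, -4, 4, 4, -2, 2, 4, 0, 0, 2, 0]],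
  [[0, 0, 0, 0, -2, 0, 0, -2, -2, -2, 0, 0, 0, 0, 0, 0, -2, -2, 0, 0, 0, 0, -2, -2], [0, 0, -2, 0, 0, -2, 0, 0, 0, 0, 0, -2, -2, -2, -2, 0, -2, 0, 0, 0, 0, 0, 0, -2], [1, 1, -1, -1, 1, -3, -1, 1, 1, 1, 1, -1, 1, -1, -1, -1, -1, 1, -1, 1, -1, -1, 1, -1], [2, 0, 2, 0, 0, 0, 0, 2, 2, 0, 2, 0, 0, 0, 2, 0, 2, 0, 0, 0, 0, 0, 0, 2], [1, 1, 1, -1, -1, 3, -1, -1, -1, -1, 1, 1, -1, 1, 1, -1, -1, -1, -1, 1, -1, -1, -1, -1], [0, 0, -2, 0, 2, -2, 0, 0, 0, 0, 2, 0, -2, -2, 0, 0, 0, 0, 0, 2, 0, 0, 2, 0], [1, -1, 1, 1, -1, 1, -1, -1, -3, -1, 1, 1, -1, 1, 1, -1, -1, -1, 1, -1, -1, 1, -1, 1], [1, 1, -1, 1, 1, -1, -1, 1, 1, 1, 1, -1, -1, -1, -3, -1, -1, 1, -1, -1, 1, -1, -1, 1], [-2, 0, 0, 0, 0, 0, -2, 0, -2, 0, -2, 2, 0, 0, -2, 0,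 0, 0, -2, 0, 0, 0, 2, 0], [-1, -1, 1, 1, 1, -3, 1, 1, -1, -1, 1, -1, 1, -1, -1, -1, -1, -1, 1, -1, 1, -1, 1, 1], [-2, -2, 0, 2, 0, 2, 0, 0, -2, 2, 0, 0, -2, 0, 0, 0, 0, 0, 0, 0, 2, 0, 0, 0], [-1, 1, -1, -3, 1, 1, 1, -1, -1, 1, -1, 1, 1, 1, -1, 1, -1, 1, -3, 1, 1, -3, 1, -1], [-1, 1, -1, -1, 1, -1, -3, -3, -1, 1, -1, 1, 5, 1, -1, -1, -1, 3, -1, 1, 1, -3, 3, -3], [0, -2, 0, 0, 2, -4, 2, -2, -2, 0, 0, 2, 2, -4, 2, 2, 0, -2, 2, 2, 2, 2, 2, 2], [0, -2, -2, 2, 2, 2, 2, 0, -2, 0, 0, 2, -4, -2, 2, 2, 0, -4, 2, 2, 0, 2, 2, 2], [1, 3, -1, 1, -1, 1, -1, -1, 1, -3, -3, -1, -3, 1, -1, -1, -1, -1, -1, -3, -1, 1, 1, 1], [3, 5, -1, -3, -1, -3, 1, -3, 1, -1, 1, -1, 3, -1, 1, 1, 1, 1, 1, 1, -1, 1, 1, -3], [1, 3, -3, 1, 1, 3, 1, 1,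 -1, 1, 1, 1, -1, 3, 1, 1, -3, 3, 1, -3, 1, -3, -1, 3], [-7, -5, -3, -1, -1, 5, 7, -1, 1, -1, -7, 1, 1, 3, 1, -1, -1, -3, 7, -3, 3, -1, -3, -3], [2, 4, 2, 2, 2, -2, -2, -4, 2, -2, -4, 2, 4, 0, 0, 0, 2, 0, 0, 2, 2, 4, 0, 0], [0, 0, -2, 0, 0, 2, 2, 2, 2, -4, 0, 0, -4, -2, -2, -4, -2, -4, -2, 2, 0, -2, 4, -2], [-2, -4, 0, 0, 0, 0, -4, -2, -4, 4, 0, 0, 0, 0, 0, 2, 2, 0, 0, 2, -2, 0, 2, -2], [3, 3, 5, -3, 3, -1, -3, 1, 1, -1, 1, 1, 3, 3, 5, -5, 5, 1, 1, -5, -1, 1, 3, 7], [1, 1, 1, -1, 1, -1, 3, 3, 3, -1, 3, 1, 3, -1, -1, -3, -1, 1, -1, 3, 3, -3, -1, -1]],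
  [[0, 0, 0, -2, 0, -2, 0, 0, 0, -2, 0, 0, -2, 0, 0, 0, -2, -2, 0, 0, 0, -2, 0, -2], [0, 0, 0, 0, -2, 0, 0, 0, 0, 0, -2, -2, 0, 0, -2, 0, -2, 0, 0, -2, 0, 0, -2, -2], [0, 0, 0, 0, -2, 0, -2, -2, 0, 2, -2, -2, 2, 0, 0, 0, 0, 0, 0, 0, 0, 0, -2, 0], [1, -1, 1, 1, 1, 1, -1, -1, -1, 1, 1, 1, 1, 1, -1, 1, 1, -1, -1, 1, 1, 1, 1, 3], [-1, -1, 1, 1, 1, -1, -1, -1, 1, -1, 1, 1, -1, 1, 1, -1, -1, -3, 1, 1, -1, -1, 1, -1], [0, 0, 2, 0, -2, 2, 0, 0, 0, 0, -2, 0, 2, 2, 0, 0, 0, 0, 0, -2, 0, 0, -2, 0], [0, 0, 0, -2, 2, 0, 0, 0, 2, -2, 2, 0, -2, 2, 0, 0, 0, -2, 0, 0, 0, 0, 0, 0], [1, -1, -1, 1, -1, 1, -1, 1, 1, 1, -1, -3, 1, -1, -1, 1, -1, -1, 1, -1, -1, 1, -1, 1], [0, 0, 0, 0, 0, 0, 2, 0, 2, 0, 0, 0, 0, -2, 2, 0, 2, 0, 0, 0, -2,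 0, -2, -2], [2, 0, -2, -2, -2, 2, 0, 0, 0, 0, 0, 0, 0, 0, 0, 2, 0, 0, 0, 0, 2, 0, -2, 0], [0, 0, 0, 0, 0, 2, 2, 2, 2, 0, 2, 0, 0, 0, 0, 0, 0, 0, 0, -2, 0, 0, 2, -2], [-2, 0, 0, 2, -2, -2, 0, 0, 0, 0, 0, 0, 2, -2, 4, 0, 0, 0, 2, 0, 0, 0, 0, -2], [-1, -1, -1, -1, -1, -1, -1, -1, 1, 1, -1, -3, 3, -1, 5, -1, 1, 3, 1, 3, -1, -3, -1, -3], [0, 2, 2, -4, -4, 0, 2, 2, 0, -2, 0, 2, 2, 2, 0, 2, 2, 2, -2, 0, 2, -2, -2, 2], [-1, 3, 3, 1, -1, 3, 3, 3, 1, -3, 1, 3, -1, 3, -1, -1, 1, -1, -1, -3, 1, -1, -1, 1], [1, 1, -1, 3, 3, -1, 1, 1, -1, -1, -1, -1, -3, 1, -1, 1, -1, -1, 1, 1, -3, 1, -3, -1], [-1, -1, 1, -1, -1, -5, -1, -1, -3, 1, -5, -1, 1, 3, 1, -1, -1, 1, -1, 3, 1, -1, -1, 1], [-3, 1, -3, 3, 3, 1, 1, 1, 1, -1, 1, -3, 1, 1,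 3, 1, -3, -1, 3, -1, 1, 1, 1, 3], [-4, 4, -6, -2, 0, 2, 4, 4, -6, -4, 4, 4, -4, -4, -2, -4, -2, 4, 4, 0, 2, -2, 4, -4], [3, 1, 1, -1, -1, -3, 1, 1, -1, -1, -3, -1, -1, 1, 1, 1, 3, 3, -1, 5, -5, -3, 1, 3], [0, 0, 2, 4, -2, 4, 0, 0, -2, 0, -2, 2, -2, 0, -2, 0, 0, -4, 4, 0, 0, -2, -4, -4], [0, 0, 2, -2, 0, 0, 0, 0, 4, 0, 2, 0, 2, 0, 2, -4, 2, 2, -4, -2, 0, 0, 0, -4], [2, -2, -4, 0, 4, 0, -2, -2, -2, 2, 4, 2, 2, 6, 2, 2, 6, 0, 0, 6, -2, 4, -2, 6], [0, -2, 0, 0, -4, 2, -2, -2, -2, 2, -2, 0, 2, -2, 0, 2, 0, -2, 4, 2, 2, -2, 2, 2]],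
  [[0, 0, 0, -2, -2, 0, -2, 0, 0, -2, 0, -2, 0, -2, 0, 0, -2, 0, 0, 0, 0, 0, 0, -2], [-1, 1, 1, 1, 1, -1, 1, -1, -1, -1, -1, -1, -1, -1, -1, 1, -1, -1, 1, -1, -1, -1, -1, -3], [-1, 1, 1, 1, 1, -3, 1, -1, -1, 1, -1, -1, -1, 1, -1, 1, 1, -1, -1, 1, -1, -1, 1, -1], [1, -1, 1, 1, 1, 1, -1, -1, -1, 1, 1, 1, 1, 1, -1, 1, 1, -1, -1, 1, 1, 1, 1, 3], [1, -1, 1, -1, -1, 1, -3, 1, 1, -1, -1, -1, 1, 1, -1, -1, -1, 1, -1, 1, -1, 1, 1, -1], [-1, 1, 1, 3, 1, -1, 1, 1, -1, -1, 1, -1, 1, 1, -1, 1, 1, -1, 1, -1, -1, -1, 1, -1], [1, -1, 1, -1, -1, 1, -3, 1, -1, -1, 1, -1, -1, -1, 1, -1, -1, 1, 1, -1, -1, 1, 1, 1], [0, 0, 2, 0, 2, 0, 2, 0, 0, 0, -2, 0, -2, 0, 0, 2, 0, -2, 0, 0, -2, 0, 0, 0], [1, -1, -1, 1, -1, -1, 1, 3, 1, 1, -1, -1,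 -1, -1, 1, -1, 1, 1, -1, -1, -1, -1, -1, -1], [0, 0, 0, 0, 0, 0, 2, 0, -2, 0, 2, 0, -2, -2, 0, 2, 0, 0, 0, 0, 0, -2, 2, 0], [2, 0, 0, 0, 0, 2, 0, 2, 0, 0, 0, 2, 0, 0, 2, 0, 0, 0, 2, -2, 0, 0, 0, -2], [0, 0, 0, -2, 0, -2, 2, 2, 2, 0, -2, 0, 2, 2, 0, 0, 0, 2, -2, 0, 0, -2, 0, -2], [-1, -1, -1, -1, -3, -5, 3, 1, 1, 1, -1, -1, -1, 3, 3, -1, 1, 1, -1, 3, -1, -1, 1, -3], [-2, 2, 0, 2, -2, -2, 0, 2, -2, -2, 4, 0, 2, -2, 2, 2, 2, 0, 2, 0, 2, -4, 0, 2], [1, 3, 1, 3, -1, 3, -1, 3, -1, -3, 3, 1, 3, -1, -1, -1, 1, 1, 3, -3, -1, -1, -1, 1], [-1, -1, 1, 1, -1, 3, 1, -1, 1, 1, -1, -3, -1, -1, -1, -1, -3, 1, -1, -1, -3, 1, -3, 1], [-4, 0, 0, 0, 0, -4, 0, -4, 0, 0, 0, -4, 4, 0, 0, 0, 0, 0, 0, 4, 0, 0, 0, 0], [1, 1, 1, -3, 1, 1,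 3, 1, -1, -1, -3, 1, 1, 3, 1, 1, -3, 3, 1, -1, -3, 3, 1, 3], [-3, 3, -7, -7, -3, 7, 3, 1, -1, -3, 1, 5, -1, -1, -1, -5, -3, 3, 3, -1, 5, -1, -3, -3], [-2, 0, -2, 2, -4, 0, 0, -2, 4, 0, 0, -4, 0, 0, 4, 0, 2, -2, 0, 4, 0, -2, -2, 4], [0, 0, 2, 2, -2, 4, 2, 2, 0, 0, 0, -2, 0, 0, -8, 0, 0, 0, 0, 0, -2, -2, 0, -4], [2, 0, 0, 2, 0, -4, -2, 2, 0, 0, 2, 2, 0, 0, 4, -4, 2, 0, 0, -2, 0, 0, 0, -4], [-3, -5, 1, 1, 1, 3, -1, -1, -3, 5, 3, -1, -1, 3, 3, -1, 3, 3, -5, 3, -1, 1, 3, 9], [0, 0, 0, -2, 0, 0, 2, 0, 0, 0, -2, 0, 0, 2, -4, 4, 2, -2, 0, 4, 2, -2, 4, 0]],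
  [[1, -1, -1, -1, -1, -1, -1, -1, 1, -1, 1, 1, -1, -1, -1, 1, -1, -1, -1, 1, -1, 1, -1, -3], [-1, -1, -1, 3, -1, -1, -1, -1, -1, -1, -1, -1, -1, -1, -1, -1, -1, -1, -1, -1, -1, -1, -1, -1], [0, 0, 0, 2, 0, -2, -2, 0, -2, 2, -2, -2, 0, 0, 0, 0, 0, 0, 0, 0, 0, -2, 0, 0], [0, 0, 2, 0, 0, 0, 0, 0, 0, 0, 0, 0, 2, 2, 0, 2, 0, 0, 2, 0, 2, 0, 2, 2], [2, 0, 0, -2, 0, 0, 0, 0, 0, 0, 0, 0, 0, 2, -2, 0, -2, 0, 0, 2, 0, 2, 0, -2], [0, 0, 0, 4, 0, 0, 0, 0, -4, 0, 0, 0, 0, 0, 0, 0, 0, 0, 0, 0, 0, 0, 0, 0], [1, -1, -1, -1, 1, -1, 1, -1, 1, -1, 3, 1, -1, 1, -1, 1, -1, 1, 1, 1, -1, 1, 1, -1], [0, -2, -2, 2, 0, 0, 0, 0, 0, 0, -2, -2, 0, 0, 0, 0, -2, 0, 0, 0, 0, -2, 0, 2], [1, 1, -1, -1, 1, -1, 3, 1, -1, -1, -1, -1, -1, -1, 1, -1,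 1, 1, -1, 1, -1, -1, -1, -1], [1, -1, -1, 1, -1, -1, -1, 1, -1, -1, 1, 1, -1, -1, 1, 1, 1, -1, 1, -1, -1, -3, 1, 1], [0, 0, -2, 0, 0, 2, 2, 0, 0, -2, 2, 0, 0, 0, 0, -2, 0, 0, -2, 0, 0, 0, 2, 0], [2, 0, 0, -2, 0, 0, 0, 2, -2, 2, -2, 0, 0, 0, 0, -2, 0, 0, -4, 0, 0, 0, -2, 0], [2, 0, 0, -2, 2, 0, -2, 2, -2, 4, 0, -4, 0, -2, 2, -2, 2, 0, -2, 2, -2, -2, -2, -2], [-1, 1, 1, 3, -1, -1, 1, 1, -3, 1, 5, 3, -1, -3, 1, 3, 3, -1, -1, 1, 1, -1, -1, 1], [0, 2, 0, 4, -2, 2, 4, 0, -2, -2, 4, 4, 0, 0, -2, 0, 0, 2, 0, 0, 0, 2, 0, 0], [0, 0, 0, 0, 0, 0, 2, -2, 2, -2, -2, 0, 0, 2, 0, 0, -2, 0, 2, 0, -4, 0, -4, 0], [-1, -1, 3, 1, -1, -3, -3, -1, -1, 5, -1, -1, 1, -1, 1, 1, 1, -3, 1, 1, -1, 3, -3, -1], [2, -2, -2, 0, 2, 2, 0, 2, 2, 2,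 0, 0, 2, 2, -2, 0, -2, 2, -2, -2, -4, 2, 0, 4], [-4, 0, -2, -4, -2, 8, -2, 4, 6, -2, 2, 8, -2, -2, -2, -4, 4, 0, -2, -4, -2, 0, -2, -4], [0, 2, 2, 0, 0, 2, 2, -2, 2, 4, 0, -2, -2, -2, 4, 4, 2, -2, 2, 4, 0, 0, -4, 0], [2, 0, 0, 2, -4, 2, 0, 0, -4, -4, -4, 2, 0, 2, -4, -2, 0, 0, 2, 2, -2, -2, -2, -2], [0, 2, 0, 0, 2, -2, 2, 0, -2, 0, 4, -2, 0, -2, 2, -4, 0, 2, -2, 0, 2, 0, 2, -4], [0, 0, 2, -4, 4, -2, 2, 2, 0, 4, 2, 0, 2, 8, 4, 4, 2, 0, 8, 0, 0, -2, 0, 4], [2, -2, 0, 0, -2, 2, -4, 2, -2, 2, -4, 0, 0, 0, -2, 2, 2, -2, 0, 2, 2, -2, 2, 2]],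
  [[1, -1, -1, 1, 1, -1, -1, -1, -1, -1, 1, -1, -1, -1, -1, 1, 1, 1, -1, -1, -1, -1, -1, -3], [0, 0, 0, -2, 0, 0, 0, 0, 0, -2, -2, 0, 0, -2, 0, -2, 0, 0, -2, 0, 0, -2, 0, -2], [0, 0, 0, -2, 0, 0, 0, 0, -2, 0, -2, 2, 0, -2, 2, -2, -2, 0, 0, 0, 0, 0, 0, 0], [0, 2, 2, 0, 0, 0, 0, 0, 0, 2, 0, 0, 0, 0, 0, 0, 0, 2, 2, 0, 0, 2, 2, 2], [-1, -1, -1, 1, 1, -1, -1, -1, -1, 1, 1, -1, 1, -1, -1, 1, 1, 1, 1, 1, -3, 1, -1, -1], [0, 0, 2, -2, 0, 0, 2, 0, 0, 0, -2, 2, 2, -2, 0, 0, 0, 0, -2, 0, 0, 0, 0, 0], [2, 0, 0, 0, 2, 0, 0, -2, 0, 0, 2, -2, 0, 0, -2, 2, 0, 0, 0, 0, -2, 0, 0, 0], [1, 1, -1, -1, -1, 1, 1, 1, -1, -1, -1, -1, 1, -1, 1, -3, -1, 1, -1, 1, -1, -1, 1, 1], [1, -1, -1, 1, -1, 1, 1, 1, -1, -1, -1, 1, 1, 1, -1, 1, -1, -3,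 1, 1, -1, -1, -1, -1], [3, 1, 1, -1, -1, -1, 1, -1, -1, -1, -1, 1, -1, 1, -1, -1, -1, 1, -1, -1, 1, -1, -1, 1], [0, -2, 0, 0, 0, 0, 2, 0, 2, -2, 0, -2, 2, 2, -2, 0, 0, 0, 0, 0, 0, 0, 0, 0], [-1, -3, -1, 1, -1, -1, 1, 1, -1, 1, -1, 1, 1, 1, 3, -1, 1, -1, 1, 1, -1, -1, -3, -1], [-1, -3, -3, -1, -1, 1, 1, -1, -5, -1, 1, 3, 1, 1, 3, -1, -1, -3, 1, -1, 1, 1, -3, -1], [3, -1, 3, -1, -1, 1, 3, -1, 1, -1, -1, 3, -1, -1, 1, 5, 1, 1, -1, -3, 3, -1, -1, 1], [0, -2, 4, 0, 0, 0, 2, 0, 4, 0, 0, 0, 2, -2, -4, 4, 2, 0, -2, 0, 0, -2, 0, 2], [0, 2, 0, 0, 0, 2, -4, 2, -2, 0, 0, -2, 0, 0, -2, 0, 2, -2, -2, 2, -2, -2, 0, 0], [-1, 1, -1, -1, 1, -1, -3, -1, -3, 1, -1, 3, -1, -3, 5, 1, 3, -1, -1, -3, 1, 1, 1, -1], [0, -2, 0, 2, 2, 2, 0,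 -2, 0, 2, 2, -2, 2, 2, 2, -4, 2, 0, -2, 2, -2, -2, 0, 4], [-3, -5, -3, 3, -3, -1, -1, -1, 7, 1, 3, -3, -7, 5, -5, -1, 3, -1, -5, -1, 5, -1, -5, -1], [1, 1, -1, 1, -3, 3, -3, 3, -3, -3, 3, 3, -1, -1, 3, 5, 1, -1, -1, -1, 1, 3, 1, 1], [-2, 0, 2, 0, -2, -2, 0, 2, -2, 0, -4, 0, 0, -4, -6, -2, 2, 0, -2, 2, -2, 0, -4, 0], [-1, -3, -1, -3, 1, -1, 3, -1, 1, -1, 1, 1, 3, 1, -1, 3, -3, -3, 3, -1, 1, -1, 1, -3], [3, 5, 1, -3, -1, 3, -3, -1, -3, 7, 1, 1, -1, 5, 1, 3, -1, -1, 3, -1, -3, 5, 1, 7], [0, 0, 0, 2, -2, -2, 2, 0, -2, 0, -2, 2, -2, -2, 2, -4, 0, 4, 0, 0, 0, 4, -2, 2]],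
  [[0, 0, -2, 0, 0, -2, 0, 0, 0, 0, -2, 0, 0, 0, 0, 0, -2, -2, 0, 0, -2, 0, -2, -2], [-1, 1, 1, -1, -1, -1, 1, -1, -1, -1, 1, -1, 1, -1, 1, -1, -1, -1, -1, -1, -1, -1, 1, -3], [-1, -1, 1, -1, -1, 1, 1, -1, 1, -1, 3, 1, 1, -1, -1, -1, -1, -1, -1, -1, 1, -1, 1, -1], [0, 0, 2, 0, 2, 0, 0, 0, 2, 0, 0, 2, 0, 0, 0, 2, 2, 0, 0, 0, 2, 0, 0, 2], [-1, -1, -1, 1, 1, -1, -1, 1, 1, 1, -1, 1, 1, -1, -1, 1, -1, 1, 1, 1, -1, -1, -3, -1], [-1, 1, 3, -1, -1, 1, 1, 1, 1, -1, 1, 1, 1, -1, 1, -1, -1, 1, -1, -1, -1, 1, 1, -1], [0, 0, -2, 0, 0, 0, 0, 0, 2, 0, -2, 0, 0, 0, 2, 2, 0, 0, 0, 2, -2, 0, -2, 0], [-1, 1, 1, 1, -1, -1, 1, -1, 1, 1, 3, -1, 1, -1, 1, -1, 1, -1, -1, 1, 1, -1, 1, -1], [0, 0, -2, 0, -2, 2, 0, 0, 0, 2, 0, 0, 0, 2, 0,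 -2, 0, 2, 0, 0, 0, 0, 0, -2], [0, 0, 0, 0, -2, 0, 0, -2, 0, 0, 0, 2, 0, 0, 2, 0, 0, -2, -2, 0, 0, 2, 2, 0], [0, 2, 0, 2, -2, 0, -2, 0, 0, 0, -2, -2, 0, 0, 2, 0, 0, 2, 0, 0, 0, 0, 0, 0], [0, -2, 0, 2, -2, 0, 0, 0, -2, 2, 2, 0, 0, 0, -2, -2, -2, 2, 0, -2, 0, 0, -2, 0], [0, -4, -4, 0, -4, 2, 0, 2, 0, 0, 2, 0, 0, -2, -2, -4, -2, 0, 0, -2, 2, 0, 0, 0], [-1, 1, 1, -3, -1, 1, 1, 1, 1, -1, -1, 1, -1, 3, 3, -1, -3, -1, -1, -3, -1, 5, 1, 3], [-1, 3, 3, -1, 1, 1, -1, 1, 1, 1, -3, -1, 1, 1, 3, 1, -1, 3, 1, -1, -5, 3, 1, 1], [0, 2, -2, -2, 2, 0, 2, 0, -2, 4, 0, 0, 0, -2, 0, 0, 2, 0, 0, 2, -2, -2, 0, -2], [-1, -1, -1, -3, 1, -1, 3, 3, -1, -3, 3, 3, -1, -1, -3, -1, -1, -3, 1, -3, -1, -1, -1, 1], [2, 0, 0, 2, -2, -2, 2, -2, 0,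 2, 2, -2, 2, -4, 0, 0, 2, 2, 2, 2, -2, 0, -2, 4], [1, -1, -3, 3, 1, -3, -3, -3, -9, -1, -7, -7, -3, -1, -3, 1, -1, 1, 1, 1, -3, 7, 3, 1], [0, 2, -4, -4, 2, 2, 0, 6, 0, 2, 2, 0, 0, 2, -2, -2, 0, -4, 0, 0, 2, 2, 0, 2], [-3, 1, 1, 1, 3, -1, -1, -1, -1, 3, -1, 3, 3, -3, -1, -1, -1, 3, -3, -1, -3, 1, 3, -5], [0, -2, 0, 0, -4, 4, -2, 2, 2, -2, -2, -2, -2, 2, 2, 0, -2, 2, 2, -2, 0, -2, 0, -2], [-2, -2, -2, -2, 2, 6, 2, 0, 2, 2, 2, 6, -4, -2, 0, 4, 6, 0, 0, 4, 4, 2, -2, 6], [-1, -1, 1, 3, 1, -3, -1, -1, 1, -1, 3, 3, 3, -1, -3, -1, -1, -1, -3, -1, 3, 3, 1, 1]],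
  [[-2, 0, 0, 0, -2, 0, 0, -2, 0, 0, 0, -2, -2, 0, 0, 0, -2, 0, 0, 0, 0, -2, 0, -2], [0, 0, -2, 0, 0, 0, 0, -2, 0, 0, 0, 0, 0, -2, -2, 0, 0, -2, 0, -2, 0, 0, -2, -2], [1, 1, -3, 1, -1, -1, 1, 1, -1, -1, -1, 1, 1, -1, -1, 1, 1, -1, 1, -1, -1, 1, -1, -1], [2, 0, 0, 0, 0, 0, 0, 2, 2, 0, 0, 0, 0, 2, 0, 0, 0, 0, 2, 0, 0, 2, 2, 2], [-2, 0, 2, 0, -2, 0, 0, 0, 0, -2, 0, -2, -2, 2, 0, 0, 0, 0, 0, 0, -2, 0, 0, 0], [0, 0, -2, 0, 2, 0, 0, 0, 0, 0, 0, 0, 0, 0, 0, 2, 2, -2, 2, -2, 0, 0, -2, 0], [-1, 1, 1, -1, -1, 1, -1, -1, 1, 1, -1, -3, -1, 1, 1, -1, -1, 1, 1, 1, -1, -1, -1, 1], [1, 1, -1, 1, -1, 1, -1, -1, -1, -1, -1, 1, 1, -1, -3, -1, 1, -1, 1, -1, 1, 1, -1, 1], [-1, 1, 1, 1, 1, 1, -1, 1, -1, -1, -1, 1, 1, -1, 1, -1, 1, 1,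 -1, -1, -1, -3, -1, -1], [2, 0, -2, 0, 0, 0, 0, -2, 0, 2, -2, 2, 0, 0, 0, 0, 0, 0, 2, 0, 0, -2, 0, 0], [-2, 0, 2, 0, 2, 0, -2, -2, 0, 2, 0, 0, 0, 0, 0, -2, 2, 0, 0, 0, 0, 0, 0, 0], [-3, -1, 1, 1, -1, -1, 1, 1, -3, -1, 1, 3, 1, 1, -1, 1, 1, 1, -1, -1, -1, -1, -1, -1], [-2, 0, -2, 2, -2, 0, 0, 2, -6, 0, -2, 2, 0, -2, 2, 2, 2, 2, -2, 0, -2, 0, 0, -2], [-1, 1, -3, 1, 3, -1, 1, 1, 1, 5, -1, 1, -1, 1, 3, 3, -1, -1, 1, -1, 3, -3, -1, 1], [-2, 0, 2, -2, 4, 0, 0, -2, 4, 2, 0, -2, 0, 2, 2, 2, 2, -2, 0, -2, 2, -2, -2, 2], [2, -2, 2, 0, -2, 4, 0, 0, 2, -2, 0, -2, 0, -2, -2, 0, 0, 0, -2, 0, 0, -2, -2, 0], [1, -1, -5, 1, -3, -1, 3, 3, -1, -1, 3, -1, -3, -1, 1, 3, -1, 1, -1, -1, 1, 1, -1, -1], [-2, 0, 2, -2, -4, 2, -2, -2, 0,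 0, 2, 2, 2, 0, -2, 2, 2, 2, 0, 2, 0, 2, -2, 4], [-2, -6, 6, -4, 2, -2, 0, -8, 0, 2, 0, 4, 0, 0, 4, 0, -4, 0, -6, 6, 4, 0, 0, -4], [2, 2, -2, 4, 0, 4, 2, 4, -2, 0, 0, -2, -2, 0, 2, 2, 0, 0, -4, 2, 4, -2, 2, 0], [2, -4, 2, 2, 0, 0, 0, -4, 2, -4, -2, 0, 0, 2, 0, 2, 2, -4, 0, -4, -2, -2, -2, -2], [-4, 2, 0, -2, 4, -2, 0, 2, -2, 2, -2, -2, 0, -2, 2, -2, 2, 2, 0, -2, -2, 0, 0, -2], [7, -1, 1, -1, -3, 3, 1, 9, 1, 1, -3, 1, -1, 3, 3, -1, 1, 3, 3, 5, -1, 1, -1, 5], [2, 0, -2, 4, -2, -2, 0, -2, -2, -2, 0, 4, 0, 4, 0, 2, 0, -2, 2, 0, 0, 2, 2, 0]]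
]

/-- tables of the elements -/
def threeC0 : List (List ℕ) := [
  [4272174, 16092183, 6865231, 8501244, 4205301, 3231805, 12333754, 7886684, 16631148, 2941138, 3620977, 817136, 12391688, 3543777, 8743582, 5744322, 2934509, 3788800, 13731105, 9214647, 361761, 13107247, 9071516, 4877212],
  [9594736, 16137559, 2186960, 11194167, 3313355, 16507201, 7357181, 7834283, 3670171, 15598080, 9833020, 16252429, 7364746, 1194944, 7678961, 5968830, 15076480, 7296563, 12923776, 16350874, 2824633, 5896019, 4101648, 14318186],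
  [13768640, 9897522, 12404250, 12882249, 13331703, 9453838, 13582802, 4211590, 6415096, 4167976, 11529733, 8372866, 9854559, 13860782, 10248025, 13258653, 8459209, 5472920, 10330453, 1601608, 12770939, 8617416, 11020199, 13742747],
  [9608349, 16648720, 7487120, 11194167, 13938636, 9095828, 9608412, 10789576, 13120966, 15881829, 5523363, 8004447, 6047336, 6847420, 3427796, 2412087, 6148326, 814455, 5402787, 3688040, 13504409, 14584988, 8711231, 11464306],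
  [16717629, 13619201, 11158582, 3836829, 3951197, 15046592, 136617, 1611189, 13076544, 4087204, 16268990, 4373242, 6580331, 7870831, 6673457, 7911791, 1382471, 6504448, 10691866, 12453174, 620911, 6090078, 5071144, 10488649],
  [16717629, 4087794, 5594913, 9296715, 4167662, 1316915, 136617, 12980081, 11478386, 16636329, 1111619, 6695754, 8018450, 338948, 691540, 4726300, 12823444, 6640215, 15017400, 10234198, 1283026, 9105674, 9102432, 16269204],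
  [1508438, 2770881, 16290381, 4015004, 12539336, 1316915, 4759164, 7919863, 9376403, 1302648, 768898, 13271152, 5712301, 3291705, 9850463, 15774095, 15635998, 13341748, 10809929, 11815324, 11490776, 5871681, 15140898, 9158530],
  [15497996, 7008446, 1299705, 4015004, 2962385, 7113215, 1145240, 11254000, 2745991, 12368587, 4640496, 14121875, 4126524, 3061609, 16464822, 8472886, 9879552, 8791700, 7258837, 10862867, 3730954, 10704506, 4515375, 11237579],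
  [15390193, 12681217, 2019622, 8, 12681235, 937984, 10648841, 12085244, 15192367, 3696377, 7273621, 11898708, 6800298, 1667018, 8431218, 15749061, 2045141, 9594736, 15343335, 10427503, 13017065, 11128141, 1472923, 1300344],
  [13473896, 14707791, 6546915, 3912712, 15981676, 7120760, 3098315, 5984718, 7487074, 11194166, 15481128, 12818977, 8734868, 8639057, 13553796, 12795109, 15091376, 11260569, 10890132, 16164515, 14320496, 8607174, 11310446, 8238338],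
  [645137, 10340565, 11611488, 4418944, 14485654, 12084286, 13126209, 13264523, 5592173, 4824721, 15693652, 14261882, 12232977, 12758143, 6127397, 15098542, 767028, 2826783, 6182401, 2354483, 8261660, 2814072, 1978632, 8348283],
  [4615827, 4854016, 12324397, 11850523, 3021717, 2621482, 2906594, 16084974, 13565646, 14934759, 7058852, 15989721, 3802307, 6015032, 10930862, 12474754, 3223600, 7296563, 6476905, 14576932, 3426898, 118954, 3813461, 15939446]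
]

/-- images of the basis -/
def threeW1 : List (List (List ℤ)) := [
  [[-1, -1, -1, 1, -1, -1, -1, -1, 1, -1, 1, -1, -1, -1, 1, -1, -1, 1, -1, -1, -1, 1, 1, -3], [0, 0, 0, -2, -2, 0, 0, -2, -2, 0, -2, -2, 0, 0, 0, 0, 0, 0, -2, 0, 0, 0, 0, -2], [1, 1, 1, -1, -1, 1, 1, -1, -1, -1, -1, -1, 1, 1, -1, 1, -1, -1, -1, 3, -1, -1, -1, -1], [0, 0, 2, 2, 2, 2, 0, 2, 0, 0, 0, 0, 0, 0, 0, 0, 2, 0, 0, 2, 0, 0, 0, 2], [0, 0, 0, 0, 2, 0, -2, 0, 2, -2, 2, 0, 0, 0, 2, -2, 0, 0, 0, 0, 0, 0, 0, -2], [2, 0, 0, -2, -2, 2, 0, 0, -2, 0, -2, 0, 0, 0, 2, 0, 0, 0, 0, 2, 0, 0, 0, 0], [0, -2, 0, 2, 0, -2, -2, 0, 2, 0, 0, 0, 0, 0, 2, -2, 0, 0, 0, 0, 0, 0, 2, 0], [0, 0, 2, -2, 0, 0, 2, 0, 0, 0, -2, -2, 2, 2, 0, 0, 0, 0, -2, 0, 0, 0, 0, 0],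 [2, 0, 0, -2, 0, -2, 0, 0, 0, 0, 0, 0, 0, 0, 0, 0, -2, -2, 2, -2, -2, 0, 0, 0], [-1, -1, 1, 1, -3, -1, 1, 1, -1, 1, -1, -1, -1, 1, 1, 1, -1, -1, -1, 1, -1, 1, -1, 1], [1, -1, -1, -1, -1, -1, -1, 1, 1, 1, -1, -1, -1, 1, 1, -1, 1, 1, 1, -3, 1, -1, -1, 1], [0, 2, 0, -4, 0, 0, 0, 0, 2, 0, 2, 0, 0, 0, 0, 2, -2, 0, 2, 0, 0, 0, -2, -2], [1, 1, -3, -1, -1, -1, 1, -1, 1, -1, 1, 1, 3, 3, -1, 3, -3, -1, 3, 1, -3, -1, -3, -3], [1, -1, -3, 1, -5, 1, 1, 1, -1, 1, -1, -1, -1, -3, 1, 1, -1, 1, 3, 3, -1, 3, 1, 3], [3, -1, -1, -1, -3, 1, -3, 1, -1, 1, -1, 1, -1, -3, 3, -3, 1, 1, 1, -1, 3, 3, 1, 3], [-1, 1, 1, -1, 1, -1, -1, -1, -1, 1, 1, 1, 3, -1, 1, -1, 1, -3, -3, -3, -1, 1, 3, -1], [0, 2, -2, 2, 0, 2, 2, -2, -2, -2, 2, 0, 2, -2,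 0, 4, 0, 0, 0, 4, 0, 0, 2, -4], [-1, 1, 3, -1, 1, -1, -1, -1, 3, 3, 1, 1, 5, 1, 3, 1, -1, 3, -1, -1, 3, -1, -1, 1], [-7, -5, -5, -1, -3, -3, -1, -1, -1, 3, 5, 5, -3, -3, -3, -1, -1, 3, -1, -7, 5, 1, -5, 1], [1, 1, -5, 3, 1, 3, 5, -1, 1, -1, 1, 1, 3, -1, -1, 1, -1, -3, 1, -1, -3, 3, 3, 1], [1, -1, 1, -5, -1, 1, -3, 1, -3, -3, 1, 1, -1, -1, 3, -1, 1, -3, -5, -1, -1, 3, -3, -1], [4, 0, -2, 0, -2, -2, -2, 0, 0, 0, -2, 0, -2, 2, -2, -2, 0, 0, 6, 0, 0, -2, 0, -2], [-3, -1, 3, 5, 3, 1, 1, 5, 1, 1, 3, 3, 5, 1, 1, 1, 1, -7, 3, 5, -1, -3, 3, 5], [-1, -1, 1, -1, 1, 3, 3, 1, 1, -3, 1, -1, -1, 1, 1, 3, -1, 1, -3, 3, -1, 1, -5, 1]],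
  [[0, 0, 0, 0, 0, 0, 0, 0, -4, 0, 0, 0, 0, 0, 0, 0, 0, 0, 0, 0, 0, 0, 0, -4], [1, -1, 1, -1, -1, -1, -1, 1, 1, -1, 1, -1, -1, -1, 1, -1, 1, -1, -1, -1, -1, -1, -1, -3], [0, -2, 0, -2, -2, 0, 0, 0, 2, 0, 2, 0, 0, 0, 0, -2, 0, 0, 0, 0, -2, -2, 0, 0], [1, 1, -1, 1, -1, 1, 1, -1, 1, 1, -1, 1, 1, 1, 1, -1, 1, 1, 1, 1, 1, -1, -1, 3], [-1, -1, -1, 1, 1, 1, 1, -1, -3, 1, -1, 1, -1, 1, 1, 1, -1, 1, -1, 1, -1, -1, -1, -1], [1, -1, 1, -1, -1, -1, -1, 1, 1, 3, 1, -1, -1, -1, 1, -1, 1, -1, -1, -1, -1, -1, -1, 1], [1, 1, -1, 1, 1, -1, 1, 1, -3, 1, -1, 1, 1, 1, 1, 1, -1, -1, 1, 1, -1, 1, -1, -1], [2, 0, 0, 0, 0, 0, 0, 0, 2, -2, 2, 0, 0, -2, 2, 0, 0, 0, 0, 0, -2, -2, 0, 0], [0, 0, 0, -2, 2, 0, -2, 0, 0, 0, 0, 0, 0, 0, -2, 2, -2,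 0, 0, -2, -2, 0, 0, 0], [2, 0, 0, 0, -2, 0, 0, 0, 0, 0, 2, -2, 2, 0, 0, 0, 0, -2, 2, -2, 0, 0, 0, 0], [0, 2, 0, 2, 2, -2, 0, 0, 0, 0, 0, 0, -2, 0, 0, 2, 0, -2, 0, -2, 0, 0, 0, 0], [-2, -2, 0, 0, 0, 2, -2, 0, 0, 0, 2, 0, -2, 0, -2, 2, -2, 0, -2, 0, 0, -2, 2, 0], [-4, -2, 2, -4, 0, 0, 0, -2, 0, 0, 2, 0, 0, 0, -2, 0, -4, -2, 0, 0, -2, -2, 4, 0], [1, 1, 3, -1, -1, 1, -1, 3, -1, 5, 1, -1, 1, -1, -3, -1, 3, -3, 3, -1, 1, 1, 1, 1], [1, 1, 1, 1, 1, -1, -1, 3, -1, 5, -1, -1, -3, -1, 1, 3, 3, -1, 1, -1, 1, 3, -3, 1], [1, -1, -1, -3, 3, 1, -1, 1, -1, -3, -1, -1, 1, -1, 3, 1, -1, 1, -1, 1, 1, 1, -3, -1], [-2, -2, 2, -4, -2, 2, 2, 2, 0, 2, 0, 0, 2, 0, 0, -4, 0, 2, -2, 2, 2, -2, 2, -2], [-2, 2, 0, 2, 0, 0, 0, 2, 0, -2, 4, 0,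 0, 0, 4, 4, -2, 0, -2, 4, 0, 0, 0, 2], [-6, 0, 2, 6, -2, -2, 0, 0, -4, -6, -2, -4, -2, -4, -4, 4, 0, -2, 0, -2, 6, 8, 0, -2], [0, 0, 2, -6, 4, 2, 2, 0, -2, 0, -2, -2, 2, -2, -2, -2, 2, 2, 2, 2, 0, 0, 4, 2], [2, -4, 0, -2, -2, 2, 0, -2, -2, 0, 0, -2, -4, -2, 2, 2, 0, 0, -2, -4, 0, 0, -6, 0], [-2, 0, 0, 0, 2, -4, -2, 0, 2, 4, -2, 2, -2, 2, -2, 0, -2, -2, 2, -2, -2, 0, 2, -2], [-1, -1, -5, -1, 1, 3, 3, 1, 1, 1, -3, 1, 9, 1, 1, -1, -3, -1, 3, 3, 1, -1, -1, 9], [1, -1, 1, 1, -5, 3, 3, -3, -1, -1, 3, -1, -1, -1, -1, -1, 1, 1, -1, -1, -1, -3, 1, 3]],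
  [[0, 0, 0, 0, 0, 0, 0, 0, -2, -2, 0, -2, 0, 0, -2, 0, -2, 0, -2, 0, 0, -2, 0, -2], [-1, -1, -1, -1, -1, -1, -1, -1, -1, 3, -1, -1, -1, -1, -1, -1, -1, -1, -1, -1, -1, -1, -1, -1], [-1, -1, -1, 1, -1, -1, -1, 1, 1, 3, -1, -1, -1, -1, 1, -1, 1, -1, 1, 1, -1, -1, 1, -1], [0, 0, 0, 0, 0, 0, 0, 0, 2, 0, 2, 0, 2, 2, 2, 0, 0, 0, 2, 2, 0, 0, 0, 2], [0, 0, 0, 0, 2, 2, 0, 0, -2, -2, 0, -2, 2, 0, 0, 0, 0, 0, 0, 2, 0, 0, 0, -2], [0, -4, 0, 0, 0, 0, 0, 0, 0, 4, 0, 0, 0, 0, 0, 0, 0, 0, 0, 0, 0, 0, 0, 0], [1, -1, 1, 1, 1, 1, -1, -1, -1, -3, 1, -1, 1, -1, -1, -1, -1, 1, -1, 1, 1, -1, -1, 1], [-1, 1, -1, 1, -1, 1, -1, -1, 1, 3, -1, -1, -1, -1, -1, -1, -1, -1, 1, 1, -1, 1, -1, 1], [-1, -1, -1, 1, 1, 1, 1, -1, 1, -1, -1, 1, -1,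 -3, -1, 1, 1, -1, -1, -1, 1, 1, 1, -1], [-1, -1, 1, 3, -1, -1, -1, -1, 1, 1, 1, 1, -1, 1, -1, -1, -1, -1, -1, -1, -1, -1, 1, 1], [0, 0, 0, 0, 2, 0, 0, -2, 0, 0, 0, 2, 0, 0, -2, 0, 0, 2, -2, 0, 0, 2, -2, 0], [-1, 1, -1, 1, 3, 1, 1, 3, -1, 1, -1, 1, -1, -1, -1, 1, 1, -1, 1, -1, -1, 1, 1, -3], [0, 0, 0, 2, 0, 2, 0, 4, 2, 0, -2, 0, -4, -2, 0, 0, 4, 0, -2, 0, -2, 0, 2, -4], [2, -4, 2, 2, 0, -2, 2, 2, 2, 2, 0, 2, 0, 2, -2, 2, 0, 0, -2, -2, 2, -4, 0, 2], [2, -4, 2, 0, 2, 0, 2, -2, -2, 2, 0, 2, 4, 0, 0, 2, -2, 2, -2, -2, 2, 0, -2, 2], [-1, 1, -1, -1, -3, 3, 1, -1, -3, -1, 1, -1, 1, -3, 1, -1, -1, -3, -1, -1, 1, 1, -1, 1], [1, -1, -1, -1, -3, -1, 1, 5, -1, 1, 1, -5, -1, 1, 1, 1, 3, -1, 1, -1, -1, -3, 1, -1], [1, 3, 1, 1,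 1, 3, -3, 3, -3, 1, 1, 1, 1, -3, -1, 1, -1, 1, 1, 1, -3, 3, -1, 3], [2, 4, 6, -2, 0, -4, 0, 0, -6, -6, -4, 6, -2, 4, 0, 2, -4, 0, -4, -6, -2, 4, -2, -2], [3, 1, -1, 1, -5, 3, 5, 1, 1, -1, -1, -1, -3, 1, 1, 3, 3, -1, -1, 1, 3, -3, 1, 1], [-1, -3, -1, 1, 1, 1, 1, -3, -3, 3, -1, -1, 3, 1, 3, -1, -3, -5, -3, -1, -1, 3, 1, -3], [-1, -3, 1, -1, 3, -1, 1, -1, 3, -1, -1, 1, -1, -3, -1, -1, 3, 5, -1, -1, 1, -1, -1, -3], [-1, -1, 3, 5, -3, 3, -1, 3, 3, -5, 5, 1, 1, 1, 5, -1, 5, -3, 5, 3, 3, 1, -1, 5], [1, 1, -1, 3, 1, -1, -1, 1, 1, 3, -1, -1, -1, 5, 1, 1, -1, -3, 1, 3, -3, 1, 3, -1]],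
  [[0, 0, -2, 0, 0, 0, -2, 0, -2, 0, -2, 0, 0, 0, 0, 0, 0, 0, -2, 0, -2, -2, 0, -2], [-1, -1, 1, 1, -1, 1, -1, -1, 1, -1, 1, -1, 1, -1, -1, 1, -1, -1, -1, -1, -1, -1, -1, -3], [0, 0, 2, 2, 0, 0, 2, -2, 0, -2, 2, 0, 0, 0, 0, 0, 0, -2, 0, 0, 0, 0, 0, -2], [0, 0, 0, 0, 0, 0, 4, 0, 0, 0, 0, 0, 0, 0, 0, 0, 0, 0, 0, 0, 0, 0, 0, 4], [0, 2, -2, 0, 0, 0, 0, 0, 0, 0, -2, 0, -2, 0, 0, -2, 0, 0, -2, 2, 0, -2, 0, 0], [0, 0, 2, 2, 0, 0, 0, -2, 2, 0, 2, 0, 0, -2, 0, 0, 0, 0, 0, -2, 0, -2, 0, 0], [-1, 1, -1, 1, 1, -1, -1, 1, -1, 1, -3, 1, 1, -1, -1, -1, 1, 1, -1, 1, -1, -1, -1, 1], [-1, -1, 1, 1, -1, 3, 1, -1, 1, -1, 1, 1, 1, -1, -1, 1, 1, -1, -1, 1, 1, 1, -1, -1], [0, 0, 0, 0, 0, 0, -2, 0, 0, -2, 0, 0, 0, 0, 0, -2, 2, 2, 2, 0,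 2, 0, 0, -2], [0, -2, 0, 2, 0, 0, 0, -2, -2, 0, 0, 0, 2, -2, 0, 2, 0, 0, 2, 0, 0, 0, 0, 0], [0, -2, 0, 0, 0, 0, -2, 0, 2, 2, -2, 0, 0, 0, 0, 0, 0, 2, 0, 0, 2, 0, -2, 0], [1, 1, -1, -1, 1, 1, -1, -1, 1, -1, 1, 1, -1, 1, 3, -1, -1, -1, 1, 1, 3, -1, 1, -3], [2, 0, 0, 2, 2, -2, -2, -2, -2, -2, 2, 2, -2, 2, 0, -2, 0, -2, 0, 0, 4, 2, 2, -4], [3, -1, 1, 3, 3, -1, -1, 1, -1, 1, 1, 1, 1, -1, 1, 3, 1, 1, 3, -5, -1, -3, 1, 1], [0, 0, 0, 2, 0, 0, -2, 2, 4, 4, 0, 0, 0, -2, 0, 0, 0, 4, 2, -2, -2, -4, 0, 2], [-1, 3, -3, -1, -3, 1, -1, 1, 1, -1, 1, -1, 3, -1, -3, -1, 1, 1, -1, 1, -1, 1, 1, -1], [2, 2, 0, 0, 0, -2, 0, 0, -2, -2, 4, 0, 0, 2, 0, 0, 0, -6, -2, -2, -2, -2, 2, 0], [-1, 1, -1, -1, 3, 3, -1, -1, 3, 3, 1, 3, 3, 1, -1, -1,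 -1, -1, -1, 5, 1, 1, 1, 1], [1, -1, -3, -7, -1, -1, -7, 1, -1, 7, -3, 1, -3, 1, -1, 5, -7, 3, 5, 1, -3, 3, 1, -3], [5, 1, -1, 1, -1, -1, -1, 3, -1, -3, 1, 1, -1, 1, -1, 1, 5, -1, -1, -3, -1, 3, 5, 1], [-2, 2, -2, 2, -6, 2, 0, -4, 2, 0, 0, -2, -2, -2, -2, 0, -2, 2, 2, 0, 0, -4, 2, -2], [0, -2, 2, 2, 2, -4, -2, 2, 0, 0, 0, 0, -2, 0, 2, -4, 0, 2, 0, -2, 2, 0, -4, -2], [3, 5, -1, -1, 1, -5, 7, 1, -3, -1, 1, 3, 3, -3, -3, -1, 3, -1, 3, 3, 3, 3, 1, 7], [1, -1, 1, 1, -1, 3, 3, -5, -1, -1, -1, 1, -3, 1, 1, 3, -1, -3, 1, 1, 1, -1, 3, 1]],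
  [[0, 0, -2, 0, -2, 0, 0, 0, -2, 0, 0, -2, 0, 0, 0, -2, -2, 0, 0, 0, -2, 0, 0, -2], [-1, -1, 1, -1, -1, -1, -1, 1, -1, 1, -1, -1, -1, 1, -1, -1, 1, -1, -1, -1, 1, 1, -1, -3], [-1, -1, 1, 1, -1, -1, -1, 1, 1, 1, -1, 1, 1, -1, -1, -1, 1, -1, -1, -1, 3, -1, -1, -1], [0, 2, 0, 0, 0, 2, 0, 0, 2, 0, 2, 2, 0, 0, 2, 0, 0, 0, 0, 0, 2, 0, 0, 2], [1, 1, -3, 1, -1, 1, -1, -1, -1, -1, -1, -1, -1, -1, 1, -1, -1, 1, -1, -1, -1, -1, -1, 1], [-2, 0, 0, 0, 0, 0, -2, 2, 0, 0, 0, 0, 0, 0, -2, 0, 2, 0, -2, 0, 2, 2, 0, 0], [1, 1, -1, 1, -1, 1, -1, -1, -1, -1, 1, -1, -1, 1, -1, -1, -3, 1, 1, -1, -1, 1, 1, 1], [0, 0, 2, 0, 0, -2, 0, 0, 0, 2, 0, 0, -2, 0, 0, -2, 2, 0, 0, -2, 2, 0, 0, 0], [0, 0, 0, 0, 2, -2, -2, 0, 0, 0, -2, 0, 0, 0, -2,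 0, 0, 0, 0, 0, -2, -2, 2, 0], [-3, 1, 1, 1, 1, -1, 1, 1, -1, 1, 1, 1, 1, 1, -1, -1, -1, -1, 1, -1, 1, 1, 1, -1], [-1, 1, 1, -1, 1, -1, 1, -1, -1, -1, -1, -1, -3, 1, -1, 1, -1, 1, -1, 1, -1, 1, 1, 1], [-1, -1, -1, 1, 1, -1, 1, -1, -1, -1, -3, -1, 1, -1, -1, -1, 3, -1, -1, 1, -1, -3, -1, 1], [-2, -4, 2, 4, 0, -2, 0, 0, 0, 0, -2, 0, 2, -4, -2, 0, 0, 0, -2, 0, -2, -4, 0, 0], [-2, 0, 0, 2, 0, 0, 0, 2, 0, 0, 2, 0, 4, 2, -2, 0, 0, -2, -2, 4, 0, 4, 4, 0], [0, 2, -2, -2, 2, 2, -2, 0, -2, 0, 0, -2, 0, 2, -2, 2, 0, 0, -2, 2, 0, 6, 2, 2], [3, 1, 1, -1, 1, 1, -3, 1, -1, 1, -1, -1, -1, -1, 1, -1, 1, -1, 3, -3, -3, 1, -1, -1], [2, -2, 0, 2, -4, 2, 0, 4, 0, 0, 2, 0, 4, -2, 0, 0, 2, -2, -2, 0, 0, -2, -2, -2], [2, 0, 2, 2, 2, 2,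 2, -2, -2, 2, 0, -2, -2, 0, -2, -2, 2, 2, 2, 0, 0, 0, -4, 4], [-1, -3, -3, -3, 5, -3, 7, -5, -3, -1, 1, -3, 1, 1, 1, 5, -3, -1, 3, 3, -7, 5, -5, -3], [4, -2, 2, 2, 0, -2, -2, 4, 0, 0, 2, 0, 4, -4, 4, 0, 0, 0, 0, 2, -2, 0, 4, 0], [-3, 3, -3, -3, 3, -1, -3, 1, -1, 1, -3, -1, 1, -1, 1, -1, 1, -1, -3, -5, -1, 3, -3, -1], [-2, -2, 0, 0, -2, 0, -2, -2, 0, -2, -2, 0, -2, 0, -4, 4, -2, 0, -2, 2, 0, -2, 4, 0], [3, 3, 1, 7, 3, 3, -1, 1, 5, -3, 5, 5, 1, -3, 1, 1, -1, -3, 5, -3, 1, -1, 1, 5], [-3, 1, -1, 1, 1, -3, 3, 1, 1, 1, 1, 1, 3, -1, 3, -3, 1, 1, -3, -1, 3, -1, -3, 1]],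
  [[0, 0, -2, -2, 0, 0, 0, 0, 0, 0, 0, 0, 0, 0, 0, -2, 0, -2, 0, -2, -2, -2, 0, -2], [0, 0, 0, 0, 0, 0, 0, -4, 0, 0, 0, 0, 0, 0, 0, 0, 0, 0, 0, 0, 0, 0, 0, -4], [-1, 1, 1, 1, -1, -1, -1, -3, 1, 1, 1, -1, 1, -1, -1, 1, -1, 1, -1, 1, 1, -1, -1, -1], [-1, 1, 1, 1, -1, 1, 1, 1, 1, -1, 1, -1, 1, 1, 1, -1, 1, 1, -1, 1, 1, 1, -1, 3], [-1, 1, -1, -1, 1, 1, 1, 3, 1, -1, 1, -1, 1, -1, -1, -1, -1, -1, 1, -1, -1, -1, -1, -1], [-1, 1, 1, 1, 1, 1, -1, -3, 1, -1, -1, 1, 1, 1, 1, 1, -1, 1, 1, 1, 1, -1, -1, -1], [-1, -1, -1, -1, 1, 1, 1, 1, -1, -1, 1, 1, 1, 1, -1, -1, 1, -1, 1, -3, -1, -1, -1, 1], [0, 0, 2, 2, 0, 0, 2, -2, 0, 2, 2, 0, 0, 0, 0, 0, 0, 2, 0, 0, 0, 0, 0, -2], [-1, -1, -1, 1, 1, -1, -1, 1, -3, 1, -1, 1, 1, -1, -1, 1,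 -1, 1, 1, 1, -1, -1, 1, -1], [-1, 1, 1, 1, -1, 1, -1, -3, -1, 1, -1, 1, -1, 1, -1, -1, 1, 1, -1, -1, -1, -1, 1, 1], [-1, -1, 1, 1, 1, 1, 1, 1, -1, -1, -1, 3, -1, -1, 1, 1, 1, -1, 1, -1, -1, 1, 1, -1], [0, 2, 0, 0, 0, 0, -2, 2, 0, 2, 0, 0, 0, -2, 0, 2, -4, 0, 0, 0, 0, 0, 2, -2], [-2, 0, 0, 0, 0, -4, -2, 0, 0, 2, 0, 0, -2, -4, -2, 2, -4, 0, 0, 0, 2, -4, 2, 0], [-1, 1, 1, -3, -1, 1, -3, -3, -1, 1, -3, 3, 1, 3, 3, 1, 1, -1, 1, 1, 1, -3, 1, 3], [0, 0, 0, 0, 2, 4, 0, 0, 0, -2, -4, 2, 2, 4, 2, 2, 2, -2, 4, 0, 0, 0, 0, 0], [2, 0, -4, 0, 2, 0, 4, 0, -2, 0, 0, -2, 0, 2, -2, 0, 0, 2, 0, 0, 0, 0, 0, -2], [3, 3, -1, -3, -1, -3, -1, -3, 1, -1, 1, -3, 1, -1, 1, -1, -3, -1, -1, 1, 3, -3, -1, 1], [2, 2, 0, 2, 2, 0, 2, 2, 2, 2, 2,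 0, 0, 0, 0, 2, 0, 2, 2, -6, 2, 2, 2, 0], [6, -4, -2, -4, -4, 2, -2, 4, 2, 0, -8, 2, -8, 0, -2, 0, 2, -2, 2, -4, -2, 4, 4, -2], [3, -1, -1, -3, 1, -3, 1, 1, -1, 1, 1, -1, -1, 1, 1, 1, 1, 1, -1, 5, 1, -7, 1, 3], [-1, 3, -3, 3, -1, 5, 1, -1, 1, -1, -3, -1, -1, 1, -3, -1, -1, 1, 3, 3, -1, -1, -1, -5], [-4, -4, 2, 0, 2, -2, -2, 0, -2, -2, -2, 2, 2, -2, 0, 2, -2, -4, 0, 0, 0, 0, 0, 0], [-1, 1, 1, -1, -1, 1, 3, 3, -3, -1, 1, -3, 1, 1, -3, 1, -1, 7, -3, -1, 3, -1, -3, 11], [0, 4, 2, 2, -4, 2, -2, 0, 4, 2, 2, 0, -2, -2, 0, -2, 0, 2, 0, 2, 0, -2, 0, 0]],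
  [[-2, 0, 0, 0, 0, 0, -2, 0, 0, -2, -2, 0, 0, 0, 0, 0, -2, 0, 0, 0, 0, -2, -2, -2], [1, -1, 1, -1, -1, -1, 1, -1, 1, -1, -1, -1, -1, -1, -1, 1, -1, 1, -1, -1, -1, -1, 1, -3], [2, 2, 0, 0, 0, -2, 2, 0, 0, 0, 0, 0, 0, 0, 0, 0, 0, 0, -2, 0, -2, 0, 2, -2], [1, 1, -1, 1, 1, 1, 1, 1, 1, 1, 1, 1, -1, -1, 1, -1, 1, 1, -1, 1, -1, 1, -1, 3], [-1, 1, -1, 1, -1, 1, -3, 1, 1, -1, 1, 1, -1, 1, 1, -1, -1, -1, 1, 1, -1, -1, -1, -1], [2, 0, 0, -2, 0, 0, 2, 0, 2, 0, 0, 0, 0, 0, 0, 0, 0, 0, 0, -2, -2, -2, 2, 0], [-1, -1, 1, 1, 1, 1, -3, 1, -1, -1, -1, 1, -1, 1, 1, -1, -1, 1, 1, -1, -1, -1, -1, 1], [1, 1, 3, 1, -1, -1, 1, -1, 1, -1, 1, 1, -1, -1, -1, 1, 1, 1, -1, -1, -1, 1, 1, -1], [0, 0, 0, 0, -2, 0, -2, 0, -2, 0, 0, 0, 2, 0, -2,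 0, 0, -2, 0, -2, 0, 0, 2, 0], [-1, -1, 1, 1, 1, -1, 3, -1, -1, -1, -1, 1, 1, -1, -1, -1, -1, 1, -1, -1, -1, -1, 1, 1], [-2, -2, 2, 0, -2, 2, 0, 0, 0, 2, 0, 0, 0, 0, 0, 0, 0, 0, 2, -2, 0, 0, 0, 0], [-2, 2, -2, 0, -2, -2, 0, 0, 0, 0, 2, 0, 2, 0, 0, 2, 0, -2, 2, 0, 0, 0, 2, -2], [-1, 5, -1, -1, -1, -3, 1, -1, -3, 1, -1, 1, 1, 3, -1, -1, -1, -3, 1, -1, 1, 1, 3, -3], [1, -1, -1, -1, 3, -1, 3, 1, 1, 1, -5, 1, 3, -1, 1, 1, -1, -1, 1, -3, 1, -3, 1, 3], [1, -5, 1, -3, 1, 3, -1, 1, 3, 1, -1, 1, 1, -1, 1, 1, -1, -1, 3, -1, -1, -3, 1, 3], [1, -1, 1, -1, -1, -1, -5, -3, 1, -3, 1, -1, -1, -1, -1, -1, -1, 1, -1, 1, 1, 1, 1, 1], [2, 4, -4, -2, 2, -4, 0, 0, 2, 0, -2, 0, 0, 2, 0, 0, 0, 2, -2, 2, 2, -2, 0, -2], [-1, 1, 3, -1, -1,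 -1, -1, -1, -1, -1, 5, 3, -1, 1, 3, 3, -1, 3, 3, 1, 1, 1, 1, 1], [-6, -8, 0, -2, 2, 4, 2, -4, -4, -2, 0, -2, 2, -2, 2, 0, 0, -2, 6, 4, 8, 0, -2, -4], [4, 4, 0, 0, 2, -2, -2, -2, 2, 0, -4, 0, 4, 2, -2, -2, 0, -2, 0, 0, 4, 2, -2, 2], [0, -2, 0, -2, -2, 2, 0, 0, 4, -4, 2, 0, 0, -4, -2, -4, -2, -2, 0, 2, -2, -2, 4, -2], [-1, -1, -1, -1, -1, 1, -1, 1, -3, 5, -3, -1, -1, 3, -1, 1, 1, -3, 1, -3, -3, -1, 1, -1], [2, 2, -4, 4, 4, -2, -2, -2, -2, 0, 2, 4, 0, 2, 4, -6, 4, 2, -2, 0, 0, 4, 2, 8], [0, 4, 0, 2, 0, 0, 6, 2, 2, -2, 2, 2, 2, -2, 0, -2, 0, 0, 0, 2, 0, 0, 0, -2]],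
  [[0, -2, 0, -2, 0, 0, 0, -2, 0, 0, -2, 0, 0, 0, -2, -2, 0, 0, 0, -2, 0, 0, 0, -2], [-1, 1, -1, -1, 1, -1, 1, 1, -1, -1, 1, -1, -1, -1, -1, -1, 1, -1, -1, -1, 1, -1, -1, -3], [0, 2, 0, 0, 0, 0, 0, 2, -2, -2, 2, 0, 2, 0, 0, 0, 0, 0, 0, 0, 0, -2, 0, -2], [1, 1, 1, 1, 1, 1, -1, 1, -1, 1, 1, 1, 1, -1, -1, 1, -1, 1, 1, 1, -1, 1, -1, 3], [0, 0, 2, 0, -2, 0, -2, -2, 0, 0, -2, 0, 0, 0, -2, 0, 0, 0, 2, -2, 0, 0, 0, 0], [-1, 1, 1, 1, 1, -1, 1, 3, -1, -1, 1, -1, 1, -1, 1, -1, 1, -1, 1, -1, 1, 1, -1, -1], [1, -1, 1, -1, 1, 1, -1, -1, -1, 1, -3, -1, -1, 1, -1, -1, -1, -1, 1, -1, 1, 1, 1, 1], [0, 2, -2, 0, 0, 0, 0, 2, 0, 0, 2, 0, 0, 0, -2, 0, 0, -2, 0, 0, 2, -2, 0, 0], [-2, 0, -2, 0, -2, 0, 0, 0, 0, -2, -2, 0, 0, 0, 2, 0, 0,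 -2, 0, 0, 0, 0, 2, 0], [-1, -1, -1, 1, 3, 1, 1, 1, -1, -1, 1, 1, 1, 1, -1, -1, -1, -1, -1, 1, 1, 1, 1, -1], [-2, 0, 0, 0, 0, 0, 0, 0, 2, 2, 0, -2, -2, 0, 0, 0, 0, -2, 0, 0, 0, 2, 2, 0], [-3, -1, 1, 1, -3, -1, 1, -1, 1, -1, 1, 1, 1, 1, 1, 1, 1, -1, 1, -1, -1, -3, 1, -1], [-1, -1, 1, -1, -3, -1, -1, -1, 1, -3, 1, -1, 5, 1, 3, 1, -1, -1, -1, 1, 1, -3, 3, -3], [-1, -3, 1, -1, 3, 1, 5, 3, -1, 1, -1, 1, 3, -1, 3, -1, 1, 1, 1, 1, 1, 3, 1, -1], [-1, -1, 3, 1, 1, 1, 3, 3, 1, 1, -3, -1, -3, -1, 1, -1, 3, -1, 1, -1, 1, 5, -1, 1], [0, 0, -2, 0, 0, -2, -2, 0, 0, -2, -4, 0, -2, 0, -2, 0, 2, 0, -2, 0, 2, -2, -2, 2], [2, 0, 2, -2, 2, -2, 0, 0, 0, -2, 0, 2, 4, -2, 2, 0, 0, 4, 0, -2, 0, -4, -2, -2], [2, -2, 2, 2, 0, 0, 0, 0, 2, 0,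 2, -2, -2, 2, -2, 2, 2, -2, 0, -2, 2, -4, 2, 4], [1, -9, -1, 1, -1, -1, 1, -5, 5, 3, 1, 1, -7, 5, 1, 3, 3, 1, -5, 1, -1, 5, -1, -5], [1, -1, -3, -3, -1, 1, -1, 1, 3, -1, -3, 1, 5, -1, 3, -1, 1, 5, 1, 3, 3, -1, -1, 1], [-3, 1, 1, 3, -1, -1, -3, 1, -1, -3, -1, 3, -1, -1, -3, -1, 5, -3, -1, -1, 1, 3, -3, -3], [-2, 2, 2, -2, -2, 0, 2, 0, 0, 0, -2, -4, 0, 0, 4, 0, -4, -2, 0, 0, -2, 2, 2, -2], [3, -1, 1, 3, 3, -1, -5, 3, -3, -1, -3, 3, 3, 3, 1, 5, -5, 3, 3, 5, 1, -1, 1, 7], [0, 0, 0, 2, 0, 2, -2, 0, 0, 0, 6, 4, 4, 0, -2, 0, 2, 0, 2, 0, 0, 0, 0, -2]],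
  [[0, 0, 0, 0, -2, -2, -2, 0, 0, 0, 0, 0, -2, 0, 0, -2, -2, 0, 0, 0, 0, 0, -2, -2], [0, 0, -2, 0, -2, 0, 0, 0, 0, 0, 0, -2, 0, -2, 0, 0, 0, 0, -2, -2, 0, -2, 0, -2], [-1, 1, -1, -1, 1, 1, -1, 1, 1, -1, -1, -1, 1, -1, 1, 1, 1, 1, -3, -1, -1, -1, 1, -1], [-1, -1, 1, -1, 1, 1, -1, 1, -1, 1, -1, 1, 1, -1, 1, 1, 1, 1, 1, 1, 1, 1, 1, 3], [1, -1, 1, -1, 1, -1, -1, 1, -1, 1, -1, 1, -1, 1, 1, -3, -1, 1, 1, 1, -1, -1, -1, -1], [-1, -1, -3, 1, -1, 1, 1, 1, 1, -1, -1, -1, 1, -1, 1, -1, 1, 1, -1, -1, -1, -1, 1, 1], [1, -1, -1, -1, -1, -1, -1, -1, -1, 1, 1, 1, -1, 1, 1, -1, -1, 1, 1, 1, -1, 1, -3, 1], [2, 0, 0, 0, 0, 0, 0, 0, 0, 0, 0, -2, 2, -2, 2, 2, 0, 0, -2, 0, 0, -2, 0, 0], [1, 1, -1, 1, 1, 1, 1, -1, 1, -1, -1, -1, -1, 1,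 -1, 1, -1, -1, 1, 1, -3, -1, -1, -1], [-1, 1, -1, 1, -1, 1, -1, -3, 1, -1, -1, -1, 1, -1, 1, 1, -1, 1, -1, -1, 1, 1, -1, 1], [0, -2, 0, 2, 0, 0, 2, -2, 0, 0, 2, 0, 0, 0, 0, 0, 0, 0, 2, 0, 0, -2, -2, 0], [1, 1, 1, 3, 3, 1, 1, 1, 1, -1, -1, 1, -1, 1, 1, -1, -1, -1, -1, -1, -1, -1, 1, -3], [1, 1, 1, 1, 3, -1, -1, -1, 3, -5, -1, 1, -1, 3, -1, 1, 1, 1, -3, -1, -3, -1, 1, -3], [-3, -1, -3, 3, -3, 1, 1, 1, 5, -1, -1, 1, -1, 1, -1, 1, -1, 1, -1, -1, 1, 3, -1, 3], [-1, -3, -3, 3, -3, 1, 3, 1, 1, 3, 1, -1, 1, 1, -1, -3, -1, 1, 3, -1, -1, 1, -1, 3], [5, 1, -1, -1, -1, -1, -1, -1, -1, 3, -1, -3, -1, -1, -1, -1, 1, -1, 1, 1, -1, 1, 1, -1], [-1, 1, -1, -1, -1, -1, -3, 3, 1, -1, -1, 1, -3, 1, -1, -1, 1, 1, -5, 1, 1, 1, 5, -1],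 [5, 1, 1, 3, 1, -1, -1, -1, -1, 3, 3, 3, 3, 1, 3, -1, 1, -1, -1, -1, -1, -1, 1, 1], [-1, 1, 1, 3, -1, -5, 3, -5, -1, 1, 3, 1, 3, 5, -5, -3, -3, -5, 5, -5, 7, 3, -1, -5], [3, 1, 1, -1, -1, -1, -1, 3, 5, -3, -1, -1, -1, 1, -5, 1, 1, 1, -1, 5, 1, 3, 1, 1], [0, 0, -2, 2, 0, 0, 0, 0, -2, 2, -6, -6, 2, 0, 0, -4, 0, 2, 2, -2, 0, -2, 0, -2], [-3, -3, -1, -1, 1, 1, 3, -1, 1, -3, 3, 1, -3, 1, -1, 1, -1, 1, 1, -1, -5, -1, -1, -1], [3, -1, -1, -5, 5, 3, -3, -3, 1, 1, -3, 3, 1, 3, 3, 3, 3, 1, 1, 5, 1, 7, 3, 5], [-2, 2, 2, 2, 2, 0, -2, 2, 0, -2, -4, 0, 4, 0, 2, 0, 0, 2, -2, 0, 4, -2, 0, 0]],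
  [[-2, 0, 0, -2, 0, -2, 0, 0, -2, 0, 0, -2, 0, 0, 0, 0, -2, 0, 0, 0, 0, 0, -2, -2], [0, 0, 0, -2, 0, 0, 0, 0, 0, -2, -2, 0, 0, -2, 0, -2, 0, 0, -2, 0, 0, -2, 0, -2], [1, 1, 1, -1, -1, 1, -1, 1, -1, -1, -1, 1, -1, -1, -1, -1, 1, -1, -1, -1, 1, -1, 3, -1], [1, -1, 1, 1, 1, 1, 1, 1, 1, 1, 1, -1, -1, 1, -1, 1, 1, -1, 1, -1, 1, -1, 1, 3], [-2, 0, 0, 0, 0, -2, 0, 0, 0, 0, 2, -2, 0, 0, -2, 0, -2, -2, 0, 0, 0, 2, 0, 0], [0, 0, 0, -2, 0, 2, 0, 0, 2, 0, -2, 0, 0, -2, 0, 0, 0, 0, -2, 0, 2, 0, 2, 0], [-2, 0, 0, 0, 2, -2, 0, 0, 0, 0, 0, -2, 0, 2, 0, 2, -2, 0, 0, 2, 0, 0, 0, 0], [2, 0, 2, 0, 0, 0, 0, 0, 0, -2, 0, 0, 0, -2, 0, -2, 0, 0, 0, 2, 0, -2, 2, 0], [1, 1, -1, 1, -1, -1, -1, 1, 1, 1, 1, 1, 1, -1, 1, 1, -1, 1, -1, 1, -1,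 1, 1, -3], [1, -1, 1, -1, 1, 1, -1, 1, -1, 1, -1, -1, -1, 1, 3, -1, 1, 1, -1, 1, 1, -1, 1, -1], [0, -2, -2, 0, 0, -2, 0, -2, 2, 0, 0, 0, 2, 0, 2, 0, 0, 0, 0, 2, 0, 0, 0, 0], [1, 1, -1, 1, -3, -1, -1, -1, -1, 1, 1, 1, 1, -1, -1, -3, -1, 1, -1, -1, 1, 3, 1, -1], [0, 4, 0, 0, -4, 0, -4, -2, -2, 0, 2, 2, 0, 0, 0, 0, 2, 0, 0, 0, 2, 2, 2, -4], [0, 0, -2, -4, 0, 4, 0, 2, 0, 2, -2, 0, 2, 2, 2, 2, 0, 4, 0, 0, 4, 0, 0, 0], [-2, -2, -2, -2, 2, 2, 2, 0, 4, 0, -2, -2, 4, 0, 2, 2, -2, 2, -2, 0, 0, 2, 0, 2], [1, 1, 3, 1, 1, -1, 1, 1, 1, -3, 1, -1, -1, -1, -1, 1, -1, 1, -3, 1, -3, 1, -3, -1], [-2, 4, 2, -2, -4, 2, 0, 2, -2, 0, -2, 0, -2, 0, -4, 0, 2, 0, 0, -2, 2, 0, -2, 0], [1, 3, 3, 3, 1, -3, 1, -3, 1, -3, -1, -1, 1, 1, 1, -3,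 -1, 1, 1, 1, 1, 3, 1, 3], [-4, -4, -4, 2, 0, 2, 2, -6, -2, -2, 0, 2, 0, 4, 8, -4, -2, 2, 2, -2, -4, 4, -8, -2], [1, 3, 1, -3, -3, 3, -3, 3, -1, -1, 3, 1, -1, -1, -1, 5, 1, 3, 3, 1, -1, 1, -3, 1], [-2, -4, 2, 0, 0, 2, 0, 2, 2, -2, 2, -2, 0, -4, 2, -2, -2, -2, -6, -2, 0, 2, 0, -2], [-1, 1, -5, -1, -1, -1, -1, -3, 1, 3, -1, 1, 3, 1, -1, 3, 1, -1, -1, 1, -1, -1, 3, -3], [3, 1, 3, 5, 1, 3, 1, 3, 1, 1, 3, -1, -7, 7, -3, 5, 3, 1, 1, 3, 1, 3, 3, 3], [0, -2, 2, 0, -2, 2, -2, 2, -2, 0, 2, 0, -2, -2, 2, -4, 0, -2, 2, -2, 4, 0, 2, 2]],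
  [[0, -2, 0, 0, -2, -2, -2, 0, 0, 0, 0, 0, 0, -2, -2, 0, 0, 0, 0, -2, 0, 0, 0, -2], [0, 0, -2, -2, 0, 0, 0, 0, 0, -2, 0, 0, 0, 0, -2, -2, -2, 0, 0, 0, 0, 0, -2, -2], [-1, -1, -1, -1, 1, 3, 1, -1, 1, -1, 1, 1, -1, 1, -1, -1, -1, -1, -1, 1, 1, -1, -1, -1], [1, 1, 1, 1, 1, 1, 1, 1, 1, 1, 1, 1, 1, 1, 1, 1, 1, 1, -3, 1, 1, 1, 1, 1], [-1, -1, 1, 1, -3, -1, -1, 1, 1, 1, -1, -1, -1, -1, -1, 1, 1, -1, -1, 1, 1, 1, 1, -1], [0, 0, 0, -2, 0, 2, 2, 2, 0, -2, 0, 0, 0, 0, 0, 0, -2, 0, 0, 0, 2, 0, -2, 0], [0, 0, 2, 0, -2, -2, -2, 0, 2, 0, 0, 0, 0, 0, 0, 2, 0, 0, 0, -2, 0, 2, 0, 0], [0, 0, -2, 0, 2, 0, 0, 0, 2, -2, 0, 0, 0, 2, -2, 0, -2, 0, 0, 2, 0, 0, 0, 0], [0, -2, 0, 0, 0, 0, 0, -2, 0, 0, -2, -2, -2, 0, 2, 0, -2, 0, 2, 0, 0,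 0, 0, 0], [0, 0, 0, 0, 2, 2, -2, 0, 0, -2, 2, 0, 0, 0, 0, 0, -2, 2, 0, -2, 0, 0, 0, 0], [-1, 1, 1, -1, 1, -3, -1, 1, -1, -1, -1, -1, -1, -1, 1, 1, -1, 1, 1, 1, -1, 1, -1, 1], [-2, -2, 0, 2, 0, 0, 0, 0, -2, 0, 0, -2, -2, 0, 0, -2, 0, -2, 2, 2, 2, -2, 0, 0], [-3, -5, 1, -1, 1, 3, -1, -1, -1, -1, -1, 1, -3, 1, 1, -1, 1, -3, 3, 1, -1, -3, 1, -1], [1, -1, 1, -1, 1, 1, 1, 1, -1, -3, 1, 3, 1, -3, 3, -1, -1, 1, 1, -5, 3, -1, -1, 3], [1, 3, 1, -1, -1, -1, 1, 3, -1, -1, -3, -1, 1, -3, 1, 1, -1, 1, 1, -3, 3, 3, -3, 3], [2, 0, -2, 0, -2, 0, 0, -2, 0, 0, -2, -2, 2, 2, -2, 0, 0, 0, 2, 0, 0, 4, 2, -2], [1, -3, 1, -1, -3, 3, 3, -1, -1, -1, 1, 3, 1, 1, -3, -3, 3, -1, -1, -1, 1, -3, 1, -1], [1, 1, 1, 1, 1, -1, -3, 1, 1, -1, 1, -3,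 1, 3, -3, 1, 3, -3, 3, 3, 1, 1, -1, 3], [1, 7, -3, 3, -1, -3, -7, 1, -9, 1, -1, -1, 1, -5, 1, 1, 3, -1, 5, -3, -5, -3, -1, -1], [2, -4, 0, 0, 0, 2, 4, -2, 0, 0, -2, 4, 2, -2, 0, 0, 0, -2, 2, -2, -2, 0, 6, 2], [0, 2, -2, 0, -2, 4, -2, 2, -2, 0, -4, -2, 0, -2, -2, 0, -4, 2, 0, 2, 4, 2, 0, -4], [-4, -2, 2, -2, 0, -2, 2, 0, 0, 0, -2, 0, -4, 0, 4, 0, 0, 0, 0, -2, -2, 0, -4, 0], [1, 1, 3, 3, -1, 5, 1, -3, 1, -1, 3, 1, 1, 7, 5, 5, 3, -1, -3, -1, 1, 3, 7, 3], [0, 0, 0, 2, 2, 4, -2, 2, 0, 0, 2, 2, 0, -2, -2, 0, -2, 0, -2, 4, 2, -4, 2, 0]],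
  [[-1, -1, 1, -1, -1, 1, -1, 1, 1, -1, -1, 1, -1, -1, -1, -1, -1, 1, -1, -1, -1, 1, -1, -3], [0, 0, -2, 0, 0, 0, 0, -2, 0, 0, 0, 0, 0, -2, -2, 0, 0, -2, 0, -2, 0, 0, -2, -2], [2, 0, -2, 0, 2, -2, 0, -2, 0, 0, 0, 0, 0, -2, -2, 0, 0, 0, 0, 0, 0, -2, 0, 0], [-1, 1, -1, 1, 1, -1, 1, 1, 1, 1, 1, 1, 1, 1, 1, -1, -1, 1, -1, 1, 1, -1, 1, 3], [0, 0, 0, 0, -2, 0, 0, 2, 2, -2, 0, 0, 0, 0, 0, 0, -2, 2, 0, 0, 0, 0, 2, -2], [1, 1, -1, -1, 1, -1, 1, -1, 1, -1, 1, 1, -1, -1, -1, 1, -1, -3, 1, -1, 1, -1, -1, 1], [-1, 1, 1, -1, -1, 1, 1, 3, 1, 1, -1, 1, -1, 1, -1, 1, -1, 1, -1, -1, -1, 1, 1, -1], [2, 0, -2, 2, 0, 0, 0, -2, 0, 2, 0, 0, 0, 0, -2, 0, 0, 0, 0, -2, 2, 0, 0, 0], [2, 0, 0, 0, 0, 0, 0, 0, -2, -2, 0, 0, -2, 2, 0, 2, 2, 0,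 0, 0, 0, 0, 0, -2], [1, 1, 1, -1, 1, -1, 1, -1, -1, 1, -1, 1, -1, -1, -1, -1, 1, -1, -3, -1, 1, 1, -1, 1], [0, 0, 0, 0, -2, 2, 2, 0, 0, 0, 0, -2, -2, 2, 0, 0, 0, -2, 0, 0, 0, 2, 0, 0], [3, -1, 1, 1, -1, -1, -1, -1, 1, -3, -1, -3, -1, -1, 1, 1, 1, 1, 1, 1, 1, -1, -1, -1], [4, -2, 2, -2, 2, -2, 0, -4, 0, -2, -2, -2, -2, 0, 0, 0, 2, 2, 2, 0, -2, -2, 2, -2], [-1, 1, 5, -1, 3, 1, 1, -1, 1, -1, 1, 3, -3, -1, -1, 1, 1, -3, -1, 1, -1, -1, -3, 3], [-2, 4, 2, 0, -2, 2, 2, 2, 0, -2, 2, 2, -2, 0, 0, 2, -2, -4, 2, 0, 0, 2, -2, 2], [0, 2, -2, 0, -2, 2, -2, 0, -2, 0, 0, 2, 2, 0, 2, 2, 0, 2, 0, -4, 0, 0, 0, -2], [-2, -2, 0, -2, 4, 0, -2, -2, 2, -2, -2, 2, 2, -4, 0, 0, 0, 2, 2, 0, 0, -4, 0, 0], [3, 1, 1, 1, -3, 1, 1, 1, 1, 1, -3,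 -3, 3, 1, -1, 1, -1, 3, 3, -3, 1, 1, -1, 3], [-4, -4, 8, 0, -8, 0, -2, 0, -6, 0, -2, -4, 2, -2, 4, -2, 0, -4, 0, 0, -4, 6, -2, 0], [-1, -1, 3, -1, 5, 3, -5, -3, -1, -1, 3, 3, -1, 1, 1, 1, 1, 3, 1, -1, -1, -1, 3, 1], [1, 3, -3, 1, -5, -3, -1, -1, -1, -5, 1, 3, -1, -3, 1, -1, -1, -3, -1, -3, 1, 1, 1, -1], [0, 0, 0, -2, 2, 0, 4, 0, 0, 0, 0, -2, -4, 2, 0, 2, 0, -2, 2, 4, -2, 0, 0, -4], [0, 2, 2, -2, 2, -2, 2, 2, -2, 4, 0, 2, 2, 2, 4, 4, 0, 6, -4, 0, 2, -6, 6, 6], [2, -2, 0, 2, 0, -4, -2, -2, 2, -2, 0, 0, 0, -2, -2, -4, 0, 0, -2, 0, 2, 0, 2, 4]]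
]

/-- tables of the elements -/
def threeC1 : List (List ℕ) := [
  [4819545, 5047497, 1429710, 14983538, 10174191, 3902009, 692933, 7784312, 14766162, 4470198, 15087388, 2099791, 9258365, 964055, 9206357, 10707912, 384923, 6326214, 5166979, 13170007, 3358772, 4503729, 10614734, 11411308],
  [3637248, 7703370, 6642300, 2177403, 12646749, 1293130, 12978192, 1138253, 7631025, 8693699, 8876148, 14055583, 4979038, 707610, 11854904, 14390621, 3524067, 509211, 1109030, 9930024, 4975826, 2721104, 13668575, 1421586],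
  [9882028, 10379265, 4961033, 12909129, 11217359, 6258688, 14318631, 11551302, 10792283, 9810429, 9879185, 16296808, 4631065, 342140, 15431694, 248558, 4337141, 8888654, 6154679, 10564493, 15479790, 15253302, 329681, 6550334],
  [6658755, 16648720, 11259341, 6205440, 133206, 12766040, 16605913, 6870376, 14427268, 1475342, 13127371, 10868116, 1273870, 1577700, 10232219, 1116971, 12842578, 1235039, 9160307, 3847153, 5725652, 5120439, 31588, 3223457],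
  [4418944, 6608135, 10700988, 3085749, 4833373, 12071304, 10569741, 5772367, 16660665, 12685905, 7299247, 6625512, 10573843, 2791747, 941396, 6571488, 7657484, 15370334, 14022031, 3127428, 16641486, 1957362, 1491189, 13463691],
  [14626841, 446464, 12078937, 12770204, 9345711, 15396063, 12740107, 9125325, 7395478, 9128682, 5239281, 11646346, 2262150, 4836747, 5532575, 8510858, 10175659, 4087794, 13200739, 93607, 6904451, 12960029, 5318076, 11361412],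
  [1338590, 5472920, 6963399, 16273417, 8721455, 7660160, 15298122, 13776228, 2851505, 15044481, 3601513, 2222135, 14145896, 10848423, 502413, 12820300, 11868792, 1235039, 5356302, 10445816, 10180652, 2694919, 11926406, 10784879],
  [13719879, 5724663, 13127489, 455314, 11827704, 1603814, 10316854, 10938718, 12668022, 14878264, 7330222, 5510472, 16170596, 2214769, 4034108, 11252941, 961477, 8979951, 14452066, 11179696, 12133761, 8235237, 19008, 9201802],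
  [1937633, 11583377, 5550973, 12958431, 16124572, 9151426, 11776998, 10047417, 9175780, 5960526, 694725, 6372460, 3542951, 7568456, 4217645, 1920958, 11595055, 12148783, 2345906, 4982296, 7148013, 12605898, 4730854, 3863987],
  [8740344, 14707791, 11923199, 9076668, 14206880, 14629401, 9887706, 9548812, 9277672, 14144870, 5878614, 10228691, 8496378, 4042078, 5363487, 2826227, 3844891, 7989245, 4692086, 4701953, 6824119, 3005605, 9643681, 3939246],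
  [13091047, 3920927, 1275219, 4341761, 10962725, 15992284, 15524600, 2643517, 14604013, 4582591, 15700324, 14876095, 16002962, 6139324, 10889425, 11781827, 15186039, 8811590, 10479046, 5503251, 6540300, 8358020, 4078692, 1840730],
  [14548202, 4854016, 15630689, 13181002, 8525629, 10831191, 6887776, 1205525, 10159637, 3648272, 9224026, 14477748, 12477337, 13568645, 13607430, 1908037, 16732267, 16273411, 9034443, 12079403, 2979843, 65416, 3001436, 15497096]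
]

/-- images of the basis -/
def threeW2 : List (List (List ℤ)) := [
  [[-1, -1, -1, -1, 1, -1, 1, -1, -1, -1, 1, -1, -1, 1, -1, -1, -1, 1, 1, -1, -1, -1, 1, -3], [0, 0, 0, 0, 0, 0, 0, 0, 0, 0, 0, 0, 0, -4, 0, 0, 0, 0, 0, 0, 0, 0, 0, -4], [1, -1, 1, 1, -1, 1, 1, 1, -1, -1, -1, -1, -1, -3, -1, 1, 1, -1, -1, 1, 1, 1, -1, -1], [1, 1, -1, 1, -1, 1, 1, 1, 1, -1, -1, 1, -1, 1, 1, 1, -1, 1, -1, 1, 1, 1, 1, 3], [-1, -1, -1, -1, 1, -1, 1, -1, -1, -1, -3, -1, -1, 1, -1, -1, -1, 1, 1, -1, -1, -1, 1, 1], [1, 1, 1, 1, -1, 1, -1, 1, -1, -1, -1, 1, 1, -3, -1, -1, 1, 1, 1, 1, 1, 1, 1, -1], [0, 0, -2, 0, 2, 0, 0, 0, -2, 0, 0, 0, 0, 2, 0, 0, 0, 2, 0, 0, -2, -2, 2, 0], [1, 1, 1, 1, 1, -1, 1, 1, 1, 1, -1, -1, -1, -3, 1, 1, 1, 1, -1,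 1, 1, -1, -1, -1], [0, 0, 0, 0, 0, -2, -2, 0, -2, 0, 0, 0, 0, 0, 0, 0, 2, -2, 2, 0, 0, -2, -2, 0], [2, 0, 0, 2, -2, 0, 0, 0, 0, 0, 2, 0, 0, 0, 0, 2, 2, 2, 0, 0, 0, 0, 0, -2], [0, 2, 0, 0, 0, -2, -2, 0, 0, 2, 0, 0, 2, 0, 0, 0, 0, 0, 0, -2, 0, -2, 2, 0], [-1, -1, 1, -1, -1, -3, 1, -1, -1, 1, -1, -1, 1, -1, -3, -1, 1, -1, 1, -1, 1, 1, -3, 1], [-1, -3, 3, 1, -1, -1, -1, 1, -3, 1, -1, -5, 1, 1, -3, 1, 1, -3, 1, 1, 1, 1, -3, -1], [2, 0, 2, 0, -2, 0, -2, 2, -2, -2, 6, 2, 2, 0, -2, 0, 0, 2, 2, 2, 0, 2, 2, 0], [1, 3, 1, -1, 1, 1, -3, -1, -1, -1, 1, 5, 3, -1, -1, -1, -1, 3, 3, -1, -1, -1, 3, 1], [0, -2, -2, 0, 4, 0, 0, -2, 2, 0, -2, 2, 0, 0, 2, 0, 0, 0, 2, 2, 0, -2, -2, -2], [-1, -3, -1, -1, 1, 3, 1, 1, 1, -3, 1, -3, -1,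 -1, -3, -1, -1, -1, 1, 3, 1, 5, -1, -1], [2, 2, 0, 0, 4, 0, 4, -2, 0, 4, -2, -2, 4, 0, 0, 0, 0, 2, 0, 0, 0, 0, -2, 2], [-2, 0, 4, -2, 0, -2, -2, -6, 4, 2, 4, 2, 6, 6, 2, -2, -2, 0, -2, -8, -6, 2, -2, -4], [1, -5, 3, -1, 3, 1, -3, 3, 1, -1, 3, -1, -3, 3, 1, -1, -1, -1, 3, 3, 3, 1, -1, 1], [-1, -1, 1, 1, -1, -1, -1, -3, 1, -5, -5, 3, 1, -3, 1, 1, 1, 3, 3, -3, 1, -1, -1, -3], [-2, 2, 0, 0, -2, 0, -4, 2, -4, 2, 0, 0, 0, 0, -4, 0, 0, -4, 0, 0, -2, -2, 2, 0], [5, -3, -3, 3, 1, 1, -1, 1, 1, -1, -3, 1, -1, 7, 1, 3, 3, 1, -3, 7, -1, 3, -1, 7], [1, -1, 3, 1, -3, -1, 3, 1, 1, -3, -1, -3, -1, -1, 1, 1, 1, 3, -1, -3, 3, 3, -1, 1]],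
  [[-1, 1, -1, 1, -1, -1, -1, 1, -1, -1, 1, -1, -1, -1, 1, 1, -1, -1, -1, 1, -1, -1, -1, -3], [-1, -1, -1, -1, -1, -1, -1, -1, -1, -1, -1, -1, -1, -1, -1, -1, -1, 3, -1, -1, -1, -1, -1, -1], [0, 0, 0, -2, 0, 2, 0, 0, 0, -2, -2, 0, 0, 0, -2, -2, 0, 2, 0, 0, -2, 0, 0, 0], [0, 2, 2, 0, 2, 2, 0, 0, 0, 0, 0, 0, 2, 0, 0, 0, 0, 0, 0, 0, 2, 2, 0, 2], [-1, 1, 1, 1, -1, 1, 1, 1, 1, -1, 1, 1, 1, -1, 1, 1, -1, -1, -1, 1, 1, -1, 1, -3], [-2, 0, 0, -2, -2, 0, 0, 0, 0, 0, -2, 0, 0, 0, 0, -2, -2, 2, 0, 0, 0, 0, 0, 2], [-1, 1, 1, 1, 1, -1, 1, 1, -1, 1, 1, -1, -1, -1, 1, 1, -1, -1, -1, 3, 1, -1, 1, -1], [1, -1, 1, -1, 1, 1, 1, -1, -1, -1, 1, 1, -1, -1, -1, -1, -1, 3, -1, -1, -1, -1, -1, 1], [0, -2, 0, -2, 0, -2, 0, 0, 0, 0, 0, 2,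 0, 0, 0, 0, 0, -2, 0, 0, -2, -2, 2, 0], [0, 0, 0, -2, 0, 0, 0, 0, -2, 0, 0, -2, -2, -2, 0, 0, 0, 0, 0, 0, -2, 2, 0, 2], [-2, -2, 0, 0, 0, -2, 2, -2, 0, 2, 2, 0, 0, 0, 2, 0, 0, 0, 0, 0, 0, 0, 0, 0], [1, -3, -1, -1, -3, 1, 1, 1, 1, -3, 1, 1, 1, 1, 1, -1, 1, -1, 1, -1, -1, -1, 1, -1], [1, -3, -3, -1, -1, 3, 1, 1, 3, -1, -1, 1, -1, 1, -1, -3, 1, -3, -1, 1, -5, -1, 1, -1], [-3, 1, -3, -3, -1, -1, -1, 3, -1, 1, -1, -3, -1, 3, 1, 1, -1, -1, 1, 1, -1, 1, -1, 5], [-3, 1, -1, -1, -3, -3, 1, -1, -1, 3, -1, -1, 1, 1, 3, 3, -3, 1, 1, 1, 3, -1, 1, 3], [3, 1, 1, 1, -1, -1, -3, -1, -1, 1, 1, 1, -1, -1, -1, 1, -1, 1, -3, -1, 1, -3, 3, -1], [1, 3, -3, 1, -1, 3, -3, 5, 1, -1, -3, -1, 1, 1, -1, -3, 1, 1, -1, -1, -1, -1, -1, -1], [5,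 -1, -1, 1, -1, 1, 3, -1, 1, -1, 3, 1, -1, -1, 3, -1, 1, 3, -1, 3, 3, -1, 1, 1], [3, -1, -5, 3, -5, -5, 1, -5, 3, 3, 3, -5, -5, -1, 1, 5, 3, -5, 5, -3, 3, 1, -3, -3], [2, 2, 0, 0, 0, 2, -4, 4, 2, 4, 0, 2, 0, 4, -2, 2, 0, -2, -2, 0, -4, -2, -2, 2], [-2, 2, 2, -2, -6, 0, 0, -4, 0, -2, -2, 0, 0, -4, 0, 2, -2, 0, -2, -4, 0, -2, 2, 0], [-4, -4, -2, 0, 2, -2, 2, 0, 0, 2, -2, 0, 2, 2, 0, -2, -2, -2, 2, 2, -2, 0, 2, -2], [4, 4, 4, -2, 4, 6, 0, 4, 0, 4, 2, 0, 0, 0, -4, -2, 2, -4, 0, 2, 4, 2, 6, 4], [0, 2, 2, -2, -2, 4, 2, 0, 2, -4, 0, 0, 0, -2, 0, 0, 2, 0, 0, -2, -2, 2, -4, 2]],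
  [[0, 0, 0, 0, 0, -2, -2, 0, -2, 0, 0, -2, 0, -2, 0, -2, 0, 0, -2, 0, 0, 0, 0, -2], [-1, -1, -1, -1, 1, 1, -1, -1, 1, 1, -1, 1, 1, -1, -1, -1, -1, -1, -1, 1, -1, -1, -1, -3], [1, -1, -1, 1, 1, 3, 1, -1, 1, -1, -1, 1, 1, -1, -1, 1, -1, -1, -1, -1, -1, -1, -1, -1], [0, 0, 0, 2, 0, 0, 2, 2, 2, 0, 0, 0, 0, 0, 0, 2, 2, 0, 0, 0, 0, 2, 0, 2], [0, 0, 0, 2, 0, -2, -2, 0, -2, 0, 0, 0, -2, -2, 0, 0, 2, 0, 0, -2, 0, 0, 0, 0], [-1, -1, -1, 1, 1, 3, 1, -1, 1, 1, 1, 1, 1, -1, 1, -1, 1, -1, 1, 1, -1, -1, -1, -1], [0, 0, 0, 0, 2, -2, -2, 2, -2, 0, 0, -2, 0, 0, 2, 0, 2, 0, 0, 0, 0, 0, 0, 0], [1, -1, 1, 1, 1, 1, -1, 1, 1, 1, -1, 3, 1, 1, -1, 1, -1, -1, -1, 1, -1, -1, -1, -1], [1, -1, -1, -1, -1, 1, -1, -1, -3, -1, 1, 1, -1, 1, 1,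 1, -1, 1, 1, 1, 1, -1, -1, -1], [1, -1, 1, -1, 1, 1, 1, 1, 1, -1, 1, -1, 1, -1, 1, 1, -1, -1, -1, 3, -1, -1, 1, -1], [-1, -1, 1, -3, -1, -1, -1, 1, -1, 1, 1, 1, -1, 1, 1, -1, 1, -1, 1, 1, -1, -1, -1, 1], [0, 0, 2, 0, -2, 2, 0, -2, -2, 0, 0, 2, -2, -2, 0, 0, -2, 0, 0, -2, 2, -2, 0, 0], [2, 0, 0, 0, -2, 4, -2, -2, -2, -4, 2, 0, 0, 0, 0, 0, -4, -2, 0, -4, 0, -2, 0, 0], [-1, 1, -1, -1, -1, 3, 3, -1, -1, 1, 3, -3, 5, -1, 3, -1, 1, -1, -1, 3, 1, -1, 1, 1], [-3, 1, -1, -1, 1, -1, 1, -1, -1, 5, 3, -1, 1, -1, 3, -1, 3, 1, 3, 3, -1, -1, -1, 1], [1, 1, -1, 1, 3, -3, -3, -1, 1, 1, 1, 1, -1, 1, -1, 1, -1, 1, 1, 1, 3, 1, -1, -3], [0, 2, -2, 4, 0, 2, 0, -4, 2, -2, -2, -2, 2, -2, 0, -2, -2, -2, -2, -2, 2, 2, 0, 0], [0, 4, 4, 0,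 4, 0, -2, 2, 0, 2, 0, 4, -2, 0, 2, 0, -2, 0, 0, -2, 0, 0, 0, 2], [-4, 4, 6, -8, -2, -8, 2, -2, -2, 0, 2, -2, 0, 0, -2, -4, -4, 2, 4, 0, -2, 0, 6, -2], [5, 1, -3, 3, -3, -1, -1, -3, 1, -1, 3, -1, 5, 3, 1, -1, -1, 1, -1, -1, 3, 1, 1, 1], [-2, -4, 0, 2, 2, -2, 0, -4, 0, 2, 4, 2, -2, -4, -2, 2, 0, 0, 2, 2, -2, 0, 0, -4], [-1, -1, -3, -3, -3, 3, -1, 1, -3, -1, -1, -3, -1, 1, 1, -1, 1, -1, 3, -1, -1, -3, -3, 1], [3, 3, 1, 5, 3, -1, 3, 3, 3, -7, 1, -1, 1, 3, 3, 7, 3, -1, 3, -1, 5, 1, 1, 3], [1, -3, 3, 3, -1, 1, 3, -1, 1, -1, 1, 3, 1, -3, -1, 1, -1, -1, -3, -1, -3, 1, 3, 1]],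
  [[0, 0, 0, 0, 0, -2, -2, 0, 0, -2, 0, -2, 0, 0, -2, 0, 0, -2, 0, 0, 0, 0, -2, -2], [-1, -1, -1, -1, -1, -1, 1, -1, 1, 1, -1, -1, -1, 1, -1, -1, -1, 1, -1, 1, -1, 1, -1, -3], [-1, -1, 1, -1, -3, 1, 1, -1, -1, 1, -1, -1, -1, 1, 1, -1, -1, 1, 1, 1, -1, 1, 1, -1], [0, 0, 2, 0, 0, 2, 0, 0, 0, 0, 2, 0, 0, 0, 0, 0, 2, 2, 0, 0, 2, 0, 2, 2], [2, 0, 0, -2, 0, 0, -2, 0, -2, -2, 0, 0, 0, 0, -2, 0, 2, -2, 0, 0, 0, 0, 0, 0], [0, -2, 0, -2, -2, 0, 2, -2, 2, 2, 0, 0, 0, 0, 0, 0, 0, 0, 0, 2, 0, 0, 0, 0], [0, 0, 0, 0, 2, -2, -2, 0, 0, -2, 2, 0, 0, 0, 0, 0, 2, -2, 0, 2, 0, 0, 0, 0], [-1, 1, -1, -1, -1, 1, 1, 1, 1, 1, -1, -1, -1, 1, 1, -1, 1, 1, -1, 1, -1, 3, 1, -1], [2, 0, -2, 0, 0, 0, 0, 0, 0, 0, 0, 0, 0, -2, 2, -2, -2, -2, 0,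 0, -2, 0, 0, 0], [-2, 0, 2, 0, 0, -2, 0, 0, 2, 2, 0, -2, 0, 0, 2, -2, 0, 0, 0, 0, 0, 0, 0, 0], [0, 0, -2, 0, 2, 0, -2, 0, 2, 2, 0, 2, 0, 0, 0, 0, 0, -2, -2, 0, 0, 0, 0, 0], [1, 1, -1, -1, -3, 1, -1, 1, -1, 1, -3, 1, 1, -1, -1, -1, -1, -1, 1, -1, -3, -1, -1, 1], [0, 0, 0, -2, -4, 0, -2, 0, -2, 0, -2, 0, 0, 0, 4, 2, -4, -2, 2, -2, -4, 0, 0, 0], [-1, -3, 1, 3, -3, -3, 1, -1, 3, 3, 3, -1, 1, -1, 1, 1, -1, -1, 1, 1, 1, -1, -3, 3], [2, -4, -2, 0, 2, -2, 2, 0, 4, 2, 2, 2, 0, 0, -2, 0, 2, -2, 0, 2, 2, -2, -2, 2], [1, 1, -1, -3, 3, -1, 3, 3, -1, -3, 1, -1, -1, -1, -1, -1, -1, 1, -1, 1, -1, 1, -1, -1], [0, 0, 4, 0, -4, 0, 2, -2, -2, -2, 0, -2, -2, 0, -2, 4, -2, 2, 2, 0, -2, 0, -2, 0], [0, 4, 0, -2, 0, 0, 0, 4, 2, -2, -2,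 4, 0, 4, 0, 0, 2, 0, 0, 2, -2, 0, 0, 2], [-3, 3, -3, 3, 5, -7, 1, 3, 1, 1, -3, 5, 3, 1, -3, 1, -1, -3, 1, -9, 3, -5, -3, -3], [1, 1, -1, 1, -1, 1, 3, 1, -3, -1, 3, -5, -1, -1, 3, 5, -3, -1, 1, -1, 1, 1, -3, 3], [1, -3, -1, -7, 1, -1, 3, -1, 1, 1, -1, -1, -1, -1, -3, -5, 1, -1, 1, -3, 1, 1, -1, -1], [2, -4, -2, 2, 0, 0, -4, -2, 0, 2, 0, 2, 0, -2, 2, 2, -2, -2, 0, 2, -2, -2, 2, -2], [-1, 3, 7, -1, 1, 1, 3, 3, -5, -1, 7, 1, 1, -3, 5, 1, 3, 1, 1, 1, -1, -1, 5, 5], [-2, 2, 2, -2, -4, 2, 0, -2, 0, 2, -2, -2, 0, 2, 0, -2, 2, 0, 2, -4, 2, 2, 0, 2]],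
  [[0, 0, -2, 0, 0, -2, -2, -2, 0, 0, 0, 0, 0, 0, -2, -2, 0, 0, 0, 0, -2, 0, 0, -2], [0, -2, 0, 0, 0, 0, 0, 0, 0, 0, -2, 0, 0, -2, 0, 0, 0, 0, 0, -2, -2, -2, -2, -2], [-2, 0, 0, 0, 0, 0, 0, 2, 0, 0, -2, 0, -2, 0, 2, 0, 0, 0, 0, -2, 0, -2, -2, 0], [0, 2, 0, 0, 0, 0, 0, 2, 0, 0, 0, 2, 0, 0, 0, 2, 0, 0, 2, 0, 2, 2, 0, 2], [0, 0, 0, 0, 0, -2, -2, 0, 0, -2, 0, 0, 0, 2, -2, -2, -2, 0, 0, 0, 0, 2, 0, 0], [-1, -1, -1, 1, 1, 1, 1, 1, 1, -1, -1, -1, 1, -1, 1, 1, -1, -1, 1, -3, -1, -1, -1, 1], [1, 1, -1, -1, -1, -1, -1, -1, 1, -1, 1, 1, 1, 1, -3, -1, 1, -1, -1, -1, -1, 1, 1, 1], [1, -1, 1, -1, 1, 1, -1, 1, -1, -1, -1, 1, -1, -1, 1, 1, 1, 1, -1, -1, -1, -1, -3, 1], [-2, -2, 0, -2, 0, 2, 0, 0, 0, 0, 2, -2, 0, 0, 0, -2, 0, 0,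 -2, 0, 0, 0, 0, 0], [-1, 1, -1, -1, -1, 1, -1, -1, -1, 1, -1, -1, 1, -1, 1, 1, 3, -1, 1, -1, -1, -1, -1, 1], [2, -2, 0, 0, 0, 2, 0, -2, 0, 0, 0, 0, 2, 0, 0, 0, 0, -2, -2, 0, 0, 2, 0, 0], [0, -2, 0, 0, 0, 0, 0, 0, 0, 0, 0, -4, -2, 2, 2, -2, -2, 0, 0, 2, 0, 0, -2, 0], [-3, -1, -1, -1, 1, 1, -1, 1, -1, 1, -1, -3, -3, 5, 3, -1, -1, -1, -3, 1, -1, -3, 1, -1], [-2, 0, -4, 2, 2, 0, 2, -2, 2, 4, 2, -2, 2, 0, 0, 2, 2, -2, 2, -2, 0, -2, 0, 2], [2, -2, 0, 2, 2, 0, 2, -2, 2, 0, 2, -2, 4, -2, -2, 0, 0, -2, 2, -4, 0, 2, 2, 2], [0, -2, 2, -4, 0, -2, 0, 0, 0, -2, 0, 0, 0, -2, -2, 0, 0, 4, 0, 0, -2, 0, 2, 0], [-3, 1, -3, 3, 1, -3, 1, 3, 1, 1, -3, -1, -3, 1, -1, 1, -1, 3, 1, 1, -1, -3, 1, -1], [7, -1, 1, -1, -1, -1, -1, 1, -1, -1,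 -1, -1, -1, 1, 1, -1, -1, 1, -1, 1, -1, -1, 1, 5], [5, -1, 3, 3, -3, -3, 3, -9, -7, 1, 3, -3, 3, -1, 1, -1, 1, -3, 1, 5, -1, -1, 5, -5], [-5, 1, -1, -1, 7, -1, 1, -1, 1, 1, 1, 1, -1, 1, -1, 1, 1, 3, -1, 3, 1, -3, 3, 1], [-3, -3, 3, -1, 1, -3, -1, 1, -3, -3, -1, -3, 3, -3, 1, -1, -1, -1, 3, -3, -3, 3, -1, -1], [-1, -1, -1, 1, -1, 5, 1, -1, 3, 1, 1, -1, -1, 3, -1, -1, -1, -3, -3, -3, 1, 1, 1, -3], [-3, 5, -1, -5, -3, -1, 3, 3, -1, -3, 1, 1, -1, 5, -1, 5, 3, 3, 1, 1, 5, 1, 3, 7], [-2, 2, 0, 2, 2, -2, -2, 2, -4, 0, -2, 0, 0, 0, 4, 0, 0, -2, 2, 2, 0, 0, -4, 2]],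
  [[-1, -1, -1, 1, 1, 1, -1, -1, -1, -1, -1, 1, -1, -1, 1, 1, -1, -1, -1, -1, -1, 1, -1, -3], [0, 0, 0, 0, 0, -2, 0, 0, 0, 0, 0, 0, 0, -2, -2, 0, 0, -2, -2, 0, -2, -2, 0, -2], [0, 0, 0, 0, 0, -2, 2, 0, 0, -2, 0, 0, 0, -2, -2, -2, 2, 0, 0, 0, 0, -2, 0, 0], [2, 2, 0, 0, 0, 2, 2, 0, 0, 0, 0, 0, 0, 0, 0, 0, 0, 0, 2, 0, 2, 0, 2, 2], [0, 0, 0, 0, 2, 2, 0, -2, 0, 0, -2, 0, -2, 0, 2, 0, 0, 2, 0, 0, 0, 0, 0, -2], [1, 1, 1, -1, -1, -1, 1, -1, 1, -1, 1, 1, -1, -1, -1, -1, 1, -1, -1, 1, -3, -1, 1, 1], [1, -1, 1, 1, 1, 1, 1, -1, -1, 1, -1, 1, -1, 1, 3, 1, -1, -1, 1, -1, -1, 1, -1, -1], [2, 0, 2, 0, 2, -2, 0, 2, 0, 0, 0, 0, 0, -2, -2, 0, 0, 0, 0, 0, 0, -2, 0, 0], [-1, -3, 1, -1, -1, -1, -1, 1, 1, -1, 1, -1, -1, 1, 1, 1, 1, 1,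 1, 1, -1, -1, -1, -1], [1, -1, 1, -1, -1, -1, 1, 1, -1, -1, 1, 1, -1, -1, -1, 1, 1, -3, -1, -1, 1, 1, -1, 1], [1, -1, 1, -1, -1, -1, -1, 1, 1, 3, 1, 1, -1, 1, 1, 1, -1, 1, -1, -1, -1, 1, 1, -1], [-3, -1, 1, -1, 1, -1, -1, -1, 3, -1, 1, -1, -1, -1, -1, -1, 1, 3, -1, 1, 1, 1, -1, -1], [-2, -2, 0, -2, 0, -4, 0, 0, 0, -4, 0, 0, 2, 0, 0, -2, 4, 4, 0, 0, 0, 2, -2, -2], [-2, 0, 0, 0, -4, 0, 2, 0, 0, -2, 2, 2, 0, -2, 0, 2, 0, -2, 0, 0, -4, 4, 0, 4], [1, 1, 1, 1, -3, 1, -1, -3, 1, 3, 1, 1, -3, 1, 1, 3, -1, -1, -1, 1, -5, 1, 1, 3], [0, 0, 2, 2, 2, 0, -2, 0, -2, 0, -2, -2, 0, 2, 0, 2, 0, -2, 0, 4, 0, -2, 0, -2], [-3, 3, -3, 1, 1, 1, 1, -1, -1, -3, -1, 1, 3, -3, -1, -3, 3, -1, 1, 3, -1, 1, -1, -1], [3, -1, 3, 3, 5, -1, -1,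 -1, 3, 3, -1, -1, 1, 1, -1, -1, 1, 1, -1, 1, 1, 3, -1, 1], [-3, -1, -5, -1, -1, -1, -7, -1, -3, 5, 1, -5, -1, 5, -1, 1, -5, -1, -7, -3, 1, 7, -3, 1], [-3, 1, -1, 1, -1, -1, -3, 3, -3, -5, -3, 1, 3, -1, 3, 1, 1, 1, 3, 3, -1, 1, 1, 3], [1, 1, -1, -3, 1, -1, -1, -3, -1, -1, -1, -1, -7, 1, -3, 3, 1, -1, -3, 3, -1, -3, 1, -1], [-1, -1, 1, -1, -5, -1, 1, -1, 1, 1, 3, 1, 1, 1, 3, -1, 1, 3, 1, -3, -3, -1, -1, -3], [1, 1, 5, -1, 1, 3, 5, 1, -5, -1, -1, -3, 1, 3, 3, -3, 3, -1, 7, 3, 5, 3, 1, 5], [1, 1, -3, -3, 3, -1, 1, 1, 1, -3, -1, 1, -3, -3, -3, -1, 1, 1, -1, -1, 3, 1, 1, 3]],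
  [[0, 0, 0, 0, 0, 0, -2, -2, 0, 0, -2, -2, 0, -2, -2, 0, 0, 0, 0, 0, 0, -2, 0, -2], [-2, 0, -2, 0, 0, -2, 0, 0, 0, 0, 0, 0, 0, 0, 0, -2, -2, 0, -2, 0, 0, -2, 0, -2], [0, 0, -2, 0, 0, -2, 0, 0, -2, 0, 2, 2, 0, 0, 0, 0, -2, 0, -2, -2, 0, 0, 0, 0], [0, 0, 0, 0, 0, 0, 0, 0, 0, 0, 0, 2, 0, 2, 0, 2, 2, 2, 0, 0, 0, 2, 2, 2], [1, -1, 1, 1, 1, 1, -1, -1, -1, -1, -1, -1, -1, -1, -1, 1, 3, -1, -1, -1, 1, -1, 1, -1], [-3, 1, -1, -1, 1, -1, 1, -1, -1, 1, 1, 1, -1, 1, 1, -1, -1, -1, -1, -1, 1, -1, 1, 1], [0, 0, 2, 0, 0, 0, 0, 0, 0, 0, -2, 0, 0, -2, -2, 0, 2, 0, 2, 0, 0, -2, 2, 0], [0, 0, 0, 2, 0, -2, 0, 2, 0, 0, 0, 2, 0, 2, 0, 0, -2, 0, -2, 0, 0, -2, 0, 0], [0, 0, 2, 0, 0, 0, 2, 0, 0, -2, 0, 0, -2, -2, 0, 0, -2, -2, 0, 0, 0,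 0, -2, 0], [-1, 1, -1, -1, -1, -1, -1, 1, -1, 1, -1, 1, -1, -1, 1, 1, -3, 1, 1, 1, -1, -1, 1, 1], [-1, -1, 1, -1, -1, 1, 1, 1, 1, -1, -1, -1, -1, 1, 1, -1, 1, -1, 1, 1, -1, -3, -1, 1], [1, -1, 1, 1, 1, 1, -1, -1, -1, -1, 3, -1, -1, -1, 3, 1, -1, -1, -1, -1, 1, -1, -3, -1], [2, 0, 0, 0, -2, 2, -2, 0, -2, -2, 4, 0, 0, -2, 0, 0, -4, -4, 0, -4, 0, 0, -2, 0], [-4, 4, 0, -2, 0, 0, 0, -4, 0, 2, 0, 0, 2, -2, 2, 0, -2, 0, 2, 0, -2, 0, 0, 4], [-4, 2, 2, -2, 2, 2, 4, -2, 0, 2, -2, -2, 0, 0, 2, -2, 2, 0, 0, 2, 0, -2, 2, 2], [1, 1, 1, 3, 1, 1, 1, 1, 1, -1, -3, 1, -1, -1, -1, -3, -1, 1, -1, 1, 3, 1, 1, -3], [1, 1, -3, 1, -1, -1, -3, -5, -1, 1, 3, 1, 3, -1, -1, -1, -1, -1, -1, -1, 3, 3, 1, -1], [3, 1, 1, 3, 1, 3, 1, 3, 1, 1, 3,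 1, 1, 1, 1, 1, 1, 1, 1, 1, 3, -5, 1, -1], [0, 0, -2, -2, 0, 6, 0, 4, 0, 2, -4, -10, 4, 0, 4, 0, 0, 0, 6, 4, -2, 0, -4, -6], [3, 3, 1, 1, -1, 1, -1, -3, 3, 1, -3, 1, 3, -1, -1, -1, -3, -3, -1, -3, 1, 5, -1, 3], [-4, -2, -2, 2, 2, 2, 2, 0, -4, 0, -4, -2, -4, 0, 2, 0, -2, 0, -4, 0, 2, 0, 2, -2], [-1, -1, 3, -5, -1, -1, 1, -1, -1, -3, 3, -1, -1, -1, -1, -3, 1, -3, 1, -1, -3, -1, -1, 1], [3, 3, 3, 1, -1, 1, -1, 3, -3, -1, -1, 9, 1, -1, 1, 3, 3, 1, 5, -1, 3, 7, 3, 3], [0, -2, -4, 2, 0, 0, -2, 0, -2, 2, 0, 0, 0, 2, 2, 6, -2, 0, -2, -2, 0, 0, 0, 2]],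
  [[-2, 0, 0, 0, 0, -2, 0, -2, 0, 0, 0, -2, 0, 0, -2, 0, 0, 0, -2, -2, 0, 0, 0, -2], [-1, -1, 1, -1, -1, 1, 1, -1, -1, -1, -1, -1, 1, -1, -1, -1, -1, 1, 1, 1, -1, -1, -1, -3], [0, 0, 0, 0, 0, 0, 0, 0, -2, 0, -2, 0, 2, -2, 2, 0, 0, 0, 2, 2, 0, 0, 0, -2], [2, 2, 0, 2, 2, 0, 0, 0, 0, 0, 0, 2, 0, 0, 0, 0, 0, 0, 0, 2, 2, 0, 0, 2], [0, 0, 0, 0, 2, -2, 0, -2, -2, 0, 0, 0, 0, 2, 0, 0, 0, -2, -2, -2, 0, 0, 0, 0], [0, 0, 0, -2, 0, 2, 2, 0, -2, 0, 0, 0, 2, -2, 0, 0, -2, 0, 0, 2, 0, 0, 0, 0], [-1, -1, -1, 1, 1, -1, 1, -3, 1, 1, 1, -1, -1, 1, -1, -1, -1, -1, -1, -1, 1, 1, 1, 1], [-1, 1, 1, 1, -1, 1, 1, -1, -1, -1, -1, 1, 1, 1, 1, -1, -1, 1, 3, 1, -1, -1, 1, -1], [0, -2, -2, -2, -2, 0, 0, 0, 0, 0, 0, 0, 0, 0, 2, 0, 0, 0, 0, -2,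 0, -2, 2, 0], [-1, 1, -1, 1, -1, 1, 1, 1, 1, 3, -1, -1, 1, -1, -1, -1, -1, 1, 1, 1, 1, -1, 1, -1], [-1, -1, 1, -1, -1, 3, -1, -1, 1, 1, 1, 1, -1, 1, -1, -1, -1, -1, -1, -1, -1, -1, 1, 1], [0, 0, 0, -2, 0, 0, -2, 2, -2, 0, -2, 0, 2, 0, 2, 0, 0, 0, 0, -4, -2, 0, 0, 0], [-3, -1, -1, -3, 1, -1, -3, 3, -1, 1, -1, -1, 1, -1, 5, 1, 1, -1, 1, -1, -1, 1, 3, -3], [0, 0, 0, -2, -2, 0, 0, 2, 2, 2, 2, -2, 4, -4, -2, 0, -2, 2, -2, 2, 2, 2, 2, 2], [1, -1, 1, -3, -1, 1, 3, -1, 1, 1, 3, -1, 1, -1, -3, -1, -3, -1, -3, 1, -1, -1, -1, 5], [1, -1, -1, 1, 1, -1, 3, -1, 1, -3, 1, -3, -1, 3, 1, 1, -1, 1, 1, -1, -1, -3, -1, -1], [-1, -1, 1, 1, 3, -3, 1, 3, -1, -3, -1, -1, 3, -3, 1, 3, 1, 1, -1, 1, 1, 3, -1, -3], [-3, 1, 1, 1, 3, 1, 1, -1,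 1, 1, 1, 1, 1, 3, 3, -1, -1, 1, 3, -3, -3, 1, -3, 3], [0, 2, 0, -4, -4, 0, -2, 4, 8, 4, 2, -2, -4, 4, -6, 0, 2, -2, -2, -4, -6, 2, -6, -2], [1, 1, 1, 1, -1, -3, 1, 3, 1, -3, 5, -3, 1, -1, 3, 3, 3, 1, -1, 1, 1, 1, 5, -1], [2, 2, 0, -4, 0, 0, 4, 0, -2, 0, -2, -2, 2, 2, -2, 0, -2, -4, 0, 0, 0, -6, -2, -2], [-1, -5, -1, -3, -1, 1, -3, -1, -1, 1, -1, 1, -3, -3, 1, -1, -1, -1, -3, 1, -1, 1, 3, 1], [5, 1, -7, 7, 5, -1, 1, 3, 3, 1, 1, 1, 1, 3, 5, 1, -1, -1, 1, 3, 3, 3, 3, 3], [0, 6, 2, 0, 0, 0, 0, 2, -2, 2, -2, 2, 4, 0, 0, 0, 2, -2, 2, 0, 2, 0, 0, -2]],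
  [[0, 0, -2, 0, -2, 0, 0, 0, 0, -2, -2, 0, -2, 0, 0, 0, -2, 0, -2, 0, 0, 0, 0, -2], [-2, 0, 0, 0, -2, -2, 0, 0, 0, 0, 0, 0, 0, 0, 0, 0, 0, -2, 0, -2, 0, -2, -2, -2], [-1, 1, -1, -1, -1, -1, -1, 1, -1, 3, 1, 1, 1, -1, 1, -1, 1, -1, 1, -1, -1, -1, -1, -1], [0, 0, 0, 0, 2, 0, 0, 0, 0, 2, 0, 0, 2, 2, 2, 0, 0, 0, 0, 0, 0, 2, 2, 2], [0, 0, -2, 0, 0, 0, 0, -2, -2, 0, -2, 0, -2, 0, 0, 0, 0, 2, -2, 0, 0, 0, 2, 0], [-1, 1, 1, 1, -1, -3, -1, 1, -1, 1, 1, -1, 1, -1, 1, -1, 1, -1, -1, -1, 1, -1, -1, 1], [1, -1, -1, -1, -1, -1, -1, -1, 1, -1, -1, -1, -3, 1, 1, 1, -1, 1, -1, 1, 1, 1, 1, 1], [-1, -1, -1, -1, -1, -1, 1, -1, -1, 1, 1, 1, 1, 1, 1, 1, 1, -1, 1, -1, -1, -1, -3, 1], [1, 1, 1, -1, -1, -1, 1, -1, -1, -1, 1, -1, -1, -1,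 -1, -1, 1, 1, 1, 3, -1, -1, -1, -1], [0, 0, 0, 0, -2, 0, 0, 2, 0, 0, 0, -2, 0, 0, 2, 0, 0, -2, 2, 0, 0, 2, -2, 0], [0, -2, 2, 0, -2, 0, 0, -2, 0, -2, 0, -2, 0, 0, -2, 0, 0, 0, 0, 0, 0, 0, 0, 2], [-1, 1, 1, 1, -1, 3, 1, -1, -3, 1, 1, 1, -1, -3, -1, -1, 1, 1, -1, 1, -1, -1, -1, -1], [0, 2, -2, 0, -2, 2, -4, 0, -2, 0, 2, 2, 0, -4, -2, -2, 2, 2, 2, 2, -2, 0, -2, -2], [1, 1, 1, 3, -3, -1, -1, 5, 1, -1, 3, -1, 1, -1, 1, -1, -1, -3, -1, 3, 3, 1, 1, 1], [1, -1, 3, 3, -1, -3, 1, 1, 1, -1, -1, -3, -1, 1, -1, -1, 1, -1, -3, 1, 5, -1, 1, 3], [0, 2, 0, -2, 2, -2, 2, -2, 0, -2, -2, 2, -2, 2, 0, 2, 2, 0, 0, 0, 2, 0, -2, -2], [-1, 5, -3, 1, 1, 1, -3, 3, 1, 1, 1, 3, 1, -1, 1, 1, 1, -1, -3, -1, -1, -1, 1, -3], [1, -1, 1, 1, -1, 3,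 1, -3, 1, 1, 1, 3, -3, 1, 1, 1, 3, 3, -1, -3, 1, 1, -3, 3], [4, -4, 2, 4, 2, 8, 2, 0, 2, -6, -2, -4, -2, -2, -6, 0, -4, 0, 2, -4, 6, 0, -2, -4], [2, 4, -4, 0, 2, -2, 0, 4, 0, -2, 2, 4, 2, 0, -4, 2, 0, 0, 0, 4, 0, 2, 0, 0], [-2, 2, 0, 0, 0, -2, 2, 0, -6, 0, -4, -4, 0, 2, 0, -2, 2, 0, 0, -2, 4, -2, -2, -2], [0, -2, 2, 0, -2, -2, -4, -2, 2, 0, 0, -2, 0, -4, -2, -2, 0, 0, 0, 4, -2, -2, 2, 0], [5, 3, -1, -3, 7, 1, -3, -1, -1, 3, 3, 1, -1, 1, 5, 3, 3, -1, 3, 3, 1, 7, 3, 3], [-1, 1, -3, 1, -1, 3, 1, 3, -5, 3, 1, -1, 3, 1, 1, -1, -1, 1, 1, -3, -1, 1, -1, 1]],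
  [[0, 0, 0, -2, 0, -2, 0, 0, 0, 0, -2, -2, 0, -2, 0, 0, 0, -2, 0, -2, 0, 0, 0, -2], [0, 0, -2, 0, -2, 0, -2, -2, -2, 0, 0, 0, -2, -2, 0, 0, 0, 0, 0, 0, 0, 0, 0, -2], [0, 2, -2, 0, -2, 0, 0, 0, -2, 0, 2, 0, 0, 0, 0, 0, 0, 2, 0, 2, 0, 0, 0, -2], [2, 0, 0, 0, 0, 2, 2, 2, 0, 0, 0, 0, 0, 2, 0, 0, 2, 2, 0, 0, 0, 0, 0, 2], [-1, -1, -1, -1, 1, -1, 1, 3, 1, 1, -1, -1, 1, -1, -1, -1, 1, -1, -1, -1, 1, 1, -1, -1], [-1, 1, -3, 1, -1, 1, -1, -1, -1, 1, 1, -1, -1, -1, -1, 1, 1, 1, 1, 1, -1, -1, -1, 1], [0, 0, 0, 0, 0, 0, 0, 2, 2, 2, -2, -2, 0, 0, 2, 0, 0, -2, 0, -2, 0, 0, 0, 0], [1, 1, -1, 1, -1, 1, -1, -1, -1, 1, 1, 1, -1, -1, 1, 1, 1, 1, -3, 1, 1, 1, 1, -1], [-3, 1, 1, 1, 1, -1, -1, -1, 1, 1, -1, 1, 1, -1, 1, -1, -1, 1, -1,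 1, -1, -1, -1, -1], [2, 2, 0, 0, -2, 0, 0, -2, 0, 2, 0, 0, 0, 0, 0, 0, 0, 0, 0, 0, -2, -2, 2, 0], [0, -2, 0, 2, 2, 0, -2, -2, 2, 2, 0, 0, 0, 0, 0, 0, 0, 0, 0, -2, 0, 0, 0, 0], [-3, 1, -1, -1, 1, -1, -1, -1, 1, -1, 1, 1, 3, -1, -3, -1, -1, 1, -1, 1, 1, 1, 1, -1], [-2, 4, 2, 0, 0, -2, -2, 0, 0, 0, 4, 0, 4, 0, -2, 0, -2, 0, 0, 2, 0, 0, -2, -4], [0, 4, 0, 0, 0, 0, 0, -4, 0, 0, 0, -4, 0, 0, 0, 0, 0, 0, 4, 0, -4, 0, 0, 4], [-2, -2, -2, 2, 2, 2, 0, -2, 2, 2, -2, -2, -2, -2, 0, 0, 2, -2, 4, 0, -2, 0, 0, 4], [-2, -2, 2, -2, -2, 0, -2, 2, 0, 0, -2, 2, -2, -2, 2, 0, 2, -2, -2, 2, 0, 0, 0, 0], [0, 4, 0, -4, -2, -2, 0, 2, -2, -4, 2, -2, -2, 0, -2, 0, 0, 0, 2, 2, 2, 0, -2, 0], [-1, -1, 1, -1, -1, 3, -1, 1, 3, 3, 1, 1, 1, -1,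 -1, 3, -1, -1, -1, 1, 5, 3, 3, 1], [2, -8, 4, -2, 4, 0, 0, -4, 2, -2, 0, 2, 0, -2, -4, 0, -8, -8, 2, -2, -4, 0, 4, 0], [0, 4, 4, -2, 2, -4, 0, 0, -2, -2, 0, 0, 0, 2, 2, 2, 2, -2, 0, 4, -2, 2, -4, 2], [-1, -3, -3, -1, 1, 1, -1, 1, -3, 3, -1, 1, -1, -5, -3, -3, 3, -1, -1, 3, -3, -3, 1, -1], [-3, 1, -1, 5, 1, -1, -1, -1, 3, -1, 1, -1, 1, 1, 1, -1, -1, 1, 3, -3, -1, -1, -3, -3], [1, 3, 3, -3, -3, 3, 3, 7, 5, 1, 3, 1, 1, 7, 3, -1, 1, 1, -3, 3, -3, -1, -1, 5], [4, 2, -2, -2, 2, 0, 2, 0, -4, 2, 2, 0, 2, 0, -4, 0, 0, 2, -2, 2, 0, 0, 2, 0]],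
  [[0, 0, 0, 0, -2, 0, 0, -2, 0, 0, 0, 0, 0, -2, -2, -2, -2, 0, -2, 0, 0, 0, 0, -2], [-1, -1, -1, -1, -1, -1, -1, 1, -1, 1, -1, 1, 1, 1, -1, -1, -1, 1, 1, -1, -1, -1, -1, -3], [0, 0, 0, -2, 0, 0, -2, 2, 0, 0, 0, 0, 0, 2, 0, 0, 0, 0, 2, 2, -2, 0, 0, -2], [-1, 1, 1, -1, 1, 1, -1, 1, 1, 1, 1, -1, 1, 1, 1, 1, 1, -1, -1, 1, 1, -1, 1, 3], [-1, 1, -1, -1, -1, 1, 1, -1, 1, -1, 1, 1, -1, -1, -1, 1, -1, -1, -3, 1, 1, 1, 1, -1], [0, 0, -2, -2, 0, -2, 0, 2, 0, 0, 0, 0, 2, 2, 0, 0, 0, 2, 0, 0, -2, 0, 0, 0], [0, 0, 0, 0, -2, 0, 0, -2, 0, 0, 2, 0, 2, -2, 0, 0, 0, 0, -2, 0, 2, 2, 0, 0], [-1, -1, -1, -1, 1, 1, -1, 1, -1, 1, 1, 1, 1, 1, -1, 1, -1, 1, 3, 1, 1, -1, -1, -1], [0, 0, 0, 0, 2, -2, 2, -2, 0, -2, 0, 0, 0, 0, 0, 0, 0, 0,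 2, 0, 0, 2, 0, -2], [2, 0, 0, 0, 0, -2, -2, 0, 0, 2, 0, -2, 2, 0, 0, 0, -2, 0, 2, 0, 0, 0, 0, 0], [0, 0, -2, 2, 0, 0, 2, -2, 0, 0, 0, 0, 2, 0, 0, 2, 0, 0, 0, -2, 0, 0, -2, 0], [2, 0, 0, 0, 2, 0, 2, 0, 0, -2, -2, 2, -2, 0, 0, 2, -2, 0, 0, 2, -2, 0, 0, -2], [4, 0, 0, 0, 2, 0, 0, 0, 2, -2, 2, 0, -4, 0, 0, 0, 0, 0, 2, 2, -4, 2, -2, -4], [4, 0, 0, 0, 0, -4, 0, 0, 0, 0, 0, 0, 4, 0, 0, -4, 0, 0, 0, 0, -4, 0, 0, 4], [1, 1, -3, 1, -1, -3, 3, 1, -1, -1, -1, 1, 5, 1, -1, -1, 1, 1, -3, -3, 1, 1, 1, 3], [-2, 0, 0, 0, 0, -2, 0, 0, 0, 0, 0, 2, -2, 0, 0, -2, 0, 2, 0, 0, 6, 0, 0, -2], [1, -1, 1, -3, -1, 1, -1, 3, 3, 1, -1, 1, -3, -1, 1, -5, 1, 1, -1, 3, -3, -1, 1, -1], [4, 0, 0, 0, 0, 4, 0, 0, 0, 0, 0, 4, 0, 0, 0, 4, 0, 4, 0, 0,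 4, 0, 0, 0], [6, -2, 0, 6, -4, -2, 2, -2, -4, 0, -6, -2, -6, -4, -4, 2, 0, -2, -2, -8, 2, -2, -2, 2], [0, 0, 0, 0, 2, 0, 0, 0, 2, -2, 2, 0, -4, 0, 0, -8, 0, 0, 2, 2, 0, 2, -2, 4], [-1, 3, -3, -3, -1, -5, 3, 3, -1, 1, -1, -1, -1, 3, -3, 1, -3, -1, -1, -1, 3, -1, 1, -3], [-1, -1, -1, 3, 1, -1, 1, -1, 1, -3, 1, -1, 3, -1, 1, 1, 3, -1, -1, -1, -5, 3, -1, -3], [2, -2, 2, -2, 2, -2, -4, 0, 4, 0, 4, -2, -2, 0, 6, 2, 4, -2, 0, 6, 6, 2, 2, 6], [2, 2, 0, -4, 0, 2, 0, 2, 0, 2, 0, -2, -2, 2, -2, 2, -4, -2, 2, 2, -2, -2, 0, 2]],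
  [[0, -2, -2, 0, -2, 0, 0, -2, 0, -2, 0, -2, 0, 0, -2, 0, 0, 0, 0, 0, 0, 0, 0, -2], [-1, 1, -1, 1, 1, 1, -1, -1, -1, 1, 1, -1, -1, -1, -1, -1, -1, -1, -1, -1, -1, -1, 1, -3], [0, 2, 0, 2, 0, 0, -2, 0, 0, 2, 0, 0, 0, 0, 2, 0, 0, 0, 0, 0, -2, -2, 0, -2], [1, 1, -1, 1, 1, -1, 1, 1, 1, 1, -1, 1, 1, 1, 1, 1, -1, -1, 1, 1, -1, 1, -1, 3], [1, -3, -1, -1, -1, -1, -1, -1, -1, -1, -1, -1, -1, 1, -1, 1, -1, 1, 1, 1, -1, -1, -1, 1], [-2, 0, 0, 2, 2, 0, -2, 0, 0, 2, 2, 0, 0, 0, 0, 0, 0, 0, -2, 0, -2, 0, 0, 0], [1, -3, -1, 1, -1, -1, 1, -1, -1, -1, 1, -1, -1, -1, -1, 1, 1, -1, 1, 1, 1, 1, -1, 1], [1, 1, 1, 1, 1, 1, 1, -1, -1, 3, 1, -1, -1, 1, 1, -1, -1, -1, 1, -1, -1, -1, 1, -1], [0, -2, 2, -2, 0, 0, 0, 0, 0, 0, 2, 2, 0, 0,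 0, 0, 2, 0, 0, 0, 0, -2, 0, -2], [-1, 1, -1, 1, -1, 1, 1, 1, 1, 1, 3, -1, 1, -1, 1, -1, 1, -1, 1, -1, -1, 1, -1, -1], [0, -2, 0, -2, 2, 0, 0, 0, -2, 0, 2, 0, 0, 0, 0, -2, 0, 0, 0, 0, 2, 2, 0, 0], [0, 0, 2, -2, 0, 2, -2, 0, 0, 0, 0, 0, 0, 2, 0, 0, 0, 4, 0, 0, 0, -2, -2, -2], [1, -1, 3, -1, -3, 1, -5, 1, 1, 1, -1, -1, 1, 1, 3, -1, 3, 1, -1, -1, 1, -3, -1, -3], [-2, 0, 0, 4, 0, 2, 0, 2, 2, -2, 4, 0, 4, 0, 0, 0, 2, 0, -4, 2, 0, 2, 0, 0], [-3, -3, -1, 1, 3, 1, 1, 1, -1, -1, 3, 1, -1, -1, -3, -1, 1, 1, -3, 3, -1, 3, 1, 3], [1, -1, -1, -1, -1, 1, 3, -1, -1, 1, -1, 1, -3, -1, -3, 1, 1, -1, -1, -3, -1, -3, 1, 1], [0, 2, 0, 4, -2, 2, -4, -2, 2, -2, -4, 0, 2, 0, 0, 2, 0, 0, -2, -2, -2, -2, 0, 0], [2, 2, 2, 0, 0, 2, 0, -2,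 -2, 2, 0, -2, -4, 2, -2, -2, 2, 2, 2, 0, 2, 0, -2, 4], [-8, 2, 0, -8, -4, 2, 4, 2, -2, -6, -2, -4, -2, -2, -2, -4, 0, 2, -2, 0, 6, 4, 0, 0], [2, -2, 2, 2, -2, 0, 2, 0, 4, -2, -2, 0, 4, 0, 2, 0, 2, 0, -4, -2, 0, -4, 4, 2], [-4, -2, -4, -4, 0, 2, 0, 0, 0, 2, 2, 0, -4, 0, 0, 0, -2, 0, -2, 0, -6, -2, 0, 0], [0, -4, 2, 0, 2, -2, -4, 2, -2, 0, 0, 2, 2, -2, 0, 0, 2, 0, 0, 2, 2, 2, 0, -4], [2, 0, 2, 4, -4, -2, 4, 4, 0, 2, -2, 4, 2, 0, 4, 4, 2, -2, 2, -2, 0, -2, -6, 8], [-1, 3, -1, -1, -1, 1, -1, -1, 3, 1, 1, -3, 1, 3, 5, -1, -3, 1, 1, 1, -3, -1, -1, 1]]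
]

/-- tables of the elements -/
def threeC2 : List (List ℕ) := [
  [11598073, 7938048, 324049, 8883317, 5822713, 13000430, 2961979, 8906659, 2560722, 800873, 11048131, 8783052, 12441353, 15138902, 8095497, 9590004, 6824027, 8013551, 6777445, 7181009, 5501697, 6898984, 12657812, 1636500],
  [2689350, 3035137, 14167054, 12468333, 1610791, 14927977, 15650280, 14276361, 8536045, 3046843, 3755409, 13750296, 11161148, 8895393, 14762212, 14488441, 2522073, 8195577, 14454915, 13778415, 4205665, 4197559, 9328648, 12980910],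
  [1457513, 15813070, 14159128, 7295882, 5386947, 8659268, 7613507, 1152870, 5060016, 15358891, 15577845, 8821961, 8178659, 11684794, 16340131, 6664483, 8769979, 1734028, 8942674, 13423414, 14711757, 7806104, 14208070, 15239693],
  [1457022, 8791700, 9741550, 645137, 915078, 10471336, 3964095, 16373723, 16039946, 16603623, 1886468, 529035, 16538330, 7418094, 10187534, 355402, 8669222, 5746270, 524574, 11674444, 8873505, 10955438, 9289689, 9867953],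
  [13619651, 15370334, 2672978, 12107445, 1549509, 2622440, 280055, 15953627, 7272375, 5588032, 4100429, 1073158, 412373, 14906441, 5772367, 1778761, 8990371, 11682049, 2378188, 2756977, 6011074, 3824781, 2913218, 940452],
  [1667016, 65, 8557765, 7291079, 3619123, 4015485, 4053830, 4272481, 2108238, 5674594, 16168177, 14449, 1581077, 6390629, 12694661, 3093835, 9472838, 16273443, 6057678, 5551460, 3408190, 10451239, 9760286, 5474362],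
  [10335849, 3240011, 11859387, 5705659, 16408697, 2372416, 13314128, 13741795, 11232396, 15747762, 4289491, 20601, 15226612, 14398487, 1704593, 2311190, 11197219, 8345859, 11213797, 7860916, 16666437, 4625541, 8392187, 14194306],
  [7769840, 15565002, 6453833, 9695116, 9405306, 9196227, 12419063, 16719718, 3309629, 14967756, 8499709, 11791314, 926900, 14893263, 10454604, 6017476, 5387485, 10109227, 14964583, 3821867, 14271990, 2349934, 11989832, 6930674],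
  [8379508, 1646689, 12642028, 5653540, 2186057, 16207113, 7737874, 11993958, 9160919, 806545, 15620761, 16023912, 1336735, 1315638, 12373090, 10199579, 3325616, 11251679, 10833639, 5995583, 5591766, 10353871, 5832554, 14944452],
  [10495923, 3916721, 9304677, 1864137, 9393846, 13319169, 11129084, 7963568, 11336082, 8549672, 15800232, 11007445, 3240137, 7663616, 7622786, 4957782, 15824025, 2918114, 14428607, 1238564, 9485518, 8194158, 12708252, 2354401],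
  [6426922, 12401332, 7045531, 15781675, 5707062, 14709072, 6429042, 2007695, 5567983, 12716924, 5943699, 15479623, 4664941, 11878400, 6913774, 15060984, 12540902, 8802304, 6604349, 12418669, 15488030, 4632302, 7827397, 13957872],
  [14154393, 3968043, 3392659, 15829008, 5611525, 11246829, 11708622, 1587365, 1161212, 8693706, 16337532, 7635162, 11487103, 14698332, 12574308, 11443199, 1869690, 13093097, 14372608, 3353827, 584729, 16243913, 592917, 16393125]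
]

/-- images of the basis -/
def threeW3 : List (List (List ℤ)) := [
  [[-1, -1, -1, -1, -1, -1, -1, -1, -1, -1, -1, -1, -1, -1, 3, -1, -1, -1, -1, -1, -1, -1, -1, -1], [-1, 1, 1, 1, 1, -1, 1, -1, -1, -1, -1, -1, -1, -1, -1, 1, -1, -1, 1, -1, -1, -1, -1, -3], [0, 0, 2, 0, 0, 0, 0, 0, 0, 0, -2, 2, 0, 0, -2, 2, 0, -2, 2, 0, 0, 0, 0, -2], [0, 0, 2, 0, 0, 0, 0, 0, 2, 0, 0, 0, 2, 0, 0, 0, 2, 0, 0, 2, 0, 2, 2, 2], [-1, -1, -1, -1, -1, -1, -1, -1, 1, 1, -1, 1, -1, -1, 1, -1, 1, -1, -3, -1, -1, 1, -1, 1], [-2, 2, 2, 0, 0, 0, 0, -2, 0, 0, 0, 0, 0, 0, -2, 2, 0, 0, 2, 0, 0, 0, -2, 0], [-2, 0, -2, 0, 0, 0, -2, 0, 0, -2, 0, 0, 0, -2, 2, 0, 0, 0, -2, 0, 0, 0, 0, 2], [1, 1, 1, 1, 3, -1, 1, 1, -1, -1, -1, 1, 1, -1, -1, 1, 1, -1,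 1, -1, -1, 1, -1, -1], [1, -1, -1, 1, -1, 1, -1, 1, -1, -1, 1, 1, -1, 1, -1, 1, 1, 1, -1, -1, 1, -1, -3, -1], [0, 0, 2, 0, 0, 2, 0, 0, -2, -2, 0, 0, 2, -2, 0, 0, 0, 0, 2, 0, 0, -2, 0, 0], [-1, 1, -3, 1, 1, 1, 1, -1, -1, -1, 1, -1, 1, 1, -1, -1, 1, 1, -1, -1, -1, -1, -1, 1], [2, -2, 0, -2, 0, 0, 0, 0, 0, 2, 0, 2, -2, 2, -2, 0, 0, 0, 0, -2, -2, -2, -2, 0], [2, -2, -2, -2, -2, 0, 0, 0, 0, 0, -2, 6, 0, 2, -2, 0, -2, 0, 2, -2, 2, -2, -2, -2], [0, 2, 2, 0, -2, 2, -2, -4, -2, -2, 2, 0, 0, 2, 2, 2, -2, 2, 4, 2, 0, -2, 0, 2], [-2, 4, 0, 2, 0, 2, -2, -4, 0, 0, 2, -4, -2, 0, 0, 0, 0, 2, 0, 0, 0, 0, -2, 4], [2, 0, 0, 2, 0, -4, 0, 2, 0, 0, 0, -2, -2, -4, 0, 0, 0, 0, -2, 0, 2, 0, -2, 0], [0, -2, 2, -2, -2, -4, 0, -2, 2, 2, 0,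 2, -2, 0, 2, 2, -2, -2, 4, 0, 2, 0, 2, -2], [1, -1, -1, -1, 7, -1, 1, 1, 1, 1, -1, 1, -1, -1, -1, -1, -1, -1, -1, -1, 1, -1, -1, 5], [1, 3, -3, -3, 1, 3, 1, 1, -5, 3, 3, -5, -3, 1, 1, -11, -5, 3, -3, -1, 1, -5, 3, -1], [4, 0, 0, 2, -4, -4, -2, 0, -2, 2, 0, 2, 2, 2, 4, 2, -2, 2, 2, 0, 4, 2, 0, 0], [0, 4, 4, 0, -2, 0, 0, -2, 0, 2, -2, -2, -2, -4, -2, -2, 4, 0, -2, -2, 0, -2, -4, -2], [-3, -1, -5, 1, -3, 3, -1, -1, 1, -3, 1, 1, -1, 3, -3, 1, -1, 1, 1, -1, -1, 1, -1, -1], [2, -2, 2, 0, -2, -2, -4, 4, 2, 0, 4, 6, 4, -4, -2, 0, 2, 0, 0, 6, 4, 2, 4, 6], [1, 1, 5, -3, 1, 1, 1, -1, -1, 3, -3, 3, 3, 1, 1, -1, 3, -1, 1, -1, -1, -1, 1, -1]],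
  [[0, -2, -2, 0, -2, -2, 0, 0, 0, 0, 0, 0, -2, 0, 0, 0, 0, 0, 0, 0, -2, -2, 0, -2], [-1, 1, -1, -1, -1, -1, -1, 1, 1, 1, 1, -1, 1, -1, -1, -1, -1, -1, -1, -1, -1, 1, -1, -3], [-1, -1, 1, -1, 1, 1, -1, 1, 1, 1, 1, -1, 3, -1, -1, -1, -1, -1, -1, -1, 1, -1, -1, -1], [1, 1, 1, 1, 1, 1, 1, -1, 1, 1, -1, 1, 1, 1, 1, 1, -1, -1, -1, -1, 1, -1, 1, 3], [2, -2, 0, 0, -2, 0, 0, 0, -2, 0, 0, 0, -2, 2, 0, 0, 0, 0, 0, -2, 0, -2, 0, 0], [1, 1, -1, -1, -1, 1, -1, 1, 1, 1, 1, 1, 3, -1, -1, 1, -1, 1, -1, -1, 1, 1, -1, -1], [2, 0, 0, 2, -2, 0, 0, 0, 0, 0, 0, 0, -2, 0, 2, 0, 0, 2, 0, 0, -2, -2, 0, 0], [-2, 2, 0, 0, 0, 0, 0, 2, 0, 2, 0, -2, 2, 0, 0, -2, 0, 0, 0, -2, 0, 0, 0, 0], [-1, -1, 1, -1, -1, 1, -1, 1, -1, -1, -1, -1, -1, -1,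 -1, -1, -1, 3, 1, 1, 1, 1, 1, -1], [-2, 2, 0, 0, -2, 0, 0, 0, 2, 0, 0, 0, 2, -2, 0, 0, 0, 0, 0, 2, 0, -2, 0, 0], [0, 2, 0, 0, -2, 0, 0, 0, 0, 0, -2, 0, -2, 0, 0, 0, 2, 2, 0, 0, 0, 2, -2, 0], [0, -2, 0, -2, 0, 0, -2, 0, -2, 0, 0, -2, 0, 0, -4, 0, 2, 0, 2, 0, 2, 0, 0, 0], [-1, -5, 1, -3, 1, 1, -1, 1, -3, -1, -1, -3, 3, -1, -1, -1, 1, 1, 1, 3, 1, -1, -3, -1], [-1, -1, -1, 1, -1, -1, -1, -1, 3, 1, 1, 3, 3, -3, -1, 5, -1, 3, 1, 3, -1, 1, -1, 1], [3, 3, -1, 1, -3, -1, -1, 1, 1, -1, 1, 5, -1, -1, -1, 3, -1, 3, 1, -1, -1, 3, -1, 1], [1, 1, -1, -1, -1, -1, -1, 1, -1, -1, 1, -1, -1, 1, 3, -3, -3, -1, 3, -1, -1, 1, 3, -1], [1, -5, -1, -3, 3, -1, -1, -1, -1, 3, 3, 1, 3, -1, 1, 1, -1, -3, -1, 1, -1, -1, 1, -1], [4, 2, 0, 2,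 0, 0, 0, 4, -2, 2, 0, -2, 0, 0, 0, -2, 4, -2, 4, 0, 0, 0, 0, 2], [-3, 3, -3, 3, -1, -3, -1, -1, -3, -9, -1, 3, -5, 1, -1, 3, 7, -5, 3, 5, -3, 3, -1, -3], [-3, -5, -1, -1, 3, -1, 1, -1, -1, 1, 1, 3, 3, 3, 3, -1, -3, 3, 3, 3, -1, 1, 1, 1], [0, 2, 0, -4, -6, 0, -2, 2, 0, -4, 0, 2, 2, 2, -2, 0, -2, -2, 0, -4, 0, 0, 2, -2], [1, -1, 1, -1, 1, 1, -1, -1, -1, -1, -1, -1, -3, -3, -1, 1, -1, 5, -3, 1, 1, 1, -5, -1], [2, 0, 4, 4, 2, 4, -2, -4, -2, 0, 0, 0, 4, 0, 8, 0, -2, 0, 2, 2, 4, -4, 4, 6], [-3, -1, 1, -1, -1, 1, 1, 1, 1, 1, -1, 1, 5, 3, -3, 1, 3, -3, -1, -1, 1, -3, 1, 1]],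
  [[-2, 0, -2, 0, 0, -2, 0, -2, 0, -2, 0, 0, -2, 0, 0, 0, 0, 0, 0, 0, 0, 0, -2, -2], [1, -1, -1, -1, -1, 1, -1, -1, -1, -1, -1, 1, 1, -1, -1, 1, -1, 1, -1, -1, 1, -1, -1, -3], [0, 0, 0, 0, 0, 2, -2, 0, 0, 2, -2, 0, 2, -2, 0, 0, 0, 0, 0, 0, 2, 0, 0, -2], [1, 1, 1, -1, 1, 1, -1, 1, 1, 1, 1, 1, -1, -1, -1, -1, 1, -1, 1, 1, 1, 1, 1, 3], [-2, 2, 0, 0, 0, -2, 0, -2, 0, 0, 0, 0, -2, 0, 0, 0, 0, -2, -2, 0, 0, 2, 0, 0], [2, 0, 0, -2, 0, 0, 0, 0, 0, 0, -2, 0, 2, -2, 0, 2, 0, 0, 0, -2, 2, 0, 0, 0], [-1, 1, -1, 1, -1, -1, 1, -1, 1, -1, 1, 1, -3, -1, 1, 1, -1, -1, 1, -1, -1, 1, -1, 1], [1, -1, 1, -1, -1, 3, -1, -1, -1, 1, 1, 1, 1, -1, 1, 1, -1, 1, -1, 1, 1, 1, -1, -1], [-1, -1, 1, 1, -1, -1, 1, 1, -1, -1, -1, -1, 1, -1, 3, 1,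 -1, -1, -1, 1, -1, -1, 1, -1], [0, -2, 0, 0, 0, 0, 0, 2, 0, 0, 0, 0, 0, -2, 0, 0, -2, 2, 2, 0, 2, 0, -2, 0], [1, -1, 1, -1, -1, -1, 3, 1, 1, -1, 1, 1, -1, 1, 1, 1, -1, 1, -1, -1, -1, 1, 1, -1], [-1, -1, 1, 1, -1, -1, 1, -1, -1, 1, -3, -3, 1, 1, 1, -1, 1, 1, -3, 1, 1, 1, 1, -1], [-1, 1, 1, 3, -1, -1, 1, 1, -1, 3, -3, -3, 3, 1, 3, -1, 1, -1, 1, 1, 1, 1, -1, -5], [2, -2, -4, 0, 2, -2, 2, 2, 0, -2, -2, 0, 2, -2, 2, 0, 2, 2, 4, -2, 2, 0, 0, 2], [2, -2, -2, -2, 0, -4, 2, 0, 0, -2, 0, 2, 0, 0, 0, 4, 0, 0, 0, -4, 0, 0, 2, 4], [-1, 1, 1, 1, -3, -1, -1, -3, -3, -1, 3, 1, 1, -1, -1, 1, -1, -1, -1, 1, -1, -3, -1, 1], [-1, 3, -3, 1, 1, 1, -1, -1, -1, 1, -3, -1, 3, -1, -3, -1, 5, -1, 1, 1, 1, -1, -3, -1], [1, -1, 3, 3, -3, 1,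 1, -3, 1, 3, 1, 1, -1, 3, 1, 1, 1, 1, -3, -1, 1, 1, -3, 3], [0, -4, -4, 0, 0, -6, 2, 2, 0, 0, 4, -4, -2, 10, -2, -4, -4, 4, -2, -4, -4, -4, -2, 0], [-2, 2, -2, 2, 2, 0, 0, 0, -2, -2, 4, -2, 6, 0, 2, 0, 4, -2, 4, 2, 0, 0, 0, 0], [0, 0, 0, -4, -2, -6, -4, 0, -2, 0, 0, 0, 2, -2, -2, 2, -4, 0, -4, 0, 2, 0, 0, 0], [0, 0, 0, 0, 0, 0, 4, 2, 0, 0, -4, 0, -2, 0, 2, 2, 0, -2, 2, -2, -2, 0, 4, -4], [0, 4, 2, 4, 0, 2, 2, 2, 0, 6, 4, -2, 0, -6, 0, -4, 0, -4, 4, 2, 0, 0, 0, 8], [0, 0, 0, -2, 2, 0, -4, 2, 2, 2, 0, -2, 2, 0, 0, -2, 0, 2, -2, 2, 4, 4, -2, 0]],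
  [[-1, -1, -1, -1, -1, -1, -1, -1, -1, -1, -1, -1, -1, -1, 3, -1, -1, -1, -1, -1, -1, -1, -1, -1], [-1, -1, 1, -1, -1, 1, -1, 1, 1, -1, -1, 1, -1, -1, -1, -1, -1, 1, -1, -1, -1, 1, -1, -3], [-1, 1, 1, -1, 1, -1, 1, 1, 1, -1, -1, 1, -1, 1, -3, -1, -1, 1, -1, 1, -1, 1, -1, -1], [0, 0, 0, 2, 2, 0, 2, 0, 0, 2, 0, 2, 0, 2, 0, 0, 2, 0, 0, 0, 0, 0, 0, 2], [1, -1, -1, 1, -1, -1, -1, -1, -1, -1, -1, -1, -1, 1, 1, -1, 1, -1, -1, 1, -1, -3, -1, 1], [1, 1, 1, 1, 1, 1, -1, 1, 1, -1, -1, 3, -1, -1, -1, -1, -1, 1, -1, 1, 1, 1, -1, -1], [1, -1, -1, 1, -1, 1, 1, -1, -1, 1, -1, -1, -1, -1, 3, 1, -1, -1, -1, 1, -1, -1, -1, 1], [0, -2, 2, 0, 0, 0, 0, 2, 0, 0, -2, 0, 0, 0, -2, 0, 0, 2, 0, 0, -2, 2, 0, 0], [1, 1, -1, -1, 1, 1, -1, 1,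 -1, -1, -1, -3, -1, -1, -1, 1, -1, 1, 1, 1, 1, -1, 1, -1], [-2, 0, 0, 0, 2, 0, 0, 0, 0, 2, 0, 0, 0, -2, 0, 0, -2, 2, -2, 0, 0, 2, 0, 0], [2, -2, -2, 0, 0, 2, -2, 0, 0, 0, 0, 0, 2, -2, 0, 2, 0, 0, 0, 0, 0, 0, 0, 0], [-1, 1, -1, -1, -1, -1, -3, -1, -1, -3, -1, -1, 1, 1, -3, -1, -1, 1, 1, 1, 1, -1, 1, 1], [0, 2, -2, -4, 0, -4, 0, 0, 0, -2, 0, -2, 0, -2, -4, -2, -2, 0, 2, 4, 0, 0, 0, 0], [-3, 3, -1, 1, 3, 1, -1, 1, 1, -1, 1, 3, -1, -3, 3, 1, -3, -1, 1, 1, 3, 3, -1, 1], [2, 2, 0, 4, 0, 4, -4, 0, 2, 0, 0, 2, 0, -2, 4, 2, 0, 0, 0, 0, 2, 0, -2, 0], [0, 0, 2, 0, -4, 0, 0, 2, 0, 2, -2, -2, -2, 0, 2, 0, 2, 2, 0, 0, 0, -2, 2, -2], [-3, 3, 1, -1, -1, -3, 3, 1, 1, -3, 1, 3, -1, 1, 1, -5, -1, -1, 1, 1, -1, -1, 1, -1], [2, -2,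 2, 0, -4, 0, -2, -2, 2, 2, -2, 0, 2, 2, 0, 0, -2, 2, 2, 2, -2, 0, 2, 4], [-2, 0, 2, -2, -4, 0, -8, -6, 0, 4, 6, -4, 6, -4, 2, 2, 0, -6, 0, -4, 2, 0, 2, -2], [-1, 3, 1, -1, 1, -5, 3, 3, 1, -3, 1, -1, -3, -3, 3, 1, 3, -1, 3, 1, 1, 1, 3, 1], [0, 2, 2, 2, 0, 0, -6, 2, 0, 2, -2, 0, -2, -2, -2, -2, 2, 2, -4, -2, 0, -4, -2, -2], [3, 1, -5, -1, 1, 3, 1, -1, -1, -3, 1, -1, 1, -1, -1, 1, -1, -1, 1, 3, 1, 1, -3, -3], [-2, 2, 2, 4, 2, -2, 8, 0, -2, 6, 0, 0, 0, 2, 0, 2, 2, 0, 0, 8, 2, -2, 4, 4], [-2, 0, 2, 0, 4, -4, -2, 0, 0, 0, 0, 2, 0, 0, -4, -2, 0, 0, -2, -2, -2, 0, 0, 4]],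
  [[0, 0, -4, 0, 0, 0, 0, 0, 0, 0, 0, 0, 0, 0, 0, 0, 0, 0, 0, 0, 0, 0, 0, -4], [-2, -2, 0, 0, -2, 0, 0, 0, 0, 0, -2, 0, 0, 0, -2, 0, 0, 0, -2, 0, 0, -2, 0, -2], [-2, -2, 2, 0, 0, -2, 0, 0, -2, 0, -2, 0, 0, 0, 0, 0, 0, 0, 0, 0, 0, -2, 2, 0], [0, 0, 2, 2, 0, 0, 0, 2, 0, 0, 0, 0, 2, 0, 2, 0, 0, 0, 2, 0, 0, 2, 0, 2], [0, 0, -2, 0, 2, 0, 0, 0, 0, 0, 0, -2, 0, 2, 0, 0, 0, 0, 2, -2, 0, 2, 0, -2], [-1, -1, 1, 1, -1, -1, 1, -1, 1, -1, -3, -1, 1, 1, -1, -1, -1, 1, -1, 1, 1, -1, 1, 1], [1, 1, -3, 1, 1, 1, 1, 1, 1, -1, 1, -1, 1, -1, -1, -1, 1, 1, 1, -1, -1, 1, 1, -1], [-1, -3, 1, 1, -1, 1, -1, 1, -1, 1, -1, 1, -1, 1, -1, -1, 1, 1, -1, -1, -1, -1, 1, 1], [0, 2, 0, 0, 2, 0, -2, -2, 0, 0, 0, 0, -2, 0, -2, -2, 0, 0, 0, 0, 0, -2,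 0, 0], [0, -2, 0, 2, 0, 0, 2, 0, 0, 0, 0, 2, 0, -2, 0, -2, 0, 0, 0, 2, 0, -2, 0, 0], [2, 0, 0, 0, 0, 2, 0, -2, 2, 0, 0, 0, 0, 0, -2, 0, 0, 2, 0, 0, -2, 0, -2, 0], [0, 0, 0, -2, 2, -2, 0, -2, -2, 0, 0, 0, -2, 4, 0, 0, 0, 0, 0, 0, 0, -2, -2, 0], [-1, 1, 1, -3, 1, -3, 1, -5, -3, 1, 1, 1, -3, 1, 1, -1, -1, 1, 1, -1, -1, -3, 3, -1], [1, 1, -1, 1, -1, -3, 1, -1, 3, -1, 1, 1, 3, -1, 1, -1, -1, 3, -1, 5, 3, -3, 1, 1], [3, 1, -1, 1, -1, 1, 1, -1, 5, -1, -1, -3, 3, 1, -3, -1, 1, 1, -1, 3, 3, 1, -1, 1], [-1, 1, -1, 1, -1, 3, -1, 1, -1, -1, 1, 1, -1, 1, -3, -1, 1, -3, -1, -3, 3, 1, 1, -1], [-3, 1, -1, -3, -1, -3, 1, 1, -3, 1, -1, 1, 3, 1, 3, 1, -3, -1, -1, -1, 3, -1, 3, -1], [2, 0, 0, -2, 0, 4, 4, 2, -2, 0, 0, 0, -2, 4, 0,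 0, 4, 2, 0, -2, 0, 0, 0, 2], [5, -1, -3, -5, -3, 5, 3, -3, 1, -1, 7, -3, -5, -3, 1, 3, -1, -3, -3, 5, 1, 1, -7, -3], [1, 3, -1, 1, -1, -3, -3, -1, -1, 3, 3, 3, -1, -1, 1, 1, -3, 1, -1, -1, 5, 1, 5, 1], [-2, -4, 0, 4, 0, 2, 0, -4, 0, 0, -2, -4, 0, 2, -2, -2, 0, -4, 0, 0, 4, 0, -2, -2], [1, 3, 1, -3, 1, -3, -1, -3, 3, -1, -1, -1, 1, -1, -3, -1, -1, 1, 1, 1, -5, -1, 1, -1], [0, 2, 4, 2, 4, 0, 2, 4, -4, -4, 6, 2, 2, -2, 2, -4, -2, 0, 4, -2, 2, 4, 4, 6], [-1, -5, 1, 3, 1, -1, 1, -1, -3, 3, -1, -1, -1, 1, 5, 1, -1, 1, 1, 1, 1, -1, -1, 1]],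
  [[-1, -1, -1, -1, -1, -1, -1, -1, -1, -1, -1, -1, -1, 3, -1, -1, -1, -1, -1, -1, -1, -1, -1, -1], [-1, 1, 1, -1, -1, -1, -1, 1, -1, -1, -1, -1, 1, -1, -1, 1, 1, 1, -1, -1, -1, -1, -1, -3], [2, 0, 0, 0, 0, 0, 0, 0, -2, -2, 0, 0, 2, -2, 0, 2, 2, 0, 0, 0, 0, 0, 0, -2], [1, -1, -1, 1, 1, 1, -1, 1, 1, 1, 1, -1, 1, -1, 1, 1, 1, -1, 1, 1, -1, 1, 1, 3], [2, -2, 0, -2, 0, 0, 0, 0, 0, 0, 0, -2, -2, 2, 0, 0, -2, -2, 0, 0, 0, 0, 0, 0], [-1, 1, 1, -1, 1, 1, -1, 1, -1, -1, 1, -1, 1, -1, -1, 3, 1, 1, 1, 1, 1, -1, -1, -1], [-1, -1, -1, -1, 1, 1, 1, 1, -1, 1, -1, -1, -1, 3, -1, -1, -1, -1, 1, -1, -1, 1, -1, 1], [1, 1, 1, -1, -1, -1, 1, 1, -1, 1, 1, -1, 1, -1, -1, 1, 3, 1, -1, -1, -1, 1, 1, -1], [0, 0, 2, 0, 0, 2, 2, -2, 0, 0,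 0, 0, 0, 0, -2, -2, 0, 0, 0, 0, 2, 0, 0, -2], [-2, 2, -2, 0, 0, 0, 0, 0, 0, -2, 0, 0, 2, 0, -2, 0, 2, 0, 0, 0, 0, 2, 0, 0], [-2, 0, 0, -2, 0, 0, 2, 0, 2, 2, 0, 0, 0, 0, -2, 0, -2, 2, 0, 0, 0, 0, 0, 0], [3, 1, 1, -1, -1, -1, 1, -3, 1, -1, 1, 1, -1, -1, -1, 1, -1, -1, -1, -1, 3, -1, -1, -1], [2, -2, 0, 0, 0, 0, 2, -4, -2, -2, 0, 4, 0, 0, 0, 2, 0, 0, -2, 0, 4, 2, 0, -4], [-4, 2, -2, 2, 2, 2, 0, -2, 0, -2, 0, 0, 2, 2, 0, 2, 2, 2, 0, 2, 2, -2, -4, 2], [-4, 2, 2, -2, 2, 2, 0, 2, 2, 0, 2, -2, 0, 2, 0, 0, -2, 2, 2, 2, 0, -2, -4, 2], [-1, 1, 5, -1, 1, -1, -1, 1, -1, 1, -1, -1, -1, 1, 1, -3, 1, -3, -1, -1, -1, 1, 1, -1], [2, 0, 0, 2, 0, 0, -4, -2, -2, -2, -2, 2, 0, 2, 4, 4, 2, -2, 0, 0, 0, -2, 0, -2], [3, 1, 3, -3, 1, -3,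 1, 1, 1, 1, 1, 3, -3, 1, -1, 1, 1, 1, 1, -3, -1, 3, -1, 3], [-6, 4, -2, 2, -2, -8, 0, -2, 4, -2, 0, 2, -6, 0, 2, -6, -8, 4, 0, 0, 0, 2, -2, 0], [-2, -2, 2, 4, 0, 0, 2, -2, -2, 0, 0, 2, 0, 4, 4, 0, 4, -2, -2, 4, 2, -2, 2, 0], [-2, 2, 4, -4, -2, 0, -2, 0, 0, -4, 2, -6, 0, -2, 0, 0, -2, -2, 0, 2, 0, 2, 0, -2], [0, -2, -2, 0, 2, 4, 2, 0, 0, 2, 0, 2, 2, 0, -2, 0, -4, 2, 0, 0, 2, -2, -2, -4], [2, 0, -2, 4, 8, 2, 2, 0, 0, 2, 0, 0, 0, 0, 4, 0, 4, -6, 4, 0, 2, 6, 4, 4], [2, 0, -2, 0, -4, -2, 0, -2, 0, -4, 2, -2, 0, -2, 0, 4, 2, 0, 0, 2, 0, 2, 2, 2]],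
  [[1, 1, -1, 1, -1, -1, 1, -1, 1, -1, 1, -1, -1, 1, -1, -1, -1, -1, -1, -1, -1, -1, -1, -3], [0, 0, 0, -2, 0, 0, 0, 0, 0, -2, -2, 0, 0, -2, 0, -2, 0, 0, -2, 0, 0, -2, 0, -2], [1, -1, -1, -1, 1, 1, -1, -1, -1, -1, -3, -1, 1, -1, 1, 1, 1, 1, -1, 1, 1, -1, 1, -1], [1, -1, -1, -1, 1, 1, 1, -1, -1, 1, 1, 1, 1, 1, 1, 1, 1, 1, 1, 1, -1, 1, -1, 3], [1, -1, -1, 1, -1, -1, 1, -3, 1, -1, 1, 1, -1, 1, -1, 1, -1, -1, 1, -1, 1, 1, -1, -1], [1, -1, -1, -1, -1, 1, 1, 1, -1, -1, -3, 1, 1, -1, 1, -1, 1, -1, -1, -1, 1, -1, 1, 1], [2, 0, 0, 0, 0, 0, 0, 0, 2, 0, 2, 0, 0, 2, 0, 0, -2, -2, 0, -2, 0, 0, -2, 0], [0, 0, 0, -2, 2, 0, 0, 0, 2, -2, -2, 0, 2, -2, 0, 0, 0, 2, 0, 0, 0, 0, 0, 0], [-2, 0, 0, 0, 0, 0, 0, 2, 0, 0, 0, 0, 0, 0, 0,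 2, -2, 0, 0, -2, 2, 0, 2, -2], [1, 1, -1, -1, 1, 1, 1, 3, 1, 1, -1, -1, 1, -1, 1, 1, 1, -1, -1, 1, -1, -1, -1, -1], [-2, 0, 0, 0, 0, 0, 0, 2, 2, 0, 0, 2, 0, 0, 0, -2, -2, -2, 2, 0, 0, 0, 0, 0], [-2, 2, 0, 2, -2, 0, 0, -2, 0, 0, -2, 0, 0, -2, 0, 2, 0, 0, 2, 0, 2, 0, 2, -2], [-1, -1, -1, 5, -1, -1, -3, 1, -1, -1, -3, -3, 1, -1, 1, 3, -1, 1, 1, 1, 3, -1, 1, -3], [2, 2, -2, 2, 0, 2, 2, 4, -2, 2, 0, -2, 0, 0, 2, -2, 2, -2, 0, -2, 0, -4, 2, 2], [1, 1, 1, -1, -1, 1, 3, 3, -1, -1, 1, 3, -1, 1, -1, -3, 1, -5, 1, -3, 1, -1, 1, 3], [0, 0, 4, -2, 0, -2, 2, 0, 0, -2, 0, 0, -2, 0, -2, 2, -2, 2, -2, -2, 0, 0, -2, 0], [3, -1, -1, 3, -3, 1, -1, -3, -3, -1, -1, -3, -1, -1, -1, 1, 1, 3, -3, 1, -1, -3, 1, 1], [3, 3, 5, 1, -1, -1, -1,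 -1, 3, -1, -1, 3, 3, -1, -1, 1, -1, 1, 3, 1, 1, 1, -1, 1], [-3, 5, 5, 3, -3, -3, -3, 5, 1, 3, 3, 1, -7, -1, -3, -5, 5, -3, 3, 1, -3, 3, -3, -5], [0, 0, -2, 4, 2, -4, 0, 2, -2, 0, 0, -4, -2, 2, -2, 2, 0, 4, -2, -2, 0, -2, 2, 4], [-1, -1, -1, -3, -1, 1, 5, 1, -1, -3, -3, 3, -3, -1, -3, 1, 3, -1, -1, -1, 3, 1, -3, -3], [-3, -3, -1, 1, -1, 1, -3, 1, -1, -1, 1, -1, 1, 1, 3, -1, -3, -5, 1, -1, 1, -1, 3, -1], [5, -3, 1, -1, 1, 1, -1, 1, -1, 5, 1, -3, -1, 1, 3, 9, -1, 3, 3, -1, -1, 3, -3, 7], [1, 1, -5, 1, 1, 1, 1, -1, 1, 1, -3, 1, 1, -1, -1, 1, 5, 3, 1, 3, 1, 1, -1, -1]],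
  [[-1, 1, -1, -1, 1, -1, -1, -1, -1, -1, 1, 1, 1, 1, -1, 1, -1, -1, -1, -1, -1, -1, -1, -3], [0, 0, 0, 0, -2, -2, 0, 0, -2, -2, 0, -2, -2, 0, 0, 0, 0, 0, 0, -2, 0, 0, 0, -2], [0, 0, 0, 2, -2, 0, 0, -2, 0, 0, 0, -2, -2, -2, 2, 0, 0, 0, 0, -2, 0, 0, 0, 0], [1, -1, -1, 1, 1, 1, -1, 1, 1, 1, 1, -1, 1, -1, 1, 1, 1, -1, 1, 1, -1, 1, 1, 3], [0, 0, -2, 0, 2, 0, 0, 0, 2, 0, 0, 2, 0, 0, 0, 2, -2, 0, 0, 0, -2, 0, 0, -2], [2, 2, 0, 0, -2, -2, 0, 0, 0, 0, 0, -2, -2, 0, 2, 0, 0, 0, 0, 0, 0, 0, 2, 0], [-1, 1, 1, -1, 1, -1, -1, 1, 1, 1, 1, 1, 1, 1, -1, 3, -1, -1, 1, 1, -1, -1, -1, -1], [-1, -1, -1, 1, -3, -1, 1, 1, -1, -1, 1, -1, -1, -1, 1, 1, -1, 1, 1, -1, 1, 1, -1, 1], [1, -1, 1, -1, -1, -1, 1, -1, 1, 1, -1, 1, -1, 1, 1, -1,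 -1, 1, -1, 1, 1, -1, -3, -1], [-1, 1, 1, 1, -1, -3, -1, 1, -1, 1, 1, -1, 1, -1, 1, -1, 1, -1, -1, -1, 1, -1, -1, 1], [1, 1, 1, -1, -1, -1, 1, 3, -1, 1, -1, 1, 1, 1, -1, -1, -1, 1, 1, 1, -1, 1, -1, -1], [1, 1, -1, 1, -1, 1, 1, -1, 1, -1, -3, 3, -1, -1, 1, -1, -1, 1, -3, -1, 1, 1, -1, -1], [0, 2, 0, 2, -2, 2, 0, -4, 2, 2, -2, 0, 0, -2, 0, -2, -2, 4, -2, -2, 2, -2, -2, -2], [2, 4, 2, -2, -2, -2, -2, -2, -2, 2, 0, 0, 2, 2, 2, 0, 4, 0, -2, 0, 0, -2, 2, 2], [3, 3, 1, -5, 1, -3, 1, 3, -1, 1, -1, 1, -1, 3, 1, 1, 1, -1, 1, 1, -1, -1, 3, 1], [-2, -2, -2, -2, 2, -2, 2, 0, 2, -2, 0, -2, -2, 2, -2, 2, 0, 0, 0, 0, 2, 0, -2, 0], [0, 2, -2, 2, 0, 2, -2, -6, 2, -4, 0, -2, 0, 0, 0, 0, 2, 0, 0, -2, 0, -2, 2, 0], [-1, 3, -1, 1, 1,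 1, 1, 3, 1, -1, -1, 3, -1, -1, -1, 3, -1, 1, 3, -1, 5, 3, -1, 1], [-4, 0, 0, -2, 4, 0, 2, 4, -6, 2, -4, 6, 2, 2, -8, -6, 2, -2, -2, 0, 4, -2, 4, -4], [-1, -1, -1, -3, -1, 1, 1, -7, 3, 1, 3, -1, 3, 3, -1, -1, 1, 3, -1, -1, 1, -1, 1, 3], [2, -2, -4, 0, 2, -6, 4, 2, 0, 0, -2, -2, -2, 0, 2, 0, -2, -2, -2, -2, 0, -2, 2, -2], [2, 2, 4, -2, -2, 2, -2, 0, 0, 2, -2, 0, -2, 0, 0, -2, -2, 2, 0, 2, -4, -2, -2, -2], [-3, -1, -1, 3, 1, 1, -1, -1, 9, 5, 1, -1, 1, -3, -1, 3, 5, -1, 1, 5, 1, -1, -1, 7], [1, -1, -3, 5, -1, -1, 1, -1, -1, 1, 1, 1, 3, -3, 3, -1, -1, -1, -1, -3, 1, 1, 3, 1]],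
  [[-1, 1, 1, 1, 1, -1, 1, -1, -1, -1, -1, -1, -1, -1, -1, 1, -1, -1, 1, -1, -1, -1, -1, -3], [-1, -1, 1, -1, -1, 1, -1, 1, 1, -1, -1, 1, -1, -1, -1, -1, -1, 1, -1, -1, -1, 1, -1, -3], [1, -1, 1, -1, -3, -1, -1, 1, 1, 1, -1, 1, -1, -1, 1, -1, 1, 1, -1, -1, 1, 1, -1, -1], [2, 0, 0, 2, 0, 0, 0, 0, 0, 0, 0, 0, 0, 2, 2, 0, 2, 0, 0, 2, 0, 2, 0, 2], [-1, 1, -1, 1, 1, -1, 1, -3, -1, 1, -1, -1, -1, 1, -1, 1, 1, -1, 1, -1, 1, 1, -1, -1], [0, -2, 0, 0, 0, 0, 0, 2, 2, 0, 0, 0, 0, 0, 0, -2, 0, 2, 0, -2, 0, 2, -2, 0], [0, 0, 0, 0, 2, 0, 2, -2, -2, 0, 0, 0, 0, 0, 0, 2, 0, 0, 2, 0, -2, 0, -2, 0], [0, 0, 0, 0, -2, 2, -2, 0, 0, 0, 0, 2, -2, -2, 0, 0, 0, 2, 0, 0, 0, 2, 0, 0], [0, 0, -2, -2, 0, 0, -2, 0, 0, 2, 0, 0, 0, 0, 0, 0, -2,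 0, 2, -2, 0, -2, 0, 0], [1, -1, 1, 1, -1, -1, -1, 1, 1, -1, 1, 1, 1, -1, 1, 1, -1, 3, 1, 1, -1, -1, -1, -1], [0, -2, -2, 0, 2, 2, 0, 0, 0, 0, 2, 0, 0, 0, -2, 2, -2, 0, 0, 0, 0, 0, 0, 0], [-2, 0, -2, 0, -2, -2, 0, 0, 2, 2, 0, 0, -2, 0, -2, 0, 0, 0, 0, -2, 2, -2, 2, 0], [0, 0, -2, -2, -2, -2, 0, 2, 0, 4, 0, 0, 0, -4, 0, 0, 2, 0, 0, -2, 4, -4, 0, -2], [0, -2, 2, 0, 2, -2, 2, 6, 2, -2, 0, -2, 0, 0, 2, 0, -2, 2, 2, 0, 0, -2, -2, 2], [-3, -3, 1, 1, 5, 1, 1, 1, 1, -1, 1, -1, 1, 3, -1, -1, -3, 1, 1, -1, -1, 1, -3, 3], [-3, 3, 1, -1, 1, 1, -3, -1, -3, 1, -1, 1, 1, 1, -1, -1, 1, 1, 1, -1, -3, 1, 1, -1], [-1, 3, 3, -1, -1, -3, 3, 3, 1, 1, -1, -1, -1, -1, 3, -3, 3, -1, -1, -1, 1, 1, 1, -3], [-3, -1, 1, 1, 1, 1, 1, -3, 1, 3,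 1, 3, -1, -3, -3, 1, 3, 1, 1, 1, -1, 1, 3, 3], [-7, -3, 1, 1, 1, 1, 1, -3, -1, -7, 3, -3, 7, -1, -5, 1, -3, -3, -1, 3, 1, -7, 5, -1], [0, 6, 2, -2, 2, 0, -2, 4, -2, 0, 0, -4, 0, -2, 4, 0, 2, 0, 0, -2, 2, -2, 0, 2], [-5, -1, -1, 3, -1, -1, -5, -1, 1, -1, -1, 1, 3, 3, -1, -1, -1, 1, 1, -3, 1, 3, -3, -3], [3, -3, -3, -3, 1, 1, 3, 1, -1, 3, 1, -1, -1, 1, -1, -1, -3, -1, -1, -1, 1, -3, -3, -1], [3, 1, -1, -1, -1, -3, 1, -1, -5, 3, 1, -1, 3, 3, 7, 1, 7, 5, 3, 3, -1, 1, 3, 5], [0, 0, 0, 4, -4, -2, -2, 0, 4, -2, 0, 0, 0, -2, 2, 2, 2, 0, 0, 0, 4, 2, 0, 0]],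
  [[-1, -1, -1, 1, -1, -1, -1, 1, -1, 1, -1, 1, -1, -1, -1, -1, -1, -1, -1, 1, -1, 1, 1, -3], [0, 0, 0, 0, 0, -2, 0, -2, 0, -2, -2, -2, 0, 0, 0, -2, -2, 0, 0, 0, 0, 0, 0, -2], [-1, 1, 1, 1, 1, -1, 1, -3, 1, -1, 1, -1, -1, 1, -1, -1, -1, 1, 1, -1, 1, -1, -1, -1], [0, 0, 2, 0, 0, 0, 0, 0, 0, 0, 2, 2, 0, 0, 2, 2, 0, 2, 2, 0, 0, 0, 0, 2], [-1, -1, -1, 1, 1, 1, -1, 1, -1, 1, 1, 1, -1, -1, -1, 1, -1, -1, 1, -1, -3, 1, 1, -1], [0, 2, 0, 0, 2, -2, 0, -2, 0, -2, 0, 0, 2, 2, 0, 0, -2, 0, 0, 0, 0, 0, 0, 0], [-1, 1, -1, 1, -1, 1, -1, 1, -1, 3, -1, 1, 1, -1, 1, 1, -1, -1, 1, 1, -1, 1, 1, -1], [-1, 1, 1, 1, 1, -1, -1, -1, 1, -1, -1, -3, -1, -1, 1, -1, -1, 1, 1, -1, 1, 1, -1, 1], [0, 2, -2, 0, 0, 0, 0, 0, -2, 0, 0, -2, 0, 0, -2,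 0, 2, -2, 0, 0, 0, 0, -2, 0], [0, 2, 0, 2, -2, -2, 0, -2, 0, 0, 0, 0, 0, 0, 2, 0, 0, 0, -2, 0, 2, 0, 0, 0], [-1, 1, -1, -1, -1, 1, -1, 1, -1, -1, -1, -1, 3, -1, 1, -1, 1, -1, -1, -1, -1, 1, 1, 1], [-1, -1, -1, 1, 3, 1, 1, -1, -1, -1, 1, -1, -1, -1, -3, -1, 1, -1, -3, -1, -1, -1, -1, 1], [-2, 2, 0, 2, 2, 2, 0, 0, 0, 0, 2, -2, -2, 2, -4, -2, 2, -2, -2, -2, 2, -4, 0, -2], [1, 3, -1, 1, 1, -1, 1, -1, -1, -1, 1, 3, 3, 3, 1, -1, 1, 1, -3, 5, 3, 1, 1, -1], [1, 1, -3, -1, 1, -1, 1, 1, -1, -1, -1, 1, 5, 3, 3, 1, -1, -1, -1, 3, -3, 3, 1, 1], [2, -2, -2, 0, 0, -2, 0, 2, -2, 2, -2, -4, -2, 0, 0, 2, -2, 0, 2, 0, 0, 0, 0, 0], [1, -1, 1, 1, 3, -1, 3, 1, 1, -1, 1, 3, -3, 1, -3, -1, -3, 1, 1, 1, 3, -3, 1, -3], [-2, 0, 2, 2, 2, 2,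 2, 2, 2, 2, -2, -4, 0, -2, 0, 2, -2, 0, -2, 0, -2, 0, 2, 4], [5, -5, -1, -5, -3, 1, 1, 3, 3, 3, -3, -1, 1, -1, 3, -1, 5, -3, -11, -1, -3, 1, 3, -3], [3, 1, -1, 1, 1, 1, -1, 5, -1, 1, 1, 1, -3, 5, -3, -1, 1, 3, 1, 1, 5, 1, -1, -1], [2, -2, -2, 2, 2, -6, 0, -2, -2, -2, 0, -2, 0, 2, 2, 2, 0, -2, 0, -4, -4, 2, 0, -2], [-3, 3, -3, -3, -1, 3, -1, -1, -1, -1, 1, 1, 3, 1, -1, -3, 1, -3, 1, 1, -1, -3, -1, -1], [3, 3, 1, 1, 1, 3, 1, 1, -1, 7, 7, 1, -1, -1, 3, 7, -1, 3, 3, -1, 5, -3, -1, 3], [0, 0, 4, 4, 2, -2, 0, -2, 2, -2, 2, 2, -2, 0, 0, 0, 2, 2, -2, -4, 0, 2, 0, 0]],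
  [[1, 1, -1, -1, 1, -1, 1, -1, -1, 1, -1, -1, 1, -1, -1, -1, -1, 1, -1, -1, -1, -1, -1, -3], [0, -2, 0, -2, -2, 0, 0, -2, 0, 0, 0, 0, 0, -2, 0, 0, 0, -2, 0, 0, 0, -2, 0, -2], [-1, -1, -1, -1, -1, -1, -1, -1, 1, -1, -1, 1, -1, -1, -1, -1, -1, -3, 1, 1, 1, -1, 1, 1], [-1, -1, 1, 1, 1, 1, -1, 1, 1, 1, 1, -1, 1, 1, -1, -1, -1, 1, 1, 1, 1, 1, 1, 3], [0, 0, -2, 0, 2, -2, 0, 0, 0, 0, 0, -2, 0, 0, -2, 0, 0, 2, 0, -2, -2, 0, 0, 0], [-1, -1, -1, -1, -1, 1, 1, -1, 1, -1, 1, -1, 1, -1, 1, 1, -1, -3, 1, -1, 1, -1, 1, 1], [1, 1, -1, -1, 1, -1, 1, 1, 1, 1, 1, -1, 1, 1, -1, 1, -1, 3, -1, -1, 1, -1, -1, -1], [1, -3, 1, -1, -1, -1, 1, -1, 1, -1, 1, 1, -1, -1, -1, -1, 1, -1, -1, 1, 1, -1, 1, 1], [1, 1, -1, 1, -1, -1, 1, -1, 1, -1,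 -1, -1, -3, 1, 1, 1, 1, -1, -1, -1, 1, 1, -1, -1], [1, -1, -1, 1, -1, 1, 1, 1, 1, 1, -1, 1, 1, -1, 1, -1, -1, -1, -1, 1, 3, -1, 1, -1], [1, -1, -1, -1, -1, 1, 1, 1, -1, -1, 1, -1, 1, 1, 1, 1, 3, 1, -1, -1, 1, 1, -1, -1], [0, 0, -2, 2, 0, -2, 0, -2, 0, -2, -2, 2, 0, 0, 0, 0, 2, -2, 0, -2, -2, 2, 0, 0], [0, 2, -2, 0, 0, -2, 0, 0, 0, -6, -6, 2, -2, 0, 0, 0, 0, -2, 0, 0, 0, 0, 0, 0], [1, 3, -1, 1, -1, 5, 3, -1, -1, 1, -1, 1, 3, 1, 1, 1, -3, -3, 1, -1, 3, -1, -1, 1], [0, 0, -2, 0, 0, 4, 4, 0, 0, 2, 4, -2, 2, 0, 2, 4, 0, 0, 2, -2, 0, 0, -2, 0], [1, -1, 3, 1, -1, -3, 1, -1, 1, 1, 1, -1, -3, -3, 1, 1, -1, 3, 1, -1, -1, -1, -1, -1], [-2, 2, 2, -2, 2, 0, -2, -2, 0, 0, -4, 2, 0, -2, 0, -2, -4, -2, 2, -2, -2, -2, 0, 2], [0,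 0, 0, 0, 0, -2, 2, 0, 4, -2, 2, 4, 2, -2, 0, 0, 4, 4, 0, 0, -2, 0, 0, 2], [1, 3, 1, 5, -1, 3, 1, 7, -5, 1, 1, 3, 3, -1, 3, 1, 5, 1, -1, 1, -7, -1, -3, -9], [0, 4, 4, 0, 0, 0, 4, 0, -4, 0, -4, 0, -4, 0, 0, 0, -4, 0, 0, 0, 0, 0, 0, 4], [1, -5, -3, 3, -1, -1, 1, 1, 1, 1, 1, -5, -1, -5, 1, 1, -1, -3, 1, -1, -3, -1, -1, -1], [-1, 1, -3, -3, 1, 1, -1, -1, -1, -3, -1, -1, -1, 5, 1, 3, 1, -1, 1, -1, 3, 1, -1, -3], [-2, 2, 4, 6, 2, -2, -2, 6, 4, 0, 0, 2, -2, 2, -2, 0, -4, 4, 2, -2, 6, 0, 2, 6], [0, -2, -2, 2, 0, 0, 0, 2, 0, 0, -2, 0, 2, -2, -2, -4, 0, -4, -2, 2, -2, 0, 2, 4]],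
  [[-1, -1, 1, -1, 1, -1, -1, -1, -1, 1, 1, -1, 1, -1, -1, -1, 1, -1, 1, -1, -1, -1, -1, -3], [0, 0, 0, 0, 0, -2, 0, 0, 0, -2, 0, 0, 0, -2, 0, 0, -2, 0, -2, -2, 0, 0, -2, -2], [0, 0, -2, 0, -2, 0, 0, 0, 0, 0, 0, 0, 0, 0, 0, 2, -2, 2, -2, -2, 0, 0, -2, 0], [0, 0, 0, 2, 0, 2, 0, 0, 0, 0, 2, 2, 0, 2, 0, 0, 0, 2, 0, 2, 0, 0, 0, 2], [0, -2, 0, 0, 0, 0, 0, -2, -2, 2, 0, 0, 0, 0, -2, -2, 2, 0, 0, 0, -2, 0, 0, 0], [1, 1, -1, -1, 1, -1, 1, -1, 1, -1, 1, 1, -1, -1, -1, 1, -1, 1, -3, -1, 1, -1, -1, 1], [-1, -1, 1, -1, 1, -1, -1, -1, -1, 1, 1, -1, 1, -1, -1, -1, 1, -1, 1, 3, -1, -1, -1, 1], [-1, 1, 1, 1, -1, -1, 1, 1, -1, -1, -1, 1, -1, -1, 1, 1, -1, 1, -1, -1, -1, 1, -3, 1], [1, 1, -1, -3, -1, -1, 1, 1, -1, 1, -1, -1, -1,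 -1, 1, 1, 1, -1, -1, 1, -1, 1, 1, -1], [-2, 2, 0, -2, 0, 0, 0, 0, 0, 0, 2, 0, 0, 0, 2, 0, -2, 0, 0, 0, 2, 0, -2, 0], [-1, 1, 1, -1, 1, -1, 1, 1, 1, -1, -1, -1, -1, -1, 1, -3, 1, -1, -1, 1, -1, -1, 1, 1], [1, 1, -1, -1, -1, 1, 1, 1, -1, 3, -3, -1, -1, -1, -1, -1, 1, 1, -1, -3, 1, 1, 1, -1], [0, 0, -4, -2, -4, 0, 0, 2, 0, 4, -2, -2, -2, 0, 0, 2, 0, -2, 0, -4, 0, -2, 0, 0], [2, 4, 0, -2, 4, 0, 0, 0, 4, 2, 4, -2, 0, 0, 0, 2, -2, 0, 0, 0, 2, -2, 0, 0], [2, 2, 0, -2, 6, -2, 2, -2, 2, -2, 2, 0, 0, -2, -2, -2, 0, 0, 0, 2, 0, 0, 2, 2], [1, -3, 1, -1, 1, -1, 1, 1, -3, -1, -1, 3, 1, -1, -1, 1, -1, -3, 1, 1, -1, 3, -1, -1], [2, -2, 0, 2, -2, 0, 0, 0, 0, 2, 2, 0, 2, 2, -4, 4, -2, 0, 0, -4, 2, -2, 0, -2], [-2, 0, 0, 2, 0, -2,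 2, 2, 0, 2, -4, 2, 2, -2, -2, -2, 2, 0, 2, 0, 2, 2, -2, 4], [-4, 2, 0, 0, 6, -2, -4, -2, 2, -2, -6, -2, 0, 2, 2, -6, 0, -6, 6, -2, 4, 2, 6, -4], [4, -2, 2, -2, 0, 0, 0, 2, 2, 2, 2, 0, -2, 4, 0, 6, 0, -2, 4, -2, -2, 0, 0, 0], [1, 1, -3, -3, 3, -1, 1, -3, -5, -3, 1, 3, -1, 1, -1, -3, -1, -1, -3, -3, -1, 3, -1, -1], [0, 0, -2, -2, -2, 0, 0, 0, 2, 0, 0, -4, -2, -4, 0, 0, 0, 0, -2, 2, -2, -4, 4, 0], [0, -2, 0, 0, -2, 4, 0, 0, -2, 6, 0, 4, 0, 6, 0, 4, -4, 0, 2, 8, 2, 0, 0, 6], [-1, 3, -1, 1, -1, 1, -1, -1, -1, 1, 1, 1, -1, 5, 1, -1, 1, 3, -1, -5, 1, 1, -3, 1]]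
]

/-- tables of the elements -/
def threeC3 : List (List ℕ) := [
  [5427201, 7008446, 15906795, 11887129, 4475309, 9396484, 9319566, 2924077, 2254520, 7054942, 10877095, 7887784, 5933020, 8150688, 3225736, 4566688, 16660633, 12773413, 516530, 2353471, 8094415, 8982980, 12008901, 10975397],
  [12468333, 15847232, 15097645, 10672465, 6607415, 10567864, 10924081, 1776305, 15802688, 13451831, 7092348, 351551, 12356825, 2202702, 9237704, 2513237, 15933353, 6396347, 10596955, 13421791, 12291605, 7475304, 12182195, 13293676],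
  [218437, 11067385, 6106269, 15265938, 12857677, 15771723, 16450918, 6116334, 10289554, 270, 13513969, 12010367, 2508390, 8588723, 6925090, 834718, 16317477, 3474456, 11907531, 8346003, 2585202, 5165320, 14633598, 8214679],
  [5427201, 14548202, 896013, 15497996, 1581074, 5116774, 12395735, 702814, 11202261, 16344102, 16400591, 3994755, 12446643, 8760082, 2330030, 13824741, 15388429, 14761929, 2201931, 6430308, 5557707, 1936633, 5498488, 5005107],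
  [3776512, 4794494, 5212676, 5185809, 4906897, 6265555, 6818748, 11807466, 6791598, 3997486, 13861722, 11203435, 8478987, 15071028, 13061503, 16353021, 1976435, 15536906, 11484362, 6078673, 8759323, 1741169, 7120758, 2654904],
  [8482817, 13365511, 6583829, 5414710, 1650606, 6842684, 554478, 14654937, 8851907, 5272586, 943750, 15828087, 5248657, 16586098, 12899462, 1103139, 5726447, 15794096, 15559308, 248876, 288583, 2759443, 15062223, 2459296],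
  [12958431, 14707791, 653368, 11412231, 13804650, 3331627, 846411, 1642108, 11145482, 10241779, 7916704, 7305575, 8795769, 6752626, 1767444, 13821140, 654528, 2580504, 1248334, 7090995, 14130565, 12630407, 15577731, 3637505],
  [6326214, 596431, 15720064, 5414710, 5901696, 15474652, 3506385, 11565536, 8698149, 16207113, 170802, 9300638, 16436795, 12421093, 16763733, 342352, 9448574, 13386464, 11389247, 2368989, 16434828, 1703082, 4980271, 1127293],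
  [7008446, 14548202, 3967117, 7344147, 5883320, 16515871, 12899257, 1994586, 10712221, 7558368, 11724853, 11212414, 14483826, 13092939, 6818748, 1251654, 14579287, 12983226, 15481416, 2335406, 14319019, 1562925, 16668828, 3667141],
  [3037861, 15655596, 15387647, 6690795, 3097246, 7746923, 3231460, 4935062, 16403876, 7737724, 127310, 3446923, 3434389, 9705706, 15945246, 917258, 15596379, 7483325, 481466, 2945688, 10406106, 9189369, 900619, 2265247],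
  [9241763, 14790973, 5655979, 15781692, 10280912, 2308747, 15695842, 456061, 11256455, 14121077, 14952848, 11383477, 13181866, 16432110, 12151733, 5168798, 15941134, 9608349, 14589126, 11882496, 10543054, 4654203, 13848135, 8706383],
  [8883317, 8266823, 6234154, 10495923, 2340633, 13194583, 12045429, 6942255, 15504792, 11159629, 4764598, 13228438, 11822842, 908206, 12193715, 9774004, 15318121, 2812517, 6561945, 7049048, 12910024, 9646634, 6260275, 1209268]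
]

/-- images of the basis -/
def threeW4 : List (List (List ℤ)) := [
  [[0, 0, 0, 0, 0, -2, 0, 0, 0, -2, 0, 0, 0, -2, 0, 0, -2, 0, -2, -2, 0, 0, -2, -2], [0, 0, -2, 0, -2, 0, -2, 0, 0, 0, 0, 0, 0, 0, -2, 0, -2, -2, 0, 0, 0, -2, 0, -2], [-1, 1, -1, -1, -1, 1, -1, -1, -1, -1, -1, 1, 1, 1, -1, -1, -1, -1, 1, 1, 1, -1, 3, -1], [0, 0, 2, 0, 0, 2, 0, 0, 0, 0, 0, 2, 2, 2, 2, 0, 2, 0, 0, 0, 0, 0, 0, 2], [0, 0, 0, 0, 2, -2, 0, -2, 0, -2, 0, 0, 0, 0, 2, -2, 0, 0, 0, -2, 0, 0, -2, 0], [-1, 1, -1, 1, -1, 1, -3, -1, 1, 1, -1, 1, -1, 1, -1, -1, -1, -1, -1, 1, 1, -1, 1, 1], [2, 0, 0, 2, 0, -2, 0, 0, 0, -2, 0, 0, 0, 0, 2, 0, 0, 0, -2, 0, 0, 2, -2, 0], [0, 2, -2, 0, -2, 0, 0, 0, 0, 0, 0, 0, 2, 2, -2, 0, 0, -2, 2, 0, 0, 0, 0, 0],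 [1, 1, -1, 1, -1, -1, 1, -1, -1, 1, -1, -1, -3, -1, -1, -1, 1, 1, 1, -1, 1, 1, 1, -1], [0, 0, 0, 2, -2, 0, 0, 0, 0, 0, -2, 0, 2, 0, -2, 2, 0, 0, -2, 0, 0, 0, 2, 0], [1, -1, -1, 1, -1, -1, -1, -1, 1, 1, -1, -1, -1, -1, -1, 1, 1, 1, 1, 1, -1, 1, -3, 1], [-1, 1, -1, -1, 3, -1, 1, -1, 1, 1, -3, -1, -1, -1, -1, -1, -1, 1, 3, -1, 1, -1, 1, -1], [-2, 2, 0, -2, 0, -2, 2, -2, 0, -2, -2, -2, -2, 0, -2, -2, -2, 4, 2, 2, 0, 0, 4, -2], [0, 2, 2, 2, -2, 2, -2, 2, 2, 2, -2, 0, 0, -4, 0, 0, -2, 2, -4, 2, 2, 0, 2, 2], [2, 0, -2, 2, 0, 0, -4, 0, 2, 4, 0, 0, -2, -2, 2, 0, 0, 0, -4, 0, 0, 0, -2, 4], [3, 1, -1, 1, 1, -1, 1, 1, -3, 1, 3, -1, -1, 3, -1, -1, -1, -1, -1, -3, -1, -1, -1, -1], [-2, 2, 4, -2, 2, 0, -2, 2, 0, -2, 2, 2, 0, 0,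 0, -2, -4, 0, 0, 0, 0, -2, 4, -2], [1, 1, -3, 1, 3, -3, 3, 1, 1, 1, -1, 1, 1, 3, 1, 1, -3, -1, 3, 1, -3, 1, -1, 3], [-3, -7, -1, -1, 3, -1, 3, 1, 1, 5, 1, -9, -1, -5, 1, 7, -3, 1, -3, -1, -5, 1, -3, -1], [0, 6, 4, -2, 0, 2, 2, 2, -2, -2, 4, -2, -2, -2, -2, -2, 0, 2, -2, 0, 0, 0, 2, 2], [-2, 0, -4, 2, 0, 0, -4, -4, -2, 2, 0, -2, 0, 2, 0, 0, 0, 0, -2, -6, 0, -4, 0, 0], [2, -2, 0, -2, -2, -2, -2, -2, 2, 0, -2, 0, -4, -2, 0, -2, 2, 2, 0, 4, 2, 2, 0, -2], [3, 1, 7, 3, 3, 3, 3, 1, -3, -1, -1, -1, 3, 7, 3, -3, 3, 1, -1, 1, -1, 5, 5, 3], [-6, 2, 0, 0, 0, 2, 0, -2, 0, -2, -2, 0, 4, 0, 0, 2, 0, 0, 2, -2, 0, -2, 2, 2]],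
  [[-1, -1, -1, -1, -1, -1, -1, -1, 1, 1, -1, 1, -1, -1, 1, -1, 1, -1, 1, -1, -1, 1, -1, -3], [0, 0, 0, 0, 0, -2, 0, 0, -2, -2, 0, 0, 0, 0, 0, -2, 0, 0, 0, 0, -2, -2, -2, -2], [0, 2, 0, 0, 0, -2, 0, 0, 0, -2, 2, 0, 0, 0, 0, 0, -2, 0, -2, 0, -2, -2, 0, 0], [1, 1, 1, 1, 1, 1, 1, -1, 1, -1, 1, -1, -1, -1, 1, 1, 1, -1, -1, 1, 1, 1, 1, 3], [-1, -1, 1, -1, 1, 1, -1, -1, 3, 1, -1, 1, -1, -1, -1, -1, 1, -1, -1, -1, -1, 1, 1, -1], [0, 2, 2, 0, 0, 0, 0, 0, -2, -2, 0, 2, 0, 0, 0, 0, 0, 0, 0, 2, -2, -2, 0, 0], [-1, -1, 1, -1, -1, 1, -1, -1, 1, 1, 1, 1, -1, -1, 1, -1, 3, 1, 1, -1, 1, 1, 1, -1], [1, 1, 1, -1, 1, -1, 1, 1, -1, -1, 1, -1, -1, 1, 1, -3, -1, 1, -1, -1, -1, -1, -1, 1], [-1, 1, 1, -1, -1, 1, -1, 1, -1, 1, -1, -1, 1,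 1, -1, 1, -1, 1, 1, -3, -1, -1, 1, -1], [0, 2, 0, 0, -2, 0, 0, -2, -2, 0, 2, 0, 0, 2, 2, 0, 0, 0, 0, 0, 0, 0, -2, 0], [-1, -1, 3, -1, -1, 1, 1, 1, -1, 1, -1, -1, 1, 1, -1, -1, 1, 1, 1, 1, 1, 1, -1, -1], [-2, 0, 0, 0, 0, 0, 0, 0, 2, 2, -2, 0, 0, 2, -2, 0, -4, 0, 0, 0, -2, -2, 0, 0], [-2, 0, 0, 0, -2, -2, 0, 2, 0, 2, 2, 2, 0, 2, -2, 2, -6, 0, -2, -2, -2, 0, 2, -2], [-1, 3, 1, 1, -3, -3, -1, -1, -3, 1, -1, 3, 1, 1, 3, 3, 1, -1, 3, 3, 1, -1, 1, 1], [-1, 1, 3, -1, 1, 1, -1, -1, -3, 1, -3, 3, 1, -1, -1, 1, 5, 1, 3, 3, 1, -1, -1, 1], [2, -2, -2, 0, 2, 2, 0, 0, -2, 2, 0, 0, 0, -2, 0, -2, 2, 0, 0, -4, -2, -2, 0, 0], [-1, 1, -5, 3, 1, -3, 1, 1, 1, -1, 1, 3, -1, -1, 1, 1, -1, -3, -1, 1, -3, -1, 3, -1], [-2, -4, 0, -2, 2, 2,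 2, 2, 2, 2, 2, 2, -2, 2, 0, -2, 0, 2, 0, 0, 0, -2, -2, 4], [3, -7, -5, -1, -1, 1, -1, -1, -1, 5, -5, 1, 1, 5, -3, 3, 1, 1, 1, 3, 7, 1, -7, -5], [2, 2, -2, 2, 2, -2, -2, 4, -2, 4, 0, 2, 2, -2, 4, 2, -2, -2, 0, -2, 0, 2, 4, 0], [2, 2, 2, 0, 2, 2, 0, -4, -2, 0, -4, 2, 0, 0, -2, 0, 2, 0, -4, -2, -4, -2, -4, -2], [-3, 1, 3, -1, -3, -1, -1, 1, -1, -1, 1, -1, 1, -1, -5, 1, -1, 1, 3, 1, 1, 1, 3, -3], [3, 1, -1, 1, 1, 5, 1, -3, 1, 3, 7, -1, -1, 1, 3, 3, 1, -1, -3, -1, 3, -1, 9, 5], [1, 3, 1, 1, 1, -1, 1, -1, 3, -1, -1, 1, -1, 3, 3, 1, -3, -1, -5, 1, -1, 1, -3, 1]],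
  [[0, 0, -2, 0, 0, 0, -2, 0, 0, -2, 0, -2, -2, 0, 0, -2, 0, 0, 0, 0, 0, -2, 0, -2], [-1, 1, 1, -1, -1, 1, -1, -1, -1, -1, -1, 1, -1, -1, -1, 1, -1, -1, -1, 1, -1, -1, 1, -3], [-1, 1, 1, 1, -1, 1, -1, 1, -1, 1, -1, 3, -1, -1, -1, 1, -1, -1, -1, -1, -1, 1, -1, -1], [1, -1, 1, 1, -1, 1, 1, 1, 1, 1, 1, 1, 1, 1, -1, -1, 1, -1, 1, 1, -1, 1, -1, 3], [1, -1, -3, -1, -1, -1, -1, 1, 1, -1, 1, -1, -1, -1, 1, -1, 1, -1, -1, -1, -1, -1, -1, 1], [1, 1, 1, -1, -1, 1, 1, 1, 1, 1, -1, 3, -1, -1, -1, 1, -1, -1, -1, 1, 1, -1, 1, -1], [1, 1, -1, -1, 1, -1, -1, -1, 1, -1, 1, -1, -1, 1, 1, -3, 1, -1, -1, 1, 1, -1, -1, 1], [-2, 0, 2, 0, 0, 0, -2, 0, 0, 0, 0, 2, 0, 0, 0, 2, 0, 0, -2, 2, -2, 0, 0, 0], [-1, -1, -1, -1, 3, -1, 1, -1, 1,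 -1, -1, 1, -1, -1, 1, 1, -1, 1, -1, -1, 1, 1, -1, -1], [-1, 1, 1, 1, 1, 1, -1, -1, 1, 1, -1, 1, -1, 1, -3, -1, 1, 1, -1, 1, 1, 1, 1, -1], [0, 0, 0, -2, 0, -2, 0, -2, 2, 0, 0, -2, 0, 0, 0, 2, 0, 0, 0, 2, 2, 0, 0, 0], [-1, -1, -3, 1, -1, -1, -1, 1, 1, -1, -1, 1, 1, -1, 1, 3, -1, 1, -1, -3, 1, 1, 1, -1], [-2, 0, -2, 2, 2, -4, -2, 2, -2, 2, 0, 2, -2, -2, 0, 2, -2, 0, 0, -4, 2, 2, 0, -2], [3, 1, 1, 1, 1, 3, 1, 1, 1, 1, -1, 1, -3, 3, -1, -1, -3, 1, 1, 1, 5, 1, 3, -1], [5, 1, 1, -3, -1, 1, 3, -1, 3, -1, -1, -1, -1, -1, 1, -1, -1, 1, -1, 3, 3, -1, 3, 1], [-2, 0, 0, 0, 2, 0, 2, -2, 0, -2, 2, 0, 0, -2, 2, -2, 0, 0, -2, 0, -4, -2, 2, 0], [-2, 0, 0, 2, -2, 2, 0, 4, -4, 0, 0, 2, -2, 0, 0, -2, -2, -2, 2, -4, 0, -2, 2, 0], [0,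 2, 0, 2, -2, -4, -2, -2, 0, -2, 2, 2, 2, 0, 2, 2, 2, 2, -2, 0, 0, -2, 2, 4], [4, 0, -2, 0, 0, -4, 0, -6, -2, 2, -4, -10, 4, 2, 0, 0, 2, 6, 2, -2, 0, -2, 6, -4], [-1, -3, 1, 3, 5, 3, 1, 3, -3, 3, 3, -1, -3, -1, 3, -1, -3, 1, 1, -1, 1, -1, 1, 1], [1, -1, -3, -3, -1, 1, 1, -1, 3, 1, -3, 1, -1, -5, -3, -1, -1, 1, -3, 1, -5, -1, 3, -1], [1, 1, 1, -3, 1, -3, 1, 1, 1, -1, -1, -1, -1, -1, 1, 1, -1, -3, 1, -1, 5, 3, -3, -3], [-1, -1, 1, 5, 3, -1, 5, 1, 1, 5, 3, 3, 1, 5, 1, -5, 3, -3, -3, -3, -1, 3, -1, 7], [0, -2, -2, 2, -2, 2, -4, 2, 0, 4, -2, 2, 0, 0, -4, 2, 0, 2, 0, 0, -2, 0, 0, 2]],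
  [[0, 0, -2, 0, 0, 0, 0, -2, 0, 0, -2, -2, -2, 0, 0, 0, 0, 0, 0, -2, -2, 0, 0, -2], [-1, -1, -1, -1, -1, 1, -1, 1, -1, -1, -1, -1, 1, 1, -1, 1, -1, -1, -1, 1, -1, 1, -1, -3], [-1, -1, 1, -1, -1, 1, -1, 1, -1, -1, 1, 1, 1, 1, 1, -1, -1, -3, 1, 1, -1, 1, -1, -1], [1, -1, 1, 1, 1, -1, 1, 1, -1, 1, 1, 1, -1, -1, 1, 1, 1, -1, 1, 1, 1, 1, -1, 3], [-1, -1, -1, 1, 1, -1, -1, -1, -1, 1, -1, -1, -1, -1, 1, -1, -1, 1, 1, -3, -1, -1, -1, 1], [-1, -1, 1, 1, 1, 1, -1, 1, -1, -1, 1, -1, 1, 3, 1, 1, -1, -1, -1, 1, 1, 1, -1, -1], [1, 1, -1, 1, 1, -1, 1, -1, 1, -1, -1, -1, -1, -1, 1, 1, -1, 1, -1, -3, -1, 1, -1, 1], [0, -2, 0, -2, 0, 0, 0, 2, 0, 0, 0, 0, 2, 0, 0, 0, -2, 0, 0, 2, -2, 2, 0, 0], [-1, 1, 1, -1, -1, -1, 1, 1, 1, -1,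 -1, -1, 1, 1, 1, -3, -1, 1, -1, -1, 1, -1, 1, -1], [1, -1, 1, -1, -1, 1, 3, -1, 1, -1, 1, -1, 1, 1, 1, 1, 1, -1, -1, 1, -1, 1, -1, -1], [1, 1, -1, -1, 1, -1, 1, 1, 1, 1, 1, -1, 1, 1, -1, 1, -1, 3, -1, -1, 1, -1, -1, -1], [-3, -1, 1, -1, -1, 1, -1, -1, 1, 1, 1, -1, 1, 1, -1, -3, -1, 1, 3, -1, 1, -1, 1, -1], [-3, 3, 3, -1, -1, 1, -1, -1, 1, 1, 3, 1, 1, 1, 1, -5, -1, -1, 1, -1, -3, -1, 1, -3], [1, 3, 1, 1, 1, 3, 3, -3, -1, -1, 1, -1, -1, 5, 1, 1, 1, -1, -1, 1, 3, 3, 1, -1], [1, 1, -1, 1, 3, 1, -1, -1, -1, -1, -1, -3, 1, 3, 1, 3, 1, 3, -3, -1, 5, 1, -1, 1], [-3, -1, -3, 1, -1, -1, -1, 1, 1, -1, -3, -1, 1, -3, 1, -1, 1, 1, -3, 1, -1, 1, 1, 1], [-2, 0, 0, 4, 0, 4, -2, 0, -2, 0, 0, 2, -2, 0, 0, -2, 2, -4, 2, 0, -2, 2,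 2, -2], [-2, 0, 0, 0, 2, 0, -2, 0, 4, 0, 0, 0, 4, -2, 0, 2, 0, 4, 4, 0, -2, 2, 0, 2], [4, 2, -2, 0, -2, 0, -2, -10, 4, 2, -2, 0, 2, -2, -6, 2, 4, 6, -2, 2, 2, -6, 0, -4], [-1, 3, -1, 1, 1, 1, 1, -1, -1, 3, -1, 3, -1, 1, 3, -3, 1, -3, -3, 1, -1, 1, 7, 1], [-1, -5, -1, 1, -3, -1, -3, -1, -3, 1, -1, -5, 3, 1, 3, -1, 1, 1, -3, 1, 1, -1, -3, -1], [0, 4, 2, -2, 2, 0, 0, 2, 0, -2, 2, 0, -2, 2, -2, -2, -2, 0, -2, -4, 2, -2, -2, -2], [-1, -1, 3, 5, 1, -1, 5, -1, 3, -1, 3, 7, -1, -5, 5, -3, 1, -1, -1, 1, 1, 3, -1, 7], [2, -4, 2, 0, -2, 0, 0, -2, -2, 4, 2, 0, 2, 2, 2, 0, 0, -2, 4, 2, -2, 0, 0, 0]],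
  [[0, -2, 0, 0, -2, 0, 0, 0, 0, -2, 0, 0, 0, 0, 0, -2, -2, 0, 0, -2, 0, -2, 0, -2], [-1, 1, -1, 1, 1, -1, -1, -1, 1, -1, -1, -1, 1, -1, 1, -1, 1, -1, -1, -1, -1, -1, -1, -3], [-1, 1, 1, 1, 1, -1, -3, -1, 1, 1, -1, 1, -1, -1, 1, 1, 1, -1, -1, -1, -1, 1, -1, -1], [-1, 1, 1, -1, -1, 1, -1, -1, 1, 1, 1, 1, 1, 1, -1, 1, 1, 1, 1, 1, 1, 1, -1, 3], [0, 0, 2, 0, -2, 0, 0, 0, -2, -2, 0, 0, 0, 2, -2, 0, -2, 0, 0, -2, 0, 0, 0, 0], [1, 1, 1, 1, 1, 1, -1, -1, 1, -1, -1, -1, 1, -1, 1, 1, 3, -1, 1, -1, -1, 1, -1, -1], [1, -1, 1, 1, -1, 1, 1, 1, 1, -1, 1, 1, 1, 1, -3, -1, -1, 1, 1, -1, 1, -1, 1, -1], [-2, 2, 0, 2, 2, 0, 0, 0, 2, 0, 0, 0, 0, 0, 0, 0, 0, -2, -2, 0, 0, 0, -2, 0], [1, -1, -1, 1, 1, -1, 1, 1, -1, -1, 1, -1, -3, -1,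 -1, 1, 1, -1, -1, -1, 1, 1, 1, -1], [-1, -1, -1, 1, 1, 1, -1, 1, 3, -1, 1, 1, -1, -1, 1, 1, 1, 1, 1, 1, -1, -1, -1, -1], [-1, -1, -1, 1, 1, 1, 3, 1, -1, -1, -1, -1, 1, 1, -1, 1, 1, -1, 1, 1, 1, -1, 1, -1], [0, 0, 0, 0, 0, 0, 0, 2, -4, 0, 0, 0, -2, 0, 2, 2, 0, -2, -2, -2, -2, 0, 0, 0], [2, -2, 2, 2, 0, -2, 0, 0, -2, 2, -2, 2, -6, 0, 2, 2, 0, -2, -2, 0, -2, 0, 0, -2], [4, -2, 0, 0, 0, 2, -2, 2, 2, 0, 0, 0, 0, -2, 4, 0, 4, 0, 4, 0, 2, -2, 0, 0], [3, 1, -1, 1, 1, 3, 1, 1, -1, -3, -1, -3, 3, -1, -1, -1, 3, 1, 5, -1, 1, -1, 1, 1], [2, 2, -2, 0, 2, -2, 2, -2, 0, -2, 2, 0, 0, 0, -2, -2, -2, 2, -2, -2, 0, 0, -2, 0], [2, 0, 4, -2, -2, -4, -2, -2, 0, 2, 0, 2, 0, -2, 4, -2, 0, 0, 0, -2, -2, 0, -2, 0], [0, 4, 0, 4, 0, 2, 4,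 2, -2, 0, 0, 4, 2, 0, 0, 0, -2, 0, -2, 0, -2, 0, 0, 2], [2, -4, -8, -2, 0, 2, 2, 4, -6, -2, -2, -2, 2, 0, 2, -4, -6, 2, 2, 8, -4, -2, 2, -2], [5, -1, 1, -3, 1, -3, 1, -1, 3, 1, -1, 1, -5, 1, 3, -3, -1, -1, 1, -1, 3, 1, -1, 3], [-1, 1, -1, 1, 3, 1, -3, -3, -3, -7, 1, -3, -1, 1, -1, -1, 1, 1, 1, -1, -3, 1, -3, -1], [1, -3, 1, 1, -1, -1, 1, 1, -1, 3, -3, -3, -1, -1, -3, 3, 3, -1, 1, -1, 1, -1, 3, -3], [5, 1, 3, -3, 1, -1, -1, 1, 3, 3, 5, 7, -1, 1, -5, 5, -1, 3, 1, 3, 1, 3, -3, 5], [-4, 0, 2, 0, 0, 2, -4, 0, 0, -2, 0, 2, -2, 2, 4, 0, 0, -2, 0, 2, -2, 2, -2, 2]],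
  [[1, -1, -1, -1, 1, -1, -1, -1, 1, -1, 1, -1, 1, -1, -1, -1, -1, -1, -1, -1, 1, -1, 1, -3], [-2, -2, 0, 0, 0, 0, 0, 0, -2, 0, 0, 0, 0, 0, 0, 0, -2, -2, 0, 0, -2, -2, 0, -2], [-3, -1, 1, 1, -1, 1, -1, 1, -1, 1, -1, 1, -1, -1, -1, 1, 1, -1, 1, 1, -1, -1, 1, -1], [0, 2, 0, 0, 2, 2, 0, 0, 0, 0, 0, 2, 0, 0, 0, 0, 2, 2, 2, 0, 0, 0, 0, 2], [2, 0, -2, -2, 0, 0, -2, 0, 0, 0, 0, 0, 2, 0, 0, 0, 2, 0, 0, 0, 2, 0, 0, -2], [0, -2, 2, 0, 0, 2, 0, 0, -2, 0, 0, 0, 0, 0, 0, 2, 0, -2, 2, 0, -2, 0, 0, 0], [2, 0, 0, -2, 2, 0, -2, 0, 0, -2, 2, 0, 0, 0, 0, 0, 0, 0, -2, 0, 2, 0, 0, 0], [-2, -2, 0, 2, 0, 0, 0, 2, -2, 0, 0, 2, 0, 0, 2, 0, 0, 0, 0, 0, 0, -2, 0, 0], [1, -1, 1, 1, -1, -1, -1, 1, -1, 1, -1, -1, -1, -1, 1, -1, -1, -1, -1, 1,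 1, 3, -1, -1], [0, 0, 2, 2, 2, 0, 0, 0, 0, 0, 0, 0, -2, -2, 0, 2, -2, 0, 0, 0, 0, -2, 0, 0], [2, 0, 0, 0, 0, 0, 2, 0, -2, 0, 2, -2, 0, 0, 2, 0, 0, 0, -2, 0, 0, 0, -2, 0], [1, -1, -1, 1, -3, -1, 1, 1, -1, 3, -3, -1, 1, -1, -1, 1, 1, -1, -1, -1, 1, 1, 1, -1], [-2, -2, 0, 2, -4, -2, 0, 2, 0, 0, -2, -4, -2, -2, -2, 2, 2, 0, 0, 2, 2, 2, 2, -2], [3, -1, 5, 1, 1, 3, 3, -1, 1, -1, 1, -1, -1, -1, -3, 1, -3, -1, 1, 1, -1, 1, 3, 1], [5, -1, 3, -3, 1, 3, 1, -1, -1, 1, 3, -1, 1, 3, 1, 1, -3, -1, 1, -1, -1, 1, -1, 1], [0, -2, -2, 0, 2, -2, -4, 0, 0, 0, -2, 0, 0, 4, 2, -2, -2, 0, 0, 0, 0, 0, 0, 0], [-3, -3, -1, -1, -1, 1, -1, -1, 3, -1, -3, -1, 1, -1, -5, -1, 1, -1, 3, 1, -1, -1, 3, 1], [0, -2, 0, -2, 0, -4, 0, 2, -2, 2, 0, 0,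 2, 2, 2, 2, 2, 2, -2, -2, 2, -2, 2, 4], [4, 4, -2, -4, -4, -6, 6, -4, 6, 0, 0, -4, -2, 2, 4, 2, -6, 2, -4, -4, -2, -2, 0, -2], [0, -4, 0, 4, 0, 0, 0, 0, 6, -2, 0, 0, 0, 2, -2, -2, 0, 2, 2, 4, 0, 4, 2, 0], [1, -1, -1, -1, 1, 3, -3, -1, -1, 3, -3, -1, 1, 1, 5, 3, -3, -1, 3, -1, -1, -1, -1, -5], [1, 1, 1, -1, -3, 1, 1, 1, -3, -1, 3, -3, -3, -1, -3, -1, 1, -3, -1, 1, 1, 3, -3, -1], [3, 3, 1, 1, 3, 1, -5, 3, 3, -3, -5, 3, -5, 1, -1, 1, 5, 5, 1, 3, 1, 1, 1, 7], [-2, 0, 0, 2, 0, 2, 2, 0, 2, 2, -2, 2, 2, -4, 2, 4, 2, 2, 2, 0, 0, -2, 2, -2]],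
  [[-1, -1, -1, -1, 1, -1, -1, 1, 1, -1, -1, -1, -1, -1, 1, -1, -1, -1, -1, 1, 1, 1, -1, -3], [0, -2, 0, 0, 0, 0, -2, -2, -2, 0, 0, 0, 0, 0, -2, 0, 0, -2, -2, 0, 0, 0, 0, -2], [0, -2, -2, 0, 0, 2, 0, -2, -2, 0, 0, 0, 2, 0, -2, 0, 0, 0, 0, -2, 0, 0, 0, 0], [1, 1, -1, 1, -1, 1, 1, 1, 1, 1, 1, -1, 1, -1, 1, 1, 1, 1, -1, -1, 1, -1, 1, 3], [0, 0, -2, 0, 0, -2, 0, 2, 2, 0, 0, -2, 0, 0, 0, 0, 0, 2, 0, 0, 0, 2, 0, -2], [2, -2, 0, 0, 0, 2, -2, -2, 0, 2, 2, 0, 0, 0, -2, 0, 0, 0, 0, 0, 0, 0, 0, 0], [0, 0, 0, 0, 2, -2, -2, 2, 2, 0, 0, -2, 0, 0, 2, 0, -2, 0, 0, 0, 0, 0, 0, 0], [1, -1, -1, 1, 1, -1, -1, -1, -1, -1, -1, 1, 1, 1, -3, 1, 1, -1, -1, -1, 1, -1, 1, 1], [-1, -1, 1, -1, 1, -1, -1, 1, -1, -1, 1, 1, -1, 1, -1, -1, 1, 1,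 3, -1, -1, -1, -1, -1], [0, -2, 0, -2, 2, 0, 0, -2, 0, 0, 0, 0, 0, -2, 0, 0, 0, -2, 0, 0, 0, -2, 0, 2], [0, 0, 2, 0, 0, -2, -2, 0, 2, 0, 0, 2, -2, 0, 0, 0, 0, 0, 0, 0, -2, 0, 2, 0], [-2, 0, 0, -2, 0, 0, 2, 0, 0, 0, 0, 2, 0, 0, -4, 0, 0, 2, 2, 0, 0, 2, 0, -2], [-2, 0, -2, -2, 0, 2, 0, -2, 0, -2, -2, 2, 2, 0, -2, 0, 0, 0, 6, -2, -2, 2, -2, -2], [0, -2, 2, 0, 2, 4, -2, -2, 0, 2, 2, 2, -2, -4, 2, 0, -2, 0, 2, 2, 2, 0, -2, 2], [3, -1, 3, 1, 1, -1, -3, 1, 1, 5, 3, 1, -3, -1, 1, -1, -1, 1, -1, 3, -1, 1, -1, 1], [-1, 1, 1, 1, 1, -3, -1, 1, -1, 1, -1, -3, 1, 3, -1, -1, 3, -1, -1, 1, 1, -1, -3, -1], [-2, 2, -4, 0, 0, 6, 0, -2, -2, 0, 0, -2, 2, 0, 0, 0, 0, 0, 0, 2, 2, 2, -2, -2], [1, 3, 1, -3, 1, -3, -1, 1, 1, 1, -3, 1, 3,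 3, -3, 1, -1, 1, -1, 1, 1, 3, 1, 3], [2, 4, 8, -4, 0, -4, 6, -2, 0, 0, -6, 2, -6, -2, 4, 0, -2, -2, -2, 4, -4, 2, -2, -4], [-2, 0, -2, 4, 0, 4, 0, 0, 0, -2, -2, 0, -2, 2, 2, 0, 2, 0, 4, 2, 2, 0, -6, 2], [3, -3, -1, -1, 1, -3, 1, -1, -1, 5, 1, -3, -3, -1, -3, -1, 5, -1, -1, -1, -1, 1, -1, -3], [-1, -1, 1, 1, -1, 1, -3, 1, 1, -1, 3, 3, 1, -1, 1, -1, -3, 1, 3, -1, -5, -1, 1, -3], [-1, 5, -1, 1, 3, 1, 3, -1, 3, 1, 1, -5, 5, 1, 3, 3, 1, 5, 3, -3, 1, -5, -3, 7], [2, -2, -4, -2, 0, 2, 4, -2, 0, 0, -2, 0, -2, -2, -2, 2, 2, 0, 0, -2, 2, 2, 2, 2]],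
  [[-2, 0, 0, -2, 0, 0, 0, 0, 0, 0, 0, 0, 0, -2, -2, 0, -2, 0, 0, -2, 0, -2, 0, -2], [1, 1, -1, 1, 1, -1, -1, -1, -1, -1, -1, 1, -1, -1, -1, -1, -1, -1, -1, 1, 1, -1, -1, -3], [0, 0, -2, 2, 2, -2, 0, -2, 0, 0, 0, 0, 0, 0, 0, 0, 2, 0, 0, 2, 0, 0, 0, -2], [1, -1, -1, 1, 1, 1, -1, 1, 1, 1, 1, -1, 1, -1, 1, 1, 1, -1, 1, 1, -1, 1, 1, 3], [0, -2, 0, -2, 0, 0, 2, 0, 0, 0, 0, -2, 0, -2, 0, 2, 0, 0, 0, -2, 0, -2, 0, 0], [2, 0, -2, 2, 2, -2, 0, 0, 0, 0, 0, 0, 0, 0, 0, -2, 0, 0, 0, 0, 2, 0, -2, 0], [0, 0, 0, -2, 0, 0, 0, 2, 0, 2, 0, 0, 0, -2, 0, 2, -2, 2, 0, -2, 0, 0, 0, 0], [1, 1, 1, 3, 1, -1, -1, -1, -1, 1, -1, 1, -1, -1, 1, 1, 1, -1, -1, 1, 1, -1, 1, -1], [0, 0, 2, 0, 0, 0, 0, -2, 0, 0, 0, 0, 0, 2, 2, 0, 0, 2, 0, -2, 0,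 0, -2, -2], [-2, 2, -2, 2, 0, 0, -2, 0, 0, 2, 0, 2, 0, 0, 0, 0, 0, 0, 0, 0, 0, 0, -2, 0], [1, -1, 1, -1, -1, 1, -1, 1, -1, 1, -3, 1, -1, 1, 1, -1, -1, 1, -1, -1, 1, -1, -1, 1], [-1, -1, 1, 1, -1, 1, 3, -3, -1, -1, -1, -1, 1, 1, -1, -1, 3, 1, -1, -1, 1, -1, -1, -1], [-3, -1, 1, -1, -1, -3, 1, -3, -1, 1, 1, -1, -1, 3, -1, -1, 5, 3, 1, 1, 1, -1, -1, -3], [-1, 3, -3, 1, 1, 1, -1, 1, 3, 1, 1, 1, 1, 1, -1, -5, -1, 3, 3, -1, 3, 1, -1, 1], [3, 1, -1, -1, 1, 1, 1, 3, 3, -1, -1, 1, -1, -1, 1, -3, -3, 1, -1, -3, 3, 1, -3, 3], [2, 2, 4, 0, 0, 0, 2, 0, 0, 0, 2, 0, -2, -2, 0, 2, -2, -2, 0, 0, -2, 0, -2, -2], [-1, 1, -1, 1, 1, -3, 1, -1, 1, -3, 3, -3, 1, -1, -5, -1, 1, 1, 3, 3, -1, -1, 1, -1], [1, 1, 3, 1, 1, 1, 3, 1, -3, 1, -1,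 1, -3, -1, -3, 3, 3, 1, -3, -1, 1, 1, 1, 3], [-4, 0, 0, -4, -10, 4, 2, 4, 0, -4, -2, 6, -4, 4, -4, -2, -2, -4, -2, -4, 0, 2, 0, 0], [-1, 3, 3, -1, -1, -3, 1, -3, 3, 1, 5, -1, -1, 1, 1, -3, -1, 1, 5, 1, -1, -1, 3, 1], [2, -2, -2, 2, 0, 0, 2, 0, 2, -2, 2, 2, -2, -2, 2, 0, 0, -4, -2, -2, 0, -4, -6, -2], [0, -2, 0, -4, 0, -2, -2, 0, 0, 0, -4, -2, 2, 2, 2, -2, 0, 4, 0, 0, 2, 2, -2, -2], [0, 0, 0, 4, -2, 0, 2, 2, 2, 6, 4, -4, 0, 0, 2, 6, 2, 2, 6, 2, -4, 6, 0, 4], [-2, -2, -4, 4, 0, 0, 0, -2, 0, 0, 2, 2, 0, 0, 0, 0, 4, -2, 0, 0, 0, -4, 2, 2]],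
  [[-2, 0, -2, -2, 0, 0, -2, 0, 0, 0, 0, 0, -2, 0, 0, 0, -2, 0, 0, 0, -2, 0, 0, -2], [0, 0, -2, 0, -2, 0, 0, 0, 0, 0, 0, -2, 0, -2, 0, 0, 0, 0, -2, -2, 0, -2, 0, -2], [0, 0, 0, 2, -2, -2, 0, 0, 0, -2, 0, 0, 0, -2, 0, 0, 0, 0, 0, -2, 2, -2, 0, 0], [1, 1, 1, 1, -1, 1, -1, 1, -1, -1, -1, 1, 1, 1, -1, -1, 1, 1, 1, 1, 1, 1, 1, 3], [-1, -1, -1, -1, 1, 1, -1, 1, 1, -1, -1, 3, -1, 1, -1, -1, -1, 1, 1, 1, -1, -1, -1, -1], [2, 0, -2, 0, -2, 0, 0, 0, 0, 0, 2, 0, 0, 0, 0, 0, 2, 0, 0, -2, 2, -2, 0, 0], [-1, 1, -1, -1, 1, 1, -1, 1, 1, 1, 1, 1, -1, 1, -3, 1, -1, 1, 1, 1, -1, 1, 1, -1], [1, -1, -1, 1, -1, 1, 1, 1, 1, -1, -1, -1, 1, -3, -1, 1, -1, -1, -1, -1, 1, -1, 1, 1], [-1, -3, 1, -1, 1, -1, 1, -1, 1, 1, 1, -1, -1, -1, -1, 1,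 1, -1, 1, 1, 1, -1, -1, -1], [1, 1, -1, 1, -1, -1, -1, -1, 1, 1, 1, -3, -1, -1, -1, -1, -1, -1, 1, -1, 1, 1, 1, 1], [1, -1, -1, -1, 1, 1, 1, 1, 1, 3, -1, -1, 1, 1, -1, 1, 1, -1, 1, -1, -1, 1, -1, -1], [0, -2, 0, 0, 2, -2, 0, 0, 2, -2, 0, 0, 0, 0, 2, 0, 0, -2, 0, 0, 0, -2, -4, 0], [-2, -2, 2, 2, 0, -4, 2, 0, 2, -2, 2, 2, -2, -2, 2, 0, 0, -4, 2, -2, 0, 0, -2, -2], [0, 2, -2, -2, 0, -2, -2, 0, -2, 2, 6, -2, 0, 0, 2, 0, 2, 0, 2, -2, 2, 2, 0, 2], [2, 2, -4, -4, 2, 2, 0, 0, 0, 4, 2, 0, 0, 2, 0, 0, 4, 2, 0, 0, 2, 0, 0, 0], [0, -2, 0, 0, 0, 2, 0, 0, 2, 0, 0, 0, -2, -2, 0, 0, 0, 2, -4, 4, 0, 0, 2, -2], [-1, 1, 1, 1, -3, -3, -1, 1, -3, -3, 3, 3, -3, -1, 3, -1, -1, 1, -3, -1, -1, -1, -1, 1], [3, 3, 1, 1, 3, 3, 1, 3, 5, -1,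 -1, 1, -1, -1, 1, 3, -1, -1, -1, 1, -1, -1, -1, 1], [2, 4, -2, 0, 8, 2, 2, -6, -2, 4, -2, -4, 0, 2, 6, -2, -2, -2, 0, 2, -6, 4, -2, -6], [-2, -4, 2, -2, 0, -2, 2, 0, -2, -2, 4, 2, -2, -2, 4, 0, 0, 2, 0, 0, 0, 4, 4, 2], [2, -2, -6, 0, -2, 2, 0, -4, 2, 0, -2, 0, -2, -2, 0, -4, 2, 2, 0, 2, 2, -2, -2, -2], [-3, -1, 1, -1, 1, -3, 1, 1, -1, 3, 1, 1, 1, 3, -3, 1, 3, -3, 1, -3, 1, -1, -1, -3], [4, 0, 6, 6, 2, -2, -2, 2, 0, -2, 4, 4, 0, 0, -4, -2, 0, 2, 2, 6, 2, 4, 4, 4], [2, 0, -2, 2, -2, 0, 0, -2, 0, -4, -2, 0, 0, -2, 2, -2, -2, 0, 4, -2, 0, 0, -2, 4]],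
  [[0, 0, 0, 0, 0, 0, -2, 0, -2, -2, 0, 0, 0, -2, 0, 0, 0, -2, 0, -2, 0, -2, 0, -2], [-1, -1, 1, -1, -1, -1, -1, -1, 1, 1, -1, -1, 1, -1, 1, -1, -1, 1, -1, -1, 1, -1, -1, -3], [-1, 1, -1, -1, -1, -1, 1, -1, 1, 1, -1, 1, 1, 1, 1, -1, -1, 3, -1, -1, -1, -1, -1, -1], [-1, 1, 1, 1, -1, -1, 1, 1, 1, -1, 1, 1, 1, 1, -1, 1, -1, 1, 1, 1, -1, 1, 1, 3], [-1, -1, -1, 1, 1, -1, -1, 1, -3, -1, 1, 1, -1, -1, -1, -1, -1, -1, 1, -1, -1, -1, -1, 1], [-2, 0, 0, 0, 0, 0, 0, -2, 0, 2, -2, 0, 2, 0, 0, 0, -2, 2, 0, 0, 2, 0, 0, 0], [1, -1, 1, -1, -1, 1, -1, 1, -3, -1, 1, 1, -1, -1, -1, 1, -1, -1, 1, -1, 1, -1, 1, 1], [0, -2, 0, 0, -2, -2, 0, 0, 2, 2, 0, 0, 0, 0, 2, 0, 0, 2, 0, 0, 0, -2, 0, 0], [2, -2, -2, -2, 2, 0, 0, -2, 0, 0, -2, 0,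 -2, 0, 0, 0, 0, 0, 0, 0, 0, 0, 0, 0], [0, 2, 0, -2, -2, 0, 0, 0, 2, 0, -2, 0, 0, 0, 0, 2, 0, 0, 0, 0, 2, -2, 0, 0], [2, -2, 0, 0, 0, 0, 0, 0, 0, 2, 0, -2, 0, 0, -2, 0, 0, -2, 2, 0, 2, 0, 0, 0], [1, 1, -3, 1, 3, -1, -1, -1, -1, 1, -1, -1, -1, 1, 1, -1, 1, 1, 1, 1, -1, -1, -3, -1], [2, 2, -6, 0, 2, 2, 2, -2, 0, 2, 0, 0, -2, 0, 0, 0, 0, 2, -2, -2, -2, -2, -2, -2], [0, 4, 2, 0, 2, 2, 0, -4, 0, 0, -2, 0, 2, 2, 0, 4, 0, 0, 0, -2, 4, 0, 2, 0], [-2, -2, 4, 0, 2, 2, -2, -2, -2, 2, -2, 0, 2, 0, -2, 2, 0, -2, 2, 0, 4, 2, 0, 2], [-1, -3, 1, -1, -1, 1, -3, -1, 1, -1, 1, 1, -3, -3, 3, -1, -1, -1, -1, 1, -1, 1, -1, 1], [-3, 5, -1, 1, 1, 1, -1, -1, -1, -1, 1, -1, 1, -1, 3, -1, -1, 3, -3, -3, -3, 1, 1, -1], [2, -2, 0, 2, -2, 2,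 -2, 2, -2, 2, 2, -2, 0, 0, 2, 0, 2, 2, 0, 2, 0, -2, -4, 4], [0, 0, 2, 4, 0, 6, 0, 4, 0, -2, -2, -4, -4, 0, -2, 0, 8, -8, 0, 2, 4, 2, -4, -6], [-1, 1, -3, 1, 3, 3, -1, -3, 3, -1, 3, 3, -1, 1, 3, 1, 1, -1, -3, -3, -1, 1, 5, 1], [-6, -2, 0, 0, 0, -2, -2, -2, 2, 0, -4, 2, -2, -4, -2, -2, 0, 0, 2, 0, 2, 0, -4, 0], [3, -1, -1, -3, 3, 1, 3, -1, -3, 3, -1, -1, 1, 1, -3, 1, -3, -1, 1, -1, -1, 1, 1, -3], [0, 4, -2, 0, -4, 2, 2, 2, 0, -2, 2, 4, -6, 4, 2, 4, -4, 2, 0, 2, -2, 4, 2, 8], [-3, 3, -3, 3, -1, -3, 1, 1, 3, -1, -1, 1, 1, 1, -1, -1, 3, 3, 1, -1, 1, -3, -1, 1]],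
  [[-2, 0, -2, 0, 0, 0, 0, 0, 0, 0, 0, -2, 0, 0, -2, 0, 0, 0, 0, 0, -2, -2, -2, -2], [1, 1, 1, -1, 1, -1, -1, -1, -1, -1, -1, -1, -1, 1, -1, -1, 1, -1, -1, -1, -1, -1, 1, -3], [2, 0, 0, 0, 0, 0, 0, -2, -2, 0, 0, 0, 0, 2, 0, 0, 0, 0, -2, 0, 0, 2, 2, -2], [0, 0, 0, 0, 0, 0, 2, 0, 0, 0, 0, 0, 0, 0, 2, 2, 0, 0, 2, 2, 0, 2, 2, 2], [-1, -1, -3, -1, -1, -1, 1, 1, -1, 1, 1, 1, 1, -1, -1, 1, 1, 1, 1, 1, -1, -1, -1, -1], [3, 1, 1, 1, 1, -1, 1, -1, -1, -1, -1, 1, -1, 1, -1, -1, 1, 1, 1, -1, -1, 1, 1, -1], [-2, 2, -2, 0, 0, 0, 0, 2, 0, 0, 0, 0, 0, 0, -2, 2, 0, 0, 2, 0, 0, 0, -2, 0], [1, 1, 1, -1, 1, -1, -1, -1, -1, 1, -1, 1, -1, 3, 1, 1, 1, -1, -1, 1, 1, -1, 1, -1], [0, 0, 0, 0, 0, 0, 0, 0, 2, 0, 0, 2, 0, 0, 0, 0, 0, 2, -2,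 -2, 2, 0, -2, -2], [0, 2, 0, 2, 0, 0, 0, -2, 0, -2, -2, -2, 0, 2, 0, 0, 0, 0, 0, 0, 2, 0, 0, 0], [0, 0, 2, 0, 0, -2, 0, 2, 0, 0, 0, 0, 0, 0, 0, 0, 0, 0, 2, -2, 2, -2, -2, 0], [1, -3, 1, 1, -1, -1, -1, -1, -1, 1, 1, 1, 1, -1, -1, -1, 1, 3, -3, 1, 1, -1, -1, -1], [1, -3, -1, 1, -3, -1, -1, -1, -1, 1, 1, 1, 1, 3, -1, -3, -1, 1, -5, -1, 1, 3, -3, -1], [2, 2, 2, 6, 2, 0, 2, -2, 2, -2, 0, -2, 0, 0, -2, 0, 0, 0, 0, -2, -2, 2, -2, 2], [1, 3, 1, 3, 3, -1, 1, 1, 1, -1, 1, 1, -1, -3, -1, -1, 3, 1, 5, -3, -1, -1, -1, 1], [-1, 1, -3, -3, 1, 1, -1, 1, 3, 1, -1, 1, -3, -1, -1, -1, 3, -1, -1, 1, 1, -1, 1, -1], [1, -3, -1, -1, -1, 3, 1, -3, -1, -1, 1, -1, -1, 1, -3, -1, 1, -1, -3, 1, -5, 3, 1, 1], [-2, 0, 0, 0, 0, -2, -4, 2, -2,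 2, 2, 2, -2, 2, -2, 0, 2, 2, 0, 2, 2, -2, 2, 4], [-4, 0, 0, 4, -4, 0, -6, 2, 0, 0, -2, -4, 0, -8, 2, -6, -2, -2, 0, -4, 0, -8, -2, 4], [0, -2, -2, 2, 2, 4, 4, 0, 4, 2, 0, 2, 0, 2, 0, -2, 0, -4, -4, 0, -2, 2, -2, 2], [2, 0, -4, 0, 0, -2, 0, -2, 0, 0, -4, 0, 0, -2, 2, -2, 6, 2, 2, -2, 0, -2, 2, -4], [1, 1, 3, -1, -1, -1, 1, 1, -1, -1, 3, 1, 1, -1, -1, -1, -3, 1, 1, -3, 1, 3, -5, -3], [1, 1, -5, 1, -3, 3, 3, 1, 1, -1, -1, 3, -3, -1, 1, 5, -1, -1, -1, 5, 5, 7, 1, 7], [1, -3, -1, 3, -1, -1, 1, -3, -3, 1, -3, -1, 3, 3, 3, 1, 1, 1, -1, 1, -1, -1, 3, 1]],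
  [[-1, -1, -1, -1, -1, -1, -1, -1, -1, -1, -1, -1, -1, -1, -1, -1, -1, -1, -1, -1, -1, 3, -1, -1], [-1, 1, -1, 1, -1, -1, -1, 1, -1, -1, 1, -1, -1, -1, 1, 1, -1, -1, -1, 1, -1, -1, -1, -3], [0, 2, 0, 0, 0, -2, 2, 0, 0, 0, 2, 0, 0, 0, 0, 2, 0, -2, 0, 0, 0, -2, 0, -2], [0, 2, 2, 0, 0, 0, 2, 0, 0, 0, 0, 2, 0, 2, 0, 0, 0, 2, 0, 0, 2, 0, 0, 2], [0, -2, 0, 0, 0, 0, 0, -2, 0, -2, 0, 0, 0, 2, -2, 0, 0, 0, -2, -2, 0, 2, 0, 0], [-1, 1, -1, 3, 1, -1, 1, 1, -1, 1, 1, 1, -1, 1, 1, 1, 1, -1, -1, 1, -1, -1, -1, -1], [0, -2, 0, 0, 0, 0, 0, -2, -2, -2, -2, 0, -2, 0, 0, 0, 0, 0, 0, 0, 0, 2, 0, 2], [-1, 1, 1, 1, -1, -1, -1, 1, -1, -1, 1, -1, 1, 1, 1, 3, -1, -1, 1, 1, 1, -1, 1, -1], [1, -3, -1, 1, 1, 1, 1, 1, -1, 1, -1, -1, 1, -1,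 -1, 1, -1, -1, 1, -1, -1, -1, 1, -1], [-1, 1, 1, -1, 1, -1, 1, 1, -1, 1, -1, 1, -1, -1, 3, 1, -1, -1, 1, 1, -1, 1, 1, -1], [0, -2, 2, 2, 0, 2, -2, 0, 0, 0, -2, 0, 0, 0, 0, 0, 0, 0, 0, 2, -2, 0, 0, 0], [0, -2, 0, 0, 0, 0, 0, 2, 2, 0, 2, 0, 2, 0, -2, 0, 2, -2, 0, -2, -2, 0, 2, -2], [2, -2, 0, 0, 2, -4, 0, -2, 2, 2, 2, 0, 2, -2, -2, 0, 0, -4, 2, -2, -2, -2, 2, -2], [0, 2, -2, 2, 0, -2, 2, 2, 0, 4, -2, 2, -2, -2, 2, 0, 2, 0, 2, 0, -4, 2, -2, 2], [0, -2, -2, 4, 0, 2, 0, 2, 0, 2, -2, 0, -4, 2, 2, 0, 2, 2, -2, 2, -2, 2, -2, 2], [1, -1, -3, 1, 1, 1, -1, 1, -1, -3, 1, -3, -1, 1, 1, -1, -3, 1, 1, -1, 3, 1, 1, -1], [-2, 4, -4, 0, 0, -4, 2, -2, 2, 0, 4, 0, 0, -2, -2, -2, 0, 0, 0, -2, 0, 0, 0, 0], [-1, -3, 1, 1, -1, 1, -3, 1,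 3, -3, 3, 1, -1, 1, 1, 1, 1, -3, 1, 1, 3, 1, 3, 3], [1, -5, -1, -5, -3, 5, -7, -1, 5, 3, -3, -1, 1, -3, 7, -7, 3, 1, -1, 1, -1, 3, -1, -3], [2, 2, -4, 0, 2, -2, 0, -2, 0, 4, 2, -2, 2, 0, -2, 0, -2, 2, 6, -2, 0, 2, -2, 2], [1, -1, -1, 3, 1, 1, 1, 1, -1, 1, 1, -1, -1, 3, 3, 1, -1, 1, -5, -1, 1, 3, 1, -7], [1, -3, 1, 1, 1, -1, 1, -1, -1, 1, -3, -1, -1, -1, -3, -1, 1, -1, -1, 1, -5, -5, -1, 1], [1, 1, 1, -1, 5, -1, 7, -3, 1, -3, -1, 3, 1, 3, 3, -1, 1, 3, 7, -3, 5, -1, 3, 5], [-1, 3, 3, -1, -1, -1, 1, -1, 1, 3, 3, 3, 3, 1, 1, 3, 1, -1, -1, -1, 1, 3, 1, -3]]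
]

/-- tables of the elements -/
def threeC4 : List (List ℕ) := [
  [8266823, 647336, 16568317, 4087794, 16676205, 15063417, 930900, 8200236, 12276880, 6871147, 4281861, 5156554, 8434235, 5705657, 10060298, 10913705, 12124760, 11598073, 16195394, 645232, 8985023, 2698165, 12550942, 8989971],
  [7248301, 4150870, 445465, 12401332, 6486999, 15137186, 6767036, 10869245, 10966336, 12397413, 7407052, 441933, 5427852, 3511916, 4263467, 15480440, 11844519, 1142798, 9210875, 10403158, 13966789, 4450679, 10691566, 3047169],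
  [9227063, 2228213, 13444433, 8740901, 14478154, 1787857, 8362606, 11988787, 11124009, 4635089, 16043250, 576698, 6891551, 9984026, 14680157, 15273460, 1945547, 5083738, 14448812, 7451326, 2872124, 4670436, 10086277, 7960215],
  [13948643, 3981640, 6833827, 6640215, 7017524, 14145835, 5415589, 5751071, 6538132, 15301123, 15695842, 3767813, 15489518, 6687080, 6701038, 10447707, 2571562, 13111458, 6139384, 7848177, 644775, 3779949, 15184048, 453481],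
  [10085410, 5026341, 8935698, 15045050, 12518973, 8241774, 13317155, 11854374, 5868002, 7653016, 8118651, 8339720, 3391912, 14091228, 15301123, 2530747, 6121990, 16319320, 5038372, 8833862, 15491113, 15165045, 11684198, 8686580],
  [1559144, 8626709, 7805678, 5504990, 10059929, 11719262, 929005, 10038455, 5186836, 15097915, 11695474, 16316898, 1874180, 5778035, 5366964, 9328693, 3266588, 16221960, 6267610, 4130327, 16632059, 7195726, 12694623, 13390116],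
  [10429242, 12915613, 4842326, 4779920, 12737771, 1637777, 15838275, 13160331, 11683520, 14172477, 13020513, 15949610, 15327927, 9609795, 1345556, 2071240, 6130919, 9212037, 7833195, 15273044, 14975747, 7193538, 109577, 16513284],
  [7344147, 7061389, 6734194, 5414710, 11714350, 4866168, 2802975, 5270418, 7737600, 13257506, 10408615, 14541137, 16190878, 5669526, 2506589, 6957278, 1071451, 1243347, 4966211, 14613908, 6209899, 4472702, 4511679, 14264047],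
  [5734553, 11583377, 13534324, 12549870, 12878715, 13699184, 348312, 709576, 11402976, 5685728, 11367419, 9487986, 180587, 4141352, 1939519, 4280918, 8111970, 15699248, 6753160, 5425524, 8641062, 11224577, 4515318, 9320809],
  [8287893, 5604894, 5515561, 10339430, 1184968, 2100564, 3327152, 1283698, 14129519, 12753532, 2554809, 12162074, 3671523, 16681011, 2871202, 1647934, 11245615, 8, 3034135, 2511126, 13405285, 10531392, 2157981, 16739963],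
  [569265, 12148783, 11490075, 130, 8901222, 11665157, 11538692, 1088402, 6823338, 8237818, 5771585, 15266809, 7078867, 2073, 3966067, 252616, 9337303, 9609407, 7174610, 16092032, 3658059, 15150644, 16679727, 8097728],
  [16314369, 2689350, 13695133, 11194167, 8246536, 12939850, 606017, 2689358, 16348667, 3123738, 4958340, 8960839, 6225761, 7083575, 15252761, 14750356, 11019161, 1559144, 16382635, 13121164, 392628, 863458, 16766768, 9032338]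
]

/-- images of the basis -/
def threeW5 : List (List (List ℤ)) := [
  [[-1, -1, -1, -1, 1, 1, -1, 1, -1, -1, 1, -1, 1, -1, 1, -1, -1, 1, -1, -1, -1, -1, -1, -3], [-2, 0, 0, -2, 0, 0, 0, -2, -2, 0, 0, 0, -2, 0, 0, 0, 0, -2, 0, -2, 0, 0, 0, -2], [0, 2, 0, -2, 0, -2, 0, -2, -2, 0, -2, 0, 0, 0, 0, 0, 2, -2, 0, 0, 0, 0, 0, 0], [-1, 1, 1, 1, 1, -1, 1, 1, 1, 1, -1, 1, 1, -1, -1, -1, 1, 1, 1, 1, 1, 1, -1, 3], [0, 0, 0, 0, 0, 0, -2, 2, 0, 0, 0, 0, 2, 0, 0, 0, 0, 2, 0, 0, 2, -2, -2, -2], [-1, 1, 1, -1, -1, -1, 1, -1, -3, 1, -1, 1, -1, -1, 1, 1, -1, -1, 1, -1, 1, -1, 1, 1], [0, 0, 0, 0, 0, 0, -2, 2, 0, 0, 2, 0, 0, 0, 2, -2, -2, 2, 0, 0, 0, 0, -2, 0], [-1, 1, 1, -1, 1, -1, -1, -1, -1, -1, 1, -1, -1, 1, -1, 1, 1, -3, 1, -1,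 1, 1, -1, 1], [2, 0, -2, 0, -2, 0, -2, -2, 0, -2, 0, 0, 0, 0, 0, 2, -2, 0, 0, 0, 0, 0, 0, 0], [1, 1, -1, -1, 1, -1, 3, -1, -1, -1, 1, -1, -1, -1, 1, -1, -1, -1, 1, -1, -1, 1, -1, 1], [0, 0, 0, 2, -2, 2, 0, 0, 0, 0, 2, -2, -2, 0, 0, 0, -2, 0, 0, 0, 2, 0, 0, 0], [2, 0, 0, 0, 0, 0, 0, -2, 0, -2, -2, -2, 2, 2, 0, 2, 0, 0, 0, 0, 2, -2, 2, -2], [5, 1, -1, -1, -3, -1, -1, -1, -1, -1, -3, -3, 3, 1, 1, 1, 1, -3, -3, -1, -1, -1, 1, -1], [1, 1, -1, -1, 1, 1, 3, 1, -3, -1, -1, 1, -1, -3, 3, -1, -3, 1, -1, -1, -1, 1, 5, 3], [-1, -1, 1, 1, -1, 1, 1, 1, -1, 1, 3, 3, -3, -3, 3, 1, -3, 3, 1, -1, 3, -1, 3, 1], [-1, -1, -1, -1, 1, -1, -3, -1, 3, 1, 3, 3, 1, 1, -1, 1, -1, -1, 1, -3, -1, -1, -1, -1], [0, 2, 2, -2, 2, 0, 0, 0, -2, 2,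 -4, 2, 4, 0, 0, 0, 2, 0, -2, -2, -4, 0, 2, -2], [1, -1, 3, 3, 3, -1, -1, -1, 1, 1, 3, -1, 1, 5, 3, 1, 1, -1, -1, -1, 3, -1, -1, 1], [2, -8, -4, 6, 0, 2, 6, 4, 4, 0, 4, -2, -4, 2, 2, 0, 0, 0, 0, 0, -2, 0, 4, -8], [3, 1, -1, -1, 1, 3, -3, 3, 1, -1, -1, 3, 3, -3, -1, 1, 1, -3, -1, -1, -5, -1, 3, 3], [-1, -1, -3, -1, -1, -3, 1, -1, -1, 1, 1, 1, -1, -3, -1, 3, 1, 1, 5, -5, 3, -3, -1, -3], [1, 1, 1, -1, -7, 1, -1, -1, -1, -1, -1, -1, -1, -1, 1, -1, -3, 1, -3, 3, 1, 1, 1, -1], [4, 6, 0, 2, 2, -6, 0, 4, 6, 2, -2, 4, 4, 2, 0, -2, -2, 0, 2, 2, -2, 2, -2, 6], [1, 1, -1, 1, 3, -1, 3, 1, -3, -1, -3, -3, 1, -1, -1, 1, 5, -1, 3, -1, 1, -1, -1, 1]],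
  [[-2, -2, -2, 0, 0, 0, 0, 0, -2, 0, 0, -2, -2, 0, 0, 0, 0, 0, -2, 0, 0, 0, 0, -2], [0, 0, 0, -2, -2, 0, -2, 0, 0, 0, -2, 0, -2, 0, 0, 0, 0, 0, 0, -2, 0, -2, 0, -2], [3, 1, 1, -1, -1, 1, -1, -1, 1, -1, -1, -1, -1, -1, -1, 1, -1, 1, 1, -1, 1, -1, -1, -1], [2, 0, 2, 0, 2, 0, 0, 0, 0, 0, 0, 0, 2, 0, 2, 2, 0, 0, 0, 2, 0, 0, 0, 2], [-1, 1, -1, 1, 1, 1, 1, -1, -1, 1, 1, -1, -1, -1, 1, 1, -1, -1, -3, 1, -1, 1, -1, -1], [0, 2, 2, -2, 0, 0, -2, 0, 2, 0, 0, 0, -2, 0, 0, 0, 0, 2, 0, 0, 0, -2, 0, 0], [-2, 0, -2, 0, 0, 0, 0, 0, -2, 0, 0, 0, 0, 0, 2, 0, 0, 2, -2, 2, 0, 2, 0, 0], [2, 0, 0, -2, -2, 2, 0, 0, 2, 0, -2, 0, 0, 0, 2, 0, 0, 0, 0, -2, 0, 0, 0, 0], [-2, 0, 0, 0, -2, 0, 0, 0, 2, 0, 0, 0, 0, 0, -2, -2, -2, 0, 0, 0, 0, 2,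 -2, 0], [0, -2, 0, -2, 0, 2, -2, 0, 0, -2, 0, 0, 0, 2, 0, 0, 0, 2, 2, 0, 0, 0, 0, 0], [-2, 0, 0, 0, -2, 0, 0, 2, 0, 0, 2, 2, 0, 0, 2, -2, 0, 0, 0, 0, -2, 0, 0, 0], [-1, 1, 1, 1, -1, 3, 3, -1, 1, 1, 1, -1, -1, -1, -3, -1, -1, -1, 1, -1, -1, -1, -1, -1], [1, 1, -1, -1, -1, 1, 3, -1, 1, -3, 3, -1, -1, -3, -5, -1, -1, 1, 1, -3, 1, 1, -3, -1], [-2, 0, 2, -2, 0, -2, 0, 2, 0, -2, 2, -2, -2, 4, -2, 0, 0, 4, 2, 2, 2, -2, 2, 2], [-4, 2, 2, 0, 0, -2, -2, 0, 0, 2, 2, 2, -2, 4, 2, -2, 0, 2, -2, 2, 0, -2, 2, 2], [-2, 0, -2, -2, 0, 0, -2, -2, 0, 4, -2, 0, 2, 0, 0, 0, 0, -2, -2, -2, 2, 2, 0, 0], [1, 1, 1, -1, 3, -1, 1, -1, -1, -1, -1, -3, -3, -3, -3, 3, 1, -1, 1, -1, 5, -1, 1, -1], [0, 0, -2, 0, 0, 4, 4, -2, 0, 4, 0, 4, 0, -2,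 2, 0, 0, 2, 0, -2, 0, 0, 2, 2], [-4, -4, -4, 4, 2, -4, 2, -2, -4, 2, 4, 4, 0, 6, -2, -4, 4, -2, 4, -4, -6, 0, 4, -4], [1, 1, -1, -1, 3, -3, 1, 3, 1, -1, 1, -5, 1, 1, -3, -1, -1, -1, -1, -3, 5, 3, 1, 3], [-1, 1, 1, -3, 1, 1, -5, -5, 1, 3, 1, -1, -3, 3, 1, -1, -1, -3, -1, -1, -3, -1, -3, -1], [-2, 2, 2, 2, -4, -2, 0, 2, 0, -4, 2, 2, 0, -2, -2, -2, 0, 2, -2, 2, 0, 0, -2, -2], [1, 3, 1, -1, 5, 1, 1, -3, 1, -1, 1, -1, 9, -1, 1, 5, -1, 3, 3, 3, 3, 7, 1, 3], [5, -1, 1, -1, 3, 3, 1, -1, 1, -1, 1, -3, -3, 1, 1, 1, -1, -1, 3, -1, -3, -1, -1, 1]],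
  [[1, -1, -1, 1, 1, -1, 1, 1, -1, -1, -1, -1, -1, -1, 1, -1, -1, -1, -1, -1, -1, -1, 1, -3], [1, 1, -1, -1, -1, -1, -1, -1, -1, -1, -1, -1, -1, 1, -1, 1, -1, 1, 1, 1, -1, -1, -1, -3], [1, 1, 1, -1, -1, 1, -1, -1, -1, 1, 1, -1, -1, 1, -3, 1, -1, 1, 1, -1, -1, 1, -1, -1], [1, -1, 1, -1, 1, 1, 1, -1, 1, 1, -1, 1, 1, 1, -1, -1, 1, 1, 1, -1, 1, 1, 1, 3], [0, 0, -2, 0, 2, 0, 0, 0, 0, 0, 0, 0, 0, 0, 0, -2, -2, -2, -2, -2, 0, 0, 2, 0], [1, 3, 1, -1, 1, 1, -1, -1, -1, -1, -1, -1, 1, 1, -1, 1, -1, 1, 1, 1, 1, 1, -1, -1], [1, 1, -1, 1, 1, -1, 1, 1, -1, 1, -1, 1, 1, -1, 1, -1, 1, -1, -1, -1, 1, -1, 3, -1], [1, 1, -1, -1, -1, -1, -1, -1, -1, 3, -1, -1, -1, 1, -1, 1, -1, 1, 1, 1, -1, -1, -1, 1], [-3, 1, -1, 1, -1, -1, -1, 1,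 -1, 1, 1, -1, 1, -1, 1, 1, -1, -1, 1, -1, 1, 1, -1, -1], [1, 1, 1, 1, -1, 1, 1, 1, -1, 1, -1, -1, 1, -1, -1, -1, 1, 1, 3, 1, -1, -1, -1, -1], [-2, 2, -2, 0, 0, 0, 0, 0, 0, 0, -2, 2, 0, -2, 2, 0, 0, 0, 0, 2, 0, 0, 0, 0], [-2, 0, -2, 2, 0, 2, -2, 0, 0, 0, 2, -2, 0, 0, 0, 0, -2, 0, -2, 0, -2, 2, -2, 0], [-3, 1, 1, 1, -1, 3, -1, -1, -3, 1, 5, -3, -3, -3, -1, 1, -1, -1, -1, -1, -1, 1, -1, -1], [0, 2, 4, 4, 2, 2, 2, 2, 0, -2, -2, -2, 0, 0, 0, 2, 2, 2, 2, 2, 2, 2, 0, -2], [0, 4, 0, 2, 2, 0, 0, 2, 0, -4, -4, 2, 2, 2, 2, 0, 0, 0, 0, 2, 4, 0, 0, 0], [1, -1, -1, 1, -1, -5, -3, -1, -1, -1, 1, -1, 1, 1, 1, -1, -1, -1, 1, -1, 1, -3, 1, 1], [3, -1, 3, -1, 1, 1, -1, -1, 1, -3, 3, -5, -3, 1, -1, 1, 1, 1, -1, -3, -1, 1, 1, -1], [1,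 1, -3, 1, 1, 1, -3, 1, -3, 1, 1, 1, 1, 1, 1, 1, 1, 1, -3, 1, -3, -3, 1, 5], [-3, -5, -1, 3, 1, 1, -1, 5, 3, -5, 1, 5, -1, -3, 3, -3, 3, -3, -3, 7, -1, -7, -5, -3], [0, -2, 6, 2, 0, -2, 0, 0, 0, 0, 2, -4, -4, 0, 2, 2, 0, -4, 2, 0, 2, 2, 2, 2], [1, 1, -3, -1, 1, -1, -3, 1, -1, -3, -1, -1, 1, 1, -3, -5, -5, -1, 3, 1, 3, -1, -3, -1], [-4, 4, 0, 0, -2, 2, 2, -2, 0, 0, 0, 2, 0, -2, 2, 2, 0, 0, -2, -2, 2, 2, 0, -4], [0, 0, 6, 2, 2, 0, -2, -2, 2, 6, 4, 0, 4, 0, -2, -4, 6, 0, 2, -4, 2, 0, 4, 6], [2, -2, 0, -2, 2, 4, 0, 2, 0, 2, 0, -2, -2, 0, -4, -2, -2, 0, 2, 2, -2, 2, -2, 2]],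
  [[1, -1, -1, 1, -1, -1, -1, 1, 1, -1, -1, -1, 1, -1, -1, -1, -1, 1, -1, 1, -1, -1, -1, -3], [-1, 1, -1, -1, -1, -1, -1, 1, -1, -1, -1, 1, -1, -1, -1, 1, -1, -1, 1, -1, 1, 1, -1, -3], [-1, 1, -1, -1, -1, 1, 1, 1, -1, 1, 1, 1, -3, 1, -1, 1, -1, -1, 1, -1, -1, 1, -1, -1], [0, 0, 2, 0, 2, 2, 0, 0, 0, 2, 0, 0, 0, 2, 0, 2, 0, 2, 0, 0, 0, 0, 0, 2], [2, 0, 0, 0, 0, 0, 0, 0, 0, 0, -2, 0, 0, 0, 0, -2, 0, 2, -2, 0, -2, -2, -2, 0], [-1, 1, -1, 1, 1, -1, 1, 1, -1, 1, -1, 3, -1, 1, -1, 1, 1, -1, 1, -1, 1, 1, -1, -1], [1, -1, -1, 1, 3, -1, -1, 1, 1, -1, -1, -1, 1, -1, -1, -1, -1, 1, -1, 1, -1, -1, -1, 1], [0, 2, 0, -2, 0, 0, 0, 2, -2, 0, 0, 0, -2, -2, 0, 2, 0, 0, 2, 0, 0, 0, 0, 0], [0, 0, 0, 0, 0, -2, 2, 0, 0, 0, 0, 0, 0, -2,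 0, -2, 0, -2, 0, -2, -2, 0, 2, 0], [-3, 1, -1, 1, 1, -1, 1, 1, 1, 1, 1, -1, -1, -1, -1, 1, -1, 1, 1, 1, 1, 1, 1, -1], [0, 0, 0, 0, 2, -2, 0, 0, -2, 0, 0, 0, 2, -2, 2, -2, 0, 0, 0, 0, 2, 0, 0, 0], [1, 1, -1, -1, -3, -1, 3, -1, 1, 1, 1, 1, -1, -1, 3, -1, 1, -1, -1, -1, -1, -1, -1, -1], [0, 0, -2, 0, -2, 0, 2, 0, 0, 0, 4, 0, -4, 0, 2, -4, 2, -2, 0, 0, -4, 2, 0, -2], [-1, -1, -1, 5, 1, -1, 1, 3, 3, 3, 1, 1, 1, 1, -1, 1, 1, -3, -1, 1, 3, 3, 1, -1], [1, 1, -1, 3, 3, -3, -1, 1, 1, 1, -3, 3, 3, 1, -1, -1, 1, -1, -1, -1, 5, -1, 1, 1], [2, 2, 0, -2, 0, 0, -2, -2, 2, -2, -4, 0, 0, -2, -2, 0, 0, 0, 2, 0, -2, 0, 2, 0], [2, -2, -2, 0, -4, 2, 0, 0, 2, 0, 0, 0, -2, 4, -2, 2, 2, 0, 0, 0, -2, 4, -2, -2], [2, 2, -2, -4, 0, -2, -2,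 0, 2, 0, 2, 2, 0, -2, 2, 0, 2, 2, 2, 2, 0, -2, -2, 4], [-2, 0, 0, 2, -4, -2, -4, -8, 2, -4, 4, -2, 4, -4, 0, -4, 2, 0, -4, 4, 8, -4, 2, -2], [3, -1, 1, 5, -3, 3, -1, 1, 1, 1, -1, -3, -1, 1, -1, -1, 3, -3, 3, 1, -3, 3, 3, 1], [0, 6, 2, 0, 0, -2, 2, -2, 0, 0, -4, 2, -2, 0, -4, -2, 0, 2, 0, -2, 2, -2, 0, -4], [-1, -3, -3, 1, 3, -1, 1, 1, -3, -1, 1, 1, 1, 1, 3, -3, -1, -3, -3, -3, -1, 1, 1, -1], [0, -2, 0, 0, 6, 6, 2, -4, 4, 4, 0, -2, -4, 0, -2, 2, 2, 2, 0, 2, -4, 2, 2, 8], [-1, 3, 3, 1, -3, 1, 3, 1, -1, 3, 3, -1, -3, 1, -1, 1, 1, 3, 1, 1, 1, -1, -3, -1]],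
  [[0, 0, 0, 0, -2, -2, 0, 0, -2, -2, 0, -2, -2, 0, 0, 0, 0, 0, 0, -2, 0, 0, 0, -2], [1, 1, -1, 1, 1, -1, -1, -1, -1, -1, -1, 1, -1, -1, -1, -1, -1, -1, -1, 1, 1, -1, -1, -3], [1, -1, 1, 1, 1, 1, -3, -1, 1, 1, -1, 1, -1, -1, -1, -1, 1, -1, -1, 1, 1, -1, -1, -1], [-1, 1, 1, -1, -1, 1, -1, -1, 1, 1, 1, 1, 1, 1, -1, 1, 1, 1, 1, 1, 1, 1, -1, 3], [0, 0, 2, -2, -2, 0, 0, 0, 0, -2, 2, -2, 0, 0, 0, -2, 0, 0, 0, -2, 0, 0, 0, 0], [2, 0, 0, 0, 2, 0, -2, 0, 0, 0, 0, 2, 0, 0, 0, 0, -2, -2, 0, 0, 2, 0, -2, 0], [0, 2, 0, 0, -2, -2, 0, 2, 0, 0, 2, -2, 0, 0, 0, 0, 0, 0, 0, -2, 0, 2, 0, 0], [1, 3, 1, 1, 1, 1, 1, -1, 1, 1, -1, 1, -1, -1, -1, -1, 1, -1, -1, 1, 1, -1, -1, -1], [1, -1, -1, 1, -1, 1, 1, 1, 1, 1, -1, 1, 1, -1, 1, -1, -1,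 -1, -1, -3, -1, -1, 1, -1], [1, 1, -1, 1, -1, -1, -1, 1, -1, 3, -1, 1, -1, 1, 1, 1, 1, -1, 1, 1, 1, -1, -1, -1], [0, 2, -2, -2, 0, 0, 2, 2, 0, 0, 0, 0, 0, -2, 2, 0, -2, 0, 0, 0, 0, 0, 0, 0], [1, -3, 1, -1, 1, 3, 1, 1, -1, -1, 1, 1, -1, -1, 1, -1, 1, -1, -1, -1, -1, -3, 1, -1], [1, -5, 1, 1, 1, 1, -1, 1, 3, 1, -1, -1, -3, -1, 3, -1, 1, -1, -3, -1, -3, -3, -1, -1], [1, -1, -1, 3, 1, -1, -3, 3, -1, -1, -1, 3, -1, 1, 3, 5, -1, -1, 3, -1, 1, 1, -1, 1], [0, 2, -2, 0, 2, -2, 0, 2, -2, -2, 2, 2, 2, 0, 2, 0, -4, -2, 4, -2, 2, 2, 0, 2], [1, 1, -1, 3, -1, -1, 3, -3, -1, -1, 1, -1, 3, 1, -1, -3, 1, -1, -1, -1, -1, 1, -1, -1], [1, -5, 3, 3, 1, -1, -3, -1, -1, -3, -1, -1, -1, 1, -3, 1, 1, 1, -1, 1, -1, -1, -3, 1], [0, 2, 0, 0,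 4, 0, 4, 2, 0, 0, 4, -2, 0, 0, 0, -2, 4, 0, -2, 0, 2, -2, 0, 2], [-3, -1, -5, -5, 5, -5, 5, 1, -5, -1, -1, -3, 1, 3, 5, 1, 1, 3, 5, 1, -5, -1, 5, -5], [1, -3, 1, 5, -1, 1, 1, -1, 3, -3, -5, -1, -1, 3, 1, 1, 1, -1, 1, -1, -3, 3, -1, 3], [2, 2, 0, -2, 0, 0, -2, -4, -4, 0, 0, 2, 2, 2, 2, -6, -2, -2, 2, -2, 0, -2, -2, -2], [-1, -3, -1, -1, -1, -1, -1, 3, 3, 1, 1, 1, -1, -5, 1, 1, -5, -1, -1, -1, -1, 1, 1, -1], [1, -1, 3, 1, -3, 1, -1, 1, 5, 5, 3, -1, 7, 3, -1, 3, 7, -1, 1, 1, -3, 3, -3, 5], [1, 1, 3, -3, 1, 3, -3, -1, -1, 1, -3, 1, -3, 3, 1, -1, 3, 1, 1, 1, 1, -3, -1, 1]],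
  [[-2, 0, 0, -2, 0, -2, 0, 0, -2, 0, 0, -2, 0, 0, 0, 0, -2, 0, 0, 0, 0, 0, -2, -2], [1, -1, 1, 1, -1, -1, -1, 1, -1, -1, -1, 1, -1, 1, -1, 1, -1, -1, -1, -1, -1, -1, -1, -3], [3, -1, -1, 1, -1, 1, -1, -1, -1, 1, -1, 1, 1, 1, -1, 1, -1, -1, -1, -1, -1, -1, 1, -1], [1, 1, -1, 1, 1, 1, 1, -1, 1, 1, 1, 1, 1, -1, -1, 1, 1, -1, 1, -1, 1, 1, -1, 3], [0, 2, 0, -2, 2, 0, 0, -2, 0, 0, 0, -2, 0, 0, 0, -2, -2, 0, 0, 0, 0, 0, -2, 0], [2, -2, 2, 0, 0, 0, 0, 0, 0, 0, -2, 2, 0, 2, -2, 0, 0, 0, 0, -2, 0, 0, 0, 0], [-3, 1, 1, -1, 1, -1, 1, -1, -1, -1, 1, -1, 1, 1, -1, -1, -1, -1, 1, 1, 1, -1, -1, 1], [2, 0, 0, 2, 0, 0, 0, 0, 0, -2, 0, 2, 0, 0, 0, 2, -2, 0, 0, 0, -2, -2, 0, 0], [-1, -1, 1, -1, -1, 1, 1, -1, 1, -1, 1, -1, -1, 1, 1,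 -1, -1, 1, -1, -1, -1, -1, 3, -1], [-1, -3, 1, 1, -1, -1, -1, 1, -1, 1, 1, 1, 1, -1, -1, 1, -1, -1, 1, -1, -1, -1, 1, 1], [-2, 0, 2, 2, 0, 0, 0, 0, 0, -2, 0, 0, -2, 0, 0, -2, 0, 2, 2, 0, 0, 0, 0, 0], [1, -1, -1, -1, 1, 1, -3, -1, 1, 1, -1, -1, -1, 1, 3, -1, -1, 3, -1, -1, -1, -1, 1, -1], [2, 0, -2, -2, -2, 0, -2, -2, -2, 2, -2, 0, 0, 0, 2, -2, -2, 2, 0, 0, 0, -2, 6, -2], [-2, -4, 2, -2, 0, 0, 0, 2, -4, 2, 0, 2, 0, 2, -2, 2, 2, 2, 0, -2, 2, 2, 2, 2], [-3, -1, 5, -1, 3, 1, 1, 3, 1, -1, -1, 1, -1, 3, -3, -1, 1, 1, 1, -1, 1, 3, -1, 1], [-1, 3, 1, -3, -1, -1, 1, 1, 3, -1, 1, 1, -1, 1, 1, 1, -1, -3, -1, 1, -3, -1, -1, -1], [3, 1, -3, -3, -1, -1, 1, 1, -3, 5, -3, 1, 1, 1, 1, 1, 1, -1, -3, -1, 1, -1, -1, -1], [-1, 3, 1,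 1, 1, 1, -3, 1, 3, -1, -3, 1, 1, 1, 3, 1, -3, 1, 1, 3, 1, -3, -1, 3], [-7, -3, 3, -1, 1, -1, -5, 5, 1, -1, -1, -1, -1, -7, 5, -3, 3, 1, 1, 7, 1, 5, -1, -5], [2, 2, -2, -6, -2, 0, 4, 2, -4, 0, 0, 0, 0, 0, 2, 2, 2, 0, 0, 0, -2, 2, 4, 2], [1, -1, 5, -1, 3, -1, -1, -1, 3, 1, -1, 1, -1, -1, -1, -1, -3, -3, -1, -3, -5, 3, -1, -3], [-1, -1, -1, 1, -1, 1, 1, -1, -1, -1, 1, -1, -1, 3, -3, -5, 1, 3, 1, -1, 3, -1, 3, -3], [0, 2, -2, -4, 0, 4, 2, -4, 2, 4, 4, 4, 4, -2, 0, 0, 4, -4, 2, 2, 0, -4, 2, 8], [4, -2, 0, 2, 2, 0, -2, -2, -2, 2, -2, 0, 2, -4, 2, 2, -2, 0, 0, -2, -2, 2, 0, 2]],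
  [[-2, 0, -2, 0, 0, -2, 0, 0, 0, 0, 0, 0, 0, 0, 0, -2, -2, 0, -2, 0, 0, -2, 0, -2], [-1, 1, -1, -1, 1, -1, -1, -1, -1, 1, -1, -1, -1, -1, -1, 1, 1, -1, -1, 1, -1, 1, -1, -3], [1, 1, 1, -1, -1, 1, 1, -1, -1, 1, 1, -3, -1, -1, -1, 1, 1, -1, -1, 1, -1, 1, -1, -1], [2, 0, 2, 2, 0, 0, 0, 0, 0, 0, 2, 0, 0, 0, 0, 0, 0, 0, 2, 2, 0, 0, 2, 2], [1, -1, -1, 1, 1, -1, 1, -1, 1, -1, 1, -1, -1, 1, 1, -3, -1, 1, -1, -1, 1, -1, 1, -1], [0, 2, 0, 0, 2, 0, 0, 0, 0, 0, 0, -2, 0, -2, -2, 0, 2, 0, 0, 0, -2, 2, 0, 0], [-2, 0, 0, 0, 2, 0, 0, 0, 2, 0, 0, 0, 0, 0, 2, -2, -2, 0, 0, 0, 0, -2, 2, 0], [1, 1, 1, -1, 1, 1, -1, -1, 1, 1, -1, -1, -1, 1, -1, 1, 1, -1, -1, 3, 1, 1, -1, -1], [0, 0, 0, -2, 0, 2, 0, -2, 0, -2, -2, 0, 2, 0, 0, 0, 0,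 0, -2, -2, 0, 0, 0, 0], [-1, 1, 1, -1, 1, 1, -3, 1, -1, 1, 1, -1, 1, -1, -1, 1, -1, -1, -1, 1, -1, -1, -1, 1], [-1, -1, -1, -1, 3, 1, -1, 1, 1, -1, -1, 1, 1, 1, -1, 1, -1, 1, 1, -1, 1, 1, 1, -1], [2, 0, -2, -2, -2, 0, 0, 0, 0, -2, 0, -2, 0, 0, 0, 0, 0, 2, -2, -2, 2, 2, -2, 0], [0, 0, 0, -2, -4, 4, 2, 0, 0, 0, 0, -2, -2, 0, -2, 0, -2, 0, -4, -4, 0, 2, -2, 0], [-2, 4, -2, -2, 0, 0, 0, 4, -2, 0, 0, 0, 2, -2, -2, 0, 0, 0, 0, 0, -4, 0, 2, 4], [-1, 1, -3, 1, 5, -1, -1, 3, 1, -1, -1, 1, 3, -1, 1, -1, 3, 1, 1, -1, -3, 1, 3, 1], [0, -2, 0, 0, 0, -2, -2, -4, 2, 2, -2, 2, 0, 0, 2, -2, 2, -2, -2, 0, 0, 0, 0, 0], [-1, 3, -1, 1, -5, -3, 3, -1, -1, 1, 3, -1, -3, -1, -1, -1, 1, -3, -1, -1, -1, 1, -1, 1], [0, -2, 0, 0, 2, 0, 0,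 2, 4, 0, 0, 0, -2, 0, 4, 0, 0, 0, -2, 2, 4, 4, -2, 2], [-2, -6, -2, 0, 0, -4, -4, 10, -2, 0, -4, 6, 0, 0, 2, 2, 0, 2, 0, -6, 2, -4, -4, -2], [-1, 1, -1, 1, -5, 1, 3, -1, -1, 3, -3, 1, 1, 3, -3, -3, 1, -3, -1, -1, -1, -1, 1, 5], [4, -2, -2, 2, 4, -2, -4, -2, 0, 0, 0, -2, 0, -2, -2, 0, 4, 0, -4, -2, -2, -2, 0, -2], [-2, 2, 0, -2, 0, 4, 2, 0, 0, -2, 0, 0, 2, 0, 0, 0, -2, 2, 2, -4, -2, 2, 2, -4], [3, -1, 9, -1, -3, 1, -1, -1, 3, 1, 3, -1, -1, 1, 3, -3, -1, -3, 3, -1, -1, -1, 3, 9], [4, 0, 0, 2, 0, 0, 0, 2, -2, 0, 2, -4, -2, 0, -4, 2, 0, 0, -2, 2, 2, -2, -2, 2]],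
  [[-1, 1, -1, -1, 1, -1, 1, -1, 1, -1, -1, 1, -1, -1, -1, -1, -1, -1, -1, -1, -1, 1, 1, -3], [-1, -1, 1, -1, -1, -1, 1, -1, -1, -1, 1, -1, -1, 1, -1, 1, 1, -1, -1, 1, -1, -1, -1, -3], [-1, -1, 1, -1, -1, -1, -1, 1, -1, -1, 1, -1, 1, 1, -1, 1, 1, 1, -1, 1, 1, 1, -3, -1], [1, 1, 1, -1, 1, 1, -1, 1, 1, 1, -1, -1, 1, 1, 1, -1, 1, 1, 1, 1, -1, 1, -1, 3], [-1, 1, -1, -1, 1, -1, 1, 1, 1, 1, -1, -1, 1, -3, -1, -1, -1, 1, 1, -1, -1, 1, 1, -1], [1, -1, 3, -1, 1, -1, 1, 1, -1, -1, 1, -1, -1, 1, -1, 1, 1, 1, 1, 1, 1, -1, -1, -1], [-2, 2, 0, 0, 2, 0, 2, 0, 0, 0, -2, 0, 0, 0, 0, -2, 0, 0, 0, -2, 0, 0, 2, 0], [-1, -1, 1, -1, -1, -1, 1, -1, -1, -1, 1, -1, 3, 1, -1, 1, 1, -1, -1, 1, -1, -1, -1, 1], [0, 0, -2, 2, 0, -2, 0, 0, -2,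 0, 0, 0, 0, 0, -2, 0, -2, 0, 0, 0, 2, -2, 0, 0], [0, 0, 2, 0, 0, 0, 0, 0, 0, -2, -2, 0, 0, 2, 0, 0, 0, -2, -2, 2, 2, 0, 0, 0], [0, 0, 0, 0, 0, 0, 0, 0, 0, 0, 0, 0, 0, 0, 0, 0, 0, 0, 0, 0, 0, -4, 4, 0], [2, 0, -2, 0, -2, -2, 0, 2, 0, 0, 2, 0, 2, -2, 0, 2, -2, 0, 0, 0, 2, 0, 0, -2], [-1, -3, -3, -1, -3, -1, -1, 1, -1, -3, 1, 1, 1, -1, -1, 1, -3, 3, -1, -1, 5, 1, -1, -1], [4, 0, 2, 0, 2, -2, 0, 0, 0, -2, 0, 2, -4, 4, 0, 0, 2, 0, 0, 0, 4, 2, 2, 0], [2, 2, 4, 2, 2, -2, 2, 0, 0, 0, 0, 0, -4, 0, 0, 0, 2, 0, 4, 0, 0, -2, 4, 0], [-2, 0, -2, 2, 0, 0, 4, -2, -2, 0, 0, 0, 0, -2, 0, -2, 0, -2, 2, 2, -2, 0, -2, 0], [0, -2, -2, -2, 2, 0, 0, 0, 0, -2, 2, 0, -2, 0, 2, 2, 0, 2, 0, 0, 0, 6, -4, -2], [-2, 2, 2, 0, -2, 0, 4, 0, 0, 0,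 4, 0, 4, -2, 4, 0, -2, 0, 0, 0, 0, 0, 2, 2], [2, -2, 2, 4, -6, 4, -2, -2, 0, 2, -2, 6, -4, -4, 4, 0, -4, -6, 0, -2, -2, 0, 8, -4], [2, -2, -4, 0, 2, 0, 0, -4, -2, -2, 0, 4, -2, -2, -2, 0, 2, 2, 0, 0, 2, 4, -2, 4], [-1, -1, 3, -1, -1, -3, 1, 1, -1, 1, -3, -1, -1, -3, -3, 1, -1, -3, 5, 5, -1, -1, -1, -3], [0, 0, -2, 2, 0, 0, -2, 2, 0, -2, 0, -2, -2, 2, -2, 0, 0, 4, 0, -4, 2, -4, 2, -2], [1, -1, -1, 3, 3, 3, 1, 3, -3, 1, -5, -1, 5, 1, 5, -5, 1, 3, 1, 1, 3, 5, -3, 7], [1, -1, 3, -5, -1, -1, -3, 1, 1, 1, -1, 1, 3, -1, -1, 3, -1, -1, -1, 3, 1, 3, -1, 1]],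
  [[-1, 1, -1, -1, -1, -1, -1, 1, -1, -1, -1, 1, -1, -1, -1, 1, -1, -1, 1, -1, 1, 1, -1, -3], [0, -2, 0, 0, 0, 0, -2, 0, 0, -2, -2, -2, 0, 0, 0, 0, 0, 0, -2, -2, 0, 0, 0, -2], [1, -1, 1, -1, 1, 1, -1, -1, 1, -1, -1, -1, 1, -1, -1, -1, 1, 1, -1, -1, -1, -1, 3, -1], [-1, 1, 1, -1, 1, -1, 1, -1, 1, 1, -1, 1, 1, 1, 1, 1, 1, 1, 1, 1, -1, -1, 1, 3], [-1, 1, -1, -1, 1, 1, 1, -1, -1, 1, -1, 1, -1, -1, -1, 1, -1, -1, 3, -1, 1, -1, -1, -1], [1, -3, 1, -1, -1, 1, -1, -1, 1, -1, -1, -1, 1, -1, 1, 1, 1, -1, -1, -1, 1, -1, 1, 1], [1, 1, 1, -1, -1, -1, 1, 1, -1, 1, -1, 1, -1, 1, 1, 1, -1, -1, 3, -1, 1, 1, -1, -1], [1, -1, 1, 1, 1, 1, -1, 1, 1, -1, -3, -1, -1, 1, -1, -1, -1, 1, -1, -1, -1, -1, 1, 1], [2, -2, 0, 0, 0, 2, 0, 0, 0,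 0, 2, 0, -2, 0, 0, 0, -2, 0, 0, 2, 0, 0, 0, -2], [2, 0, 0, 0, -2, -2, -2, 0, 2, -2, 0, 0, 0, 2, 0, 0, 0, 0, 0, 0, 0, 0, 2, 0], [0, -2, 0, 2, -2, 0, 2, 0, 0, 0, 0, 0, -2, 2, 0, 0, 0, 0, 0, 0, 2, 0, -2, 0], [0, 0, -2, 0, 0, 4, 0, -2, 0, -2, 2, 0, -2, -2, -2, -2, 0, 0, 0, 0, 0, 0, 0, 0], [1, 1, 1, 1, -1, 3, 1, -1, -1, -1, 3, -1, -1, -3, -3, -3, -1, -1, -1, 1, 1, -1, 5, -3], [2, -2, 0, -2, -4, -2, 0, 2, 0, -4, 2, 0, 2, -2, 2, 2, 2, 0, 0, 2, 2, 2, 2, 2], [1, -5, -1, -1, -1, -1, 1, 1, -1, -1, 1, 1, 1, 1, 3, 3, 1, -3, 1, -1, 3, 1, -3, 3], [1, 1, -1, 1, 3, 1, -1, 1, -1, 1, -1, -1, -1, 1, 1, 3, -3, -3, -1, -1, -3, 1, -1, -1], [-3, 3, 1, -3, 1, 1, -1, 1, 1, -1, 1, -3, 3, -5, -1, 1, 1, -1, -1, -1, -1, 1, 3, -1], [1, 3, 1,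 3, 3, 3, 1, 1, 1, -1, -1, 1, -3, 1, 1, -3, 1, -3, 1, -3, 1, 1, -1, 3], [-2, 2, -10, 6, -4, -4, 0, 2, -2, 0, 4, 2, 2, 2, 2, -6, 0, -4, -2, 0, 2, 2, -6, -2], [1, 1, 1, 1, 1, -1, 1, 3, -1, 1, 1, -1, 3, -5, -3, 3, -3, -1, -1, 5, -1, 3, 3, 1], [-1, -5, -5, 1, 1, 1, -3, -3, 1, -1, -1, 1, 1, 1, 1, 3, -3, -3, 1, -3, -1, -3, 1, -1], [1, -3, 3, -3, -3, 1, 3, -1, -3, 1, 3, -1, -1, 1, -1, -1, 1, 1, -1, 1, 3, -1, -1, -3], [5, 7, 1, -3, 1, -1, 5, -1, 3, 5, 1, -1, 1, 1, 3, 1, -1, -1, 3, 3, -5, -1, 5, 5], [-2, 0, -2, 2, 0, 0, -2, -2, 4, -2, -2, 2, 2, -2, -2, -2, 0, 2, 2, 0, 0, -2, 4, 2]],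
  [[0, 0, 0, 0, -2, 0, 0, 0, 0, 0, -2, -2, 0, 0, -2, 0, -2, 0, 0, -2, 0, 0, -2, -2], [-1, -1, -1, -1, -1, 1, 1, -1, -1, -1, -1, 1, -1, -1, -1, -1, 1, -1, -1, 1, 1, 1, -1, -3], [0, -2, 0, 0, 0, 0, 0, 0, -2, -2, 0, 0, -2, 0, 0, 0, 2, -2, -2, 2, 0, 0, 0, 0], [1, 1, 1, 1, 1, -1, 1, 1, -1, -1, 1, 1, 1, 1, 1, -1, 1, 1, 1, 1, -1, -1, -1, 3], [1, 1, 1, 1, -1, -1, 1, 1, -1, 1, 1, -1, -1, 1, -1, 1, -1, -1, 1, -3, -1, -1, -1, -1], [1, -1, -1, -1, 1, 1, 1, 1, -1, 1, 1, 1, -1, 1, -1, -1, 1, -1, -1, 3, 1, 1, -1, -1], [1, 1, -1, -1, -1, 1, 1, 1, 1, 1, -1, -1, 1, 1, -1, -1, -1, -1, 1, -3, -1, -1, -1, 1], [-2, 0, 0, 0, 0, 2, 2, 0, 0, -2, 0, 2, -2, 0, 0, 0, 2, 0, -2, 0, 0, 0, 0, 0], [1, 1, -1, -1, 1, 1, -1, -1, 1, 1, 1, -1, -1, -1,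 1, 1, -1, -1, -3, -1, 1, -1, 1, -1], [-1, -1, -1, -1, 1, 3, -1, -1, -1, -1, -1, -1, 1, 1, -1, -1, 1, 1, -1, 1, 1, -1, -1, 1], [-1, 1, -3, -1, 1, 1, 1, 1, 1, 1, 1, 1, 1, -1, -1, 1, -1, 1, 1, -1, 1, -1, 1, -1], [0, 0, 0, 2, 0, 0, -2, 0, 0, 0, 2, -2, -4, 0, 0, 2, 0, 0, 0, 0, 2, 0, 2, -2], [-1, -3, 1, 1, 1, -1, -3, 1, 1, 1, -1, -3, -3, -1, -1, 3, 1, -3, -3, 1, 1, -3, 3, -1], [2, -2, 0, -2, 2, 2, -2, 2, 2, 0, 0, -2, 2, 0, -2, -2, -2, 0, 0, 4, 4, 2, -2, 2], [2, 2, -2, -2, 2, 2, 0, 2, 0, 4, 2, 2, 2, 0, -2, -2, -2, 0, 2, 0, 2, 4, -2, 0], [-1, 1, 1, 1, -1, 1, 1, -3, 1, 3, -1, 1, -1, -1, 3, -1, 1, -1, -1, -3, -1, 1, -3, -1], [2, -4, 4, 2, -4, -2, -2, 0, 0, 0, -2, 0, -2, 0, 0, 0, 0, -2, 0, 4, 0, 0, -2, 0], [-3, 1, -1, 3, -3,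 1, 1, 1, 1, 3, 1, 1, -3, 1, -1, -1, 3, 1, 1, -3, 1, 1, 3, 3], [-6, -2, 0, 0, 2, 0, -4, -4, 0, 4, -2, -2, 4, -2, -2, -2, -6, 6, 6, -4, 0, 4, 6, -4], [-1, -1, 5, 1, 1, -1, -1, -1, 5, 1, -1, -1, 1, -1, 1, 3, -3, -3, -3, 3, -1, 1, -3, 3], [-1, 1, 1, 1, 3, 3, 1, -1, -7, 3, 1, 1, -1, 1, 1, -1, -1, -1, -1, -1, 1, 1, -3, -5], [4, 0, -4, -4, 2, -2, -2, 2, 2, 0, 0, 0, 0, -2, -2, 2, 0, -2, 0, 0, 0, -2, 2, -2], [3, -3, 3, 3, 3, 1, -1, -1, 3, 1, 3, -1, 1, 3, 5, -3, 3, -1, 1, -1, -5, -5, -1, 9], [-3, -1, 3, 3, 1, 1, 1, 1, -5, -3, 1, -1, -1, 3, -1, 1, -1, 1, -1, 3, 1, -1, 1, 1]],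
  [[0, 0, 0, -2, 0, 0, 0, -2, 0, 0, -2, 0, -2, -2, 0, 0, -2, 0, 0, 0, 0, 0, -2, -2], [-1, 1, -1, -1, -1, -1, 1, -1, -1, -1, -1, -1, 1, 1, -1, -1, 1, -1, 1, -1, -1, 1, -1, -3], [0, 2, 0, 0, 0, 0, 0, 0, 0, -2, 2, 0, 0, 2, -2, 0, 2, -2, 0, 0, 0, 0, 0, -2], [2, 2, 0, 0, 0, 0, 0, 2, 0, 0, 2, 2, 0, 0, 0, 0, 0, 2, 0, 0, 0, 0, 2, 2], [1, 1, 1, 1, 1, -1, -1, -1, 1, 1, -1, 1, -3, -1, 1, -1, -1, 1, -1, 1, -1, -1, -1, -1], [1, 1, -1, 1, -1, 1, 1, -1, 1, -1, -1, 1, 1, 1, -1, -1, 3, -1, 1, -1, -1, 1, 1, -1], [1, 1, -1, -1, 1, 1, -1, -1, -1, 1, -3, 1, -1, -1, 1, 1, -1, 1, -1, 1, -1, -1, -1, 1], [-2, 2, 0, 0, 0, -2, 0, 0, -2, 0, 0, 0, 0, 2, -2, 0, 2, 0, 2, 0, 0, 0, 0, 0], [0, -2, 0, 2, 2, 0, -2, 0, 0, 0, -2, -2, 0, 0, -2, 0, 0,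 -2, 0, 0, 0, 0, 0, 0], [0, 0, 0, -2, 0, 2, 0, 0, -2, 0, 0, 2, 2, 0, -2, 0, 0, -2, 2, 0, 0, 0, 0, 0], [-2, -2, -2, 0, 0, 0, 0, 0, 0, 2, -2, 0, 0, 0, 0, -2, 0, 0, 0, 0, -2, 0, 0, 2], [-1, -3, 3, 1, 1, -1, -1, -1, 3, -1, 1, -1, -1, 1, -1, -1, 1, -1, 1, 1, -1, -1, -1, -1], [-1, -3, 1, 1, 1, 1, -3, -3, 1, -1, 3, -1, -3, 3, -1, 1, 1, -5, -1, -1, 1, -1, -1, -1], [4, -2, -2, -2, -2, 4, 2, -2, 2, 0, 0, 0, 2, -2, -2, 2, 2, -2, 2, 0, 0, 2, 0, 2], [3, -1, -3, 1, -1, 1, 3, -1, 3, 3, -5, 1, 3, -1, 1, -1, 1, 1, 1, 1, -1, 1, 1, 1], [1, 1, 1, 3, 1, -3, 1, -1, -3, -1, -3, -1, 1, 1, 1, 1, -3, 1, 1, -1, 1, -1, -1, -1], [3, 1, 3, -1, -1, 1, 3, -1, 1, -3, 3, -1, -3, 1, 1, 3, 1, -1, -1, -3, 1, 1, -1, -3], [-3, 1, 3, -1, 3, -3, 1, -3,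 1, 1, -1, 1, 1, 3, 3, 1, 1, 1, 1, 1, -1, -3, 1, 3], [-5, -7, 1, -3, -5, 1, 1, -1, 1, 5, -1, -3, 5, -5, 7, -3, -5, -1, 1, 1, 3, -5, -1, -1], [3, -1, 1, 3, -3, -1, 1, -1, -1, -1, 1, -1, -3, -1, -1, 5, -1, -3, -1, -1, 5, 3, -1, 3], [3, 1, 1, 3, -1, -1, 1, -1, -1, 1, -3, 1, 1, 1, -1, -7, -1, -1, 3, 1, 1, -1, 1, -5], [-1, -3, -5, 1, 1, 3, -3, 1, 3, 1, -1, -1, -1, 1, -1, 1, 1, -1, -3, -1, -3, 1, -1, -1], [6, 2, 2, 4, 2, 2, -2, 4, -4, -2, 4, 4, 0, 0, 2, 6, 0, 0, 0, 0, 0, -6, 2, 6], [0, 2, 4, -2, -2, 0, 0, 0, 0, 0, 4, 2, -2, 0, -2, -4, 2, -2, 2, 2, 2, 0, 2, 0]],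
  [[-2, 0, -2, 0, 0, 0, 0, -2, -2, 0, -2, 0, 0, 0, -2, 0, -2, 0, 0, 0, 0, 0, 0, -2], [-1, -1, -1, -1, -1, -1, -1, -1, -1, -1, 3, -1, -1, -1, -1, -1, -1, -1, -1, -1, -1, -1, -1, -1], [1, 1, 1, 1, -1, -1, -1, -1, 1, -1, 3, -1, -1, -1, -1, 1, 1, -1, -1, 1, -1, -1, -1, -1], [1, 1, 1, 1, 1, 1, 1, 1, 1, 1, 1, 1, -3, 1, 1, 1, 1, 1, 1, 1, 1, 1, 1, 1], [-2, 2, 0, 2, 0, 0, 2, 0, -2, 0, -2, 0, 0, 2, 0, 0, 0, 0, 0, 0, 0, 0, 0, -2], [1, 1, 1, -1, -1, -1, 1, 1, -1, -1, 3, -1, -1, -1, -1, -1, -1, -1, -1, 1, -1, 1, -1, 1], [0, 0, 0, 0, 0, 0, 2, -2, -2, 2, -2, 0, 0, 2, 0, 0, -2, 0, 2, 0, 0, 0, 0, 0], [-1, -1, 1, 1, -1, -1, -1, -1, 1, -1, 3, -1, -1, 1, -1, -1, 1, 1, 1, -1, -1, -1, -1, 1], [1, -1, 1, 1, -1, 1, 1, 1, 1, -1, -1, -1,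 3, -1, -1, -1, -1, -1, 1, -1, -1, -1, -1, -1], [1, -1, 1, -1, 1, -1, -1, -1, 1, 1, 1, 1, -1, -1, -3, -1, -1, -1, 1, 1, 1, -1, -1, 1], [0, -2, 0, -2, 0, 0, 0, 2, -2, 0, 0, 0, 2, 2, 0, -2, 0, 0, 2, 0, 0, 0, 0, 0], [-1, 1, 1, 1, -1, 1, -1, 1, 1, -3, -1, -1, 3, 1, -1, -1, 1, -1, -3, 1, 1, -1, -1, -1], [1, 3, 1, 1, -1, -1, -3, -1, 3, -1, -1, -1, 5, -1, -1, -1, 1, -1, -1, 3, -3, -1, -1, -3], [3, 1, 1, -3, -1, 1, -1, 1, -1, 1, 1, 1, 1, -3, -3, 1, -5, 1, -1, 3, 1, 1, 1, 3], [0, 0, 0, -4, 0, 0, 4, 4, -4, 0, 0, 0, 0, 0, 0, 0, -4, 0, 0, 0, 0, 0, 0, 4], [-3, -1, -1, 3, 1, -1, 1, -1, 1, -1, -1, -1, -1, -1, 3, -1, -3, -1, 1, -3, -1, -1, -1, 1], [1, 3, -3, 3, -1, -1, -1, -3, 1, -1, 1, 1, -1, -3, 1, 1, -1, 1, -5, 3, -1, 1, 1, -1],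 [-1, 1, -1, 1, 1, -1, -1, -1, 1, -1, -1, -1, 1, 7, 1, -1, 1, -1, -1, -1, -1, -1, -1, 5], [-4, -4, -4, -8, 4, -4, -4, 4, 0, 4, -8, 0, 4, 0, 0, 0, 0, 0, -4, -4, 4, 0, 0, 0], [-1, 1, 1, 3, -1, -1, -1, -1, 3, -1, -1, 3, 3, -5, 1, 3, -3, 3, 1, 1, -3, 3, 3, 1], [-4, 2, 0, 0, 2, -4, 4, 4, 0, -2, 2, -2, -2, -2, -2, -2, -2, -2, 0, -2, 2, -2, -2, -2], [3, -1, 1, -3, -3, 3, 1, 1, -3, 1, -1, -1, 3, -1, 1, -1, 1, -1, 1, 3, -3, -1, -1, -3], [5, 1, 7, 7, 3, -1, 1, -1, 5, 5, -3, 1, -3, 1, 5, 1, -1, 1, 1, 3, 1, 1, 1, 3], [-1, 3, 1, 1, 1, -3, -1, 1, 3, -1, 3, 1, -1, 1, -5, 1, 3, 1, -1, 1, 3, 1, 1, -1]]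
]

/-- tables of the elements -/
def threeC5 : List (List ℕ) := [
  [10996018, 15536906, 7727895, 10024986, 394, 4905249, 4327890, 227445, 10687908, 15714431, 12674961, 13386479, 14063556, 10972356, 5354965, 5010599, 4589969, 2389524, 925547, 8802998, 3113775, 16257134, 6774331, 15607022],
  [11922854, 13093097, 6873695, 2748456, 9178281, 15540876, 13091355, 3951161, 2359857, 16717010, 5613259, 7859793, 9307731, 4977335, 10969896, 6146505, 7163700, 4854016, 10216878, 9497231, 13699636, 15525559, 16157611, 4150651],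
  [15045050, 16568325, 220178, 2689350, 6213674, 4362344, 14408193, 10149893, 2428226, 15353297, 2762735, 12257083, 1118696, 3830282, 13184640, 10991816, 6272629, 8433665, 10299019, 11970566, 13526435, 4947538, 1525670, 14748290],
  [1393419, 4255412, 13034025, 11637869, 11569242, 11310520, 2929419, 9855758, 13947075, 4087795, 1192562, 6980051, 5722280, 13772627, 9662211, 15050632, 6345308, 12916029, 14360056, 6625438, 8752766, 1123430, 14585692, 397691],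
  [596431, 7061389, 15657303, 15045050, 13763550, 10678041, 34446, 1648983, 7731317, 5664423, 6066581, 14284358, 14824823, 5664931, 13705361, 16349525, 9680037, 12107445, 8326672, 16049369, 57132, 3376098, 15472494, 15332177],
  [8740344, 1609385, 11824108, 11682049, 1670790, 3246063, 2611445, 8149934, 3140227, 12333811, 4563997, 13309685, 8138748, 2452142, 16260450, 13194865, 1757280, 1922578, 10478398, 1683767, 10730422, 16013451, 3695261, 9375728],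
  [3240011, 6403107, 6046507, 7460931, 6662907, 3153823, 12403249, 2893433, 8563974, 945592, 14527714, 12393348, 13401896, 6746634, 8555926, 98609, 2360407, 7856428, 1911982, 9025460, 4423405, 6272145, 8344684, 7207760],
  [15183117, 1243347, 1202521, 6961009, 2647992, 5491187, 882940, 9742547, 12018249, 9469014, 10153984, 6531385, 12382912, 14937046, 7745780, 8811266, 15809635, 4272174, 840257, 3044913, 916884, 9071150, 11720342, 13502501],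
  [4255412, 14480225, 16003705, 8345859, 6249307, 12915293, 6576698, 2403128, 12593181, 4052724, 15319223, 7937374, 6541470, 1874180, 16160362, 16704859, 5284995, 3968043, 3169471, 14392546, 13835347, 10479200, 8596708, 3781236],
  [2770881, 7245689, 11519505, 13043287, 507336, 10138127, 862169, 12716924, 10772009, 13991971, 11657234, 12126064, 9984026, 1829974, 8312469, 13257855, 2087048, 12813342, 7669701, 13633069, 14484846, 5997560, 14144576, 11914676],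
  [424257, 9212037, 13126744, 8013551, 13826450, 642429, 10204035, 9388628, 227156, 12013050, 10845266, 3426412, 1680358, 2663334, 606178, 5765797, 7001681, 1263714, 809329, 10979569, 10339176, 3356088, 4429035, 10772366],
  [9296715, 8433665, 9978381, 8257537, 1710814, 4133255, 11104197, 1651209, 7738304, 9896413, 2421518, 8447808, 14385304, 4141746, 7663616, 4592306, 13378801, 5026341, 5042176, 15982607, 7312321, 8824743, 15241587, 2670280]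
]

/-- images of the basis -/
def threeW6 : List (List (List ℤ)) := [
  [[1, -1, -1, -1, -1, -1, 1, 1, 1, 1, -1, 1, -1, -1, -1, -1, -1, -1, -1, -1, 1, -1, -1, -3], [-1, -1, -1, -1, -1, -1, -1, 1, -1, -1, 1, -1, -1, -1, -1, -1, 1, 1, 1, 1, -1, 1, -1, -3], [-1, -1, -1, -1, 1, 1, -1, -1, -1, -1, -1, -1, 1, -1, 1, -1, 1, 3, 1, 1, -1, 1, -1, -1], [0, 0, 2, 0, 2, 2, 0, 0, 2, 0, 0, 0, 0, 0, 2, 0, 0, 0, 2, 0, 0, 0, 2, 2], [2, 0, 0, 0, 0, 0, 2, 0, 0, 2, -2, 0, 0, 0, 0, 0, -2, 0, 0, 0, 0, -2, 2, -2], [0, 0, 0, -2, 0, 0, -2, 0, -2, 0, 2, 0, 0, 0, 0, -2, 0, 2, 2, 2, 0, 0, 0, 0], [2, 0, 0, -2, 0, 0, 2, 0, 2, 2, 0, 0, 0, 0, -2, 0, -2, -2, 0, 0, 0, 0, 0, 0], [-1, -1, -1, -1, 1, 1, 1, 1, -1, -1, 1, -1, 1, -1, -1, 1, 3, 1, 1, 1,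 -1, 1, 1, -1], [-1, 1, -1, -1, -1, -1, 1, -1, -3, -1, -1, -1, 1, -1, -1, 1, -1, -1, -1, 1, 1, -1, -1, 1], [-1, -1, 1, -3, 1, -1, -1, 1, 1, -1, 1, -1, 1, -1, -1, -1, 1, 1, -1, -1, 1, 1, -1, 1], [0, 2, 0, 0, 0, -2, 0, 0, 0, 0, 2, 0, 0, 0, -2, 0, 0, -2, -2, 2, 0, 0, 2, 0], [0, 2, 0, 2, 0, 0, 0, 0, -4, 0, -2, 0, 2, 0, 0, 0, 0, 2, -2, 0, 2, 0, 0, -2], [-1, 1, -3, 1, 1, -1, 1, -3, -3, -1, -1, 1, 5, -1, 1, -1, -1, 3, -3, -1, -1, -1, -3, -1], [0, 2, 0, -2, 0, 0, -4, 2, 0, 2, 2, 2, 0, -2, 0, -4, 0, 0, 0, 0, 2, 0, -4, 4], [1, 1, 1, -1, -1, -1, -3, 3, -1, 3, 3, 1, -3, 1, -3, -1, -3, -1, 1, 3, 1, -1, 1, 3], [-1, -3, -1, 1, -1, -1, 3, 1, -1, 1, 1, -3, -1, 1, -1, 3, -1, -1, 3, -1, 1, -1, -1, -1], [0, -2, 0, 2, -2, 2, 0, -2, 0,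 2, 0, 2, 0, -2, 4, -2, 0, 4, 2, -2, 0, 0, -4, -2], [1, 1, 1, 3, 1, 1, 3, 1, 1, 1, 1, 1, 3, 3, -5, 3, 1, 3, 1, 1, 1, 1, 1, -1], [1, 1, 3, 5, -1, -5, -3, 3, 1, -1, 1, 1, -5, 7, -5, 1, 1, -3, -9, -5, -1, -3, -3, -1], [1, -3, -5, 3, -1, 1, 1, -1, -1, 1, 1, 1, 1, -3, 3, -1, 1, -1, 1, -3, 1, -3, -3, 5], [-2, -4, 2, -2, 0, -2, 0, 4, -4, 0, 0, -4, -2, 2, 0, -2, -2, 2, 0, 2, 0, -4, 2, -2], [0, 4, -2, -2, 0, -2, -2, -4, -2, 0, 0, 2, 0, -2, 0, 0, -4, -2, -2, 2, -2, 2, 0, 0], [1, 1, 3, -1, 5, 5, 3, -5, 3, 3, 1, -5, 3, 1, 3, 3, -1, 1, 3, -5, 1, -1, -1, 7], [0, -2, 2, 0, 2, 2, 0, 2, 0, -2, -2, 0, 2, 0, 2, -4, 4, 4, -2, 0, 0, -2, 2, 0]],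
  [[0, 0, 0, 0, 0, 0, 0, -2, -2, 0, 0, -2, -2, 0, -2, -2, 0, 0, 0, 0, 0, 0, -2, -2], [0, -2, 0, -2, 0, 0, -2, 0, 0, 0, 0, 0, 0, 0, 0, 0, -2, -2, 0, -2, 0, 0, -2, -2], [-1, 1, 1, -1, -1, -1, -1, 1, 1, 1, -1, 1, 1, -1, 1, 1, -1, -3, 1, -1, -1, 1, -1, -1], [2, 2, 0, 2, 0, 0, 0, 0, 0, 0, 0, 0, 2, 0, 0, 2, 0, 0, 0, 0, 0, 2, 2, 2], [0, 2, -2, 2, 0, 0, 0, 0, 0, 0, 0, -2, -2, 0, -2, -2, 0, 0, 0, 0, -2, 0, 0, 0], [0, -2, 0, 0, 0, 0, -2, 2, 0, 2, 0, 2, 0, 0, 0, 0, -2, -2, 0, 0, 0, 2, 0, 0], [0, 0, 0, 2, 2, 0, 0, -2, 0, 0, 0, -2, -2, 2, -2, 0, 0, 0, 0, 2, 0, 0, 0, 0], [1, -1, 1, -1, -1, 1, -1, 1, 1, -1, -1, -1, 1, 1, 1, 1, -1, -3, 1, -1, -1, -1, -1, 1], [-1, -1, -1, -1, 1, 1, 1, 1, 1, -1, -1, 1, -1, -1, 1, -1, 1, -1, -1, 3,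 -1, -1, -1, -1], [0, -2, 2, 0, 0, 0, 0, -2, 0, 0, -2, 0, 0, 0, 2, 0, 0, -2, 0, 0, 2, 2, 0, 0], [0, -2, 0, 0, 2, 2, 0, 0, 0, 0, 0, 0, 0, 2, 0, -2, 0, 0, -2, 0, 0, -2, 2, 0], [-3, 1, -1, -1, -1, -1, 1, 3, -1, -1, -1, 1, -1, -1, 1, -3, 1, -1, -1, -1, -1, -1, -1, 1], [-3, 1, 3, -1, -1, -3, 3, 3, 1, 1, -1, 1, -1, -1, 3, -3, 1, -1, 1, 1, -3, -1, -1, -3], [-1, -3, 3, 1, 1, -1, -1, -1, -3, 3, 3, 3, 1, -1, 1, -1, 1, -1, -1, 3, 3, 3, -1, 1], [0, -4, -2, 2, 2, 2, -4, 0, 0, 2, 2, 2, 0, 2, -2, -2, 0, 2, -2, 2, 2, 2, 0, 2], [1, -1, -3, -1, -1, 1, 1, 1, 3, -3, 1, -3, -1, 1, -1, 1, -1, 1, 1, 1, 1, 1, -3, -1], [0, 2, 0, 0, -2, -4, 2, 2, -2, 4, 2, 0, 0, -2, 0, 2, 0, 0, 2, -2, 0, 2, -4, -2], [-1, 1, -1, -1, -1, -1, 1, 1, 1, -1, -1,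 -1, -1, 7, 1, -1, -1, 1, 1, -1, -1, -1, -1, 5], [-4, -6, -2, -4, -2, -2, 0, -6, -2, -2, 0, -2, 0, 0, 0, -6, 2, 10, 0, -2, 4, -4, 4, 0], [1, -1, 3, 1, -3, 1, 5, 1, 1, 1, 5, 1, 1, -3, -1, 1, 3, 1, 3, 3, -1, 1, -3, -1], [1, -3, -5, 1, -1, 1, -3, 1, 3, -1, -3, -1, 1, -3, -1, -5, -3, -1, 1, -1, 1, 3, -1, -1], [-2, 0, 2, 0, 4, 0, -2, 2, 0, 2, 0, 2, -2, 0, 0, 0, 2, 0, -4, 2, -2, -2, 2, -4], [-1, 3, -1, 5, -1, -3, 5, 1, 3, -1, 1, -3, 1, 1, 3, 7, 3, -1, 3, 5, 1, 5, 5, 3], [1, 1, 1, 1, -3, -1, 1, -1, -1, 1, -3, 1, 3, -3, 1, -3, -1, -3, 3, -3, -1, 1, 1, 3]],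
  [[1, 1, 1, 1, -1, 1, -1, -1, -1, -1, -1, -1, -1, -1, 1, -1, -1, 1, -1, -1, -1, -1, -1, -3], [-1, 1, -1, -1, 1, -1, -1, -1, -1, -1, 1, 1, 1, 1, -1, 1, -1, -1, -1, -1, -1, -1, -1, -3], [-1, -1, -1, -1, 1, -1, -1, 1, -1, -1, 1, 3, 1, 1, -1, -1, -1, -1, 1, -1, 1, 1, -1, -1], [1, -3, 1, 1, 1, 1, 1, 1, 1, 1, 1, 1, 1, 1, 1, 1, 1, 1, 1, 1, 1, 1, 1, 1], [3, -1, 1, -1, -1, 1, -1, 1, -1, 1, -1, -1, -1, -1, 1, -1, 1, 1, 1, -1, -1, -1, -1, -1], [0, 0, -2, 0, 0, 0, 0, 0, -2, 0, 0, 2, 2, 2, 0, 2, 0, -2, 0, -2, 0, 0, 0, 0], [1, 1, 1, 1, -1, 1, 1, 1, -1, 1, -1, -1, 1, -1, 3, -1, 1, 1, -1, 1, -1, -1, -1, -1], [-1, 1, -1, -1, 1, -1, -1, 1, -1, -1, 3, 1, 1, 1, -1, 1, 1, 1, 1, 1, -1, 1, -1, -1], [1, 1, -3, -1, -1, -1, 1, 1, -1, -1,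 -1, -1, -1, -1, -1, -1, -1, -1, -1, 1, -1, 1, -1, 1], [-1, 1, -1, 1, -1, -1, 1, -1, -1, -1, 1, 3, 1, -1, 1, 1, -1, 1, -1, 1, 1, 1, 1, -1], [0, 2, 0, 0, -2, -2, 2, 0, 0, 2, 0, -2, 0, 0, 0, 2, 0, 0, 0, 0, -2, 0, 0, 0], [1, 1, -1, -3, -1, -1, -1, 1, -1, -1, -1, -1, -1, -1, -3, -1, -1, 1, 1, -3, 1, 1, 1, 1], [-1, 1, -1, -1, -3, -1, -1, 1, -1, -1, 1, 1, -1, -3, -3, -5, -1, -3, 1, -3, 1, 3, -1, 1], [-1, 1, -1, 3, -1, 1, 3, -3, -1, -3, -1, 1, 3, 1, 3, 1, -3, -1, -1, -3, 1, 1, 1, 3], [1, 1, -1, 1, -1, 1, 1, -1, -1, 1, -3, -1, 3, 1, 3, 5, -1, -1, -1, -1, -3, -3, 1, 3], [1, 1, -1, -3, 1, 3, -3, 1, 1, -1, 1, -1, -1, -1, 1, 1, 1, -1, -3, 3, -1, -1, -1, -1], [0, -2, 2, 0, 2, 2, -4, -2, 0, -2, 0, 2, 0, 2, 0, -4, 0, -2, -2, -4,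 2, 2, 0, 0], [0, 4, 4, -2, 0, 0, -2, 4, 0, 0, 0, 0, 2, -2, -2, 2, 4, 2, 0, 0, 0, 0, 0, 2], [-6, 4, 2, 0, -2, 0, 0, -8, 4, 2, -6, -4, -4, -8, -2, 4, 0, 2, 0, 0, 0, -4, 2, 0], [0, 0, -2, 2, -2, 4, -2, -2, 4, -4, 2, 0, -2, 2, 2, -4, 0, -2, 0, 0, 0, 2, -2, 4], [3, -1, -5, -3, 1, 1, -3, -1, -1, 1, -1, 3, -1, -3, 1, 5, -1, -1, 1, -1, -3, -1, 1, -3], [-1, -1, -1, 1, -3, -3, 3, 1, -3, 3, -1, -3, 1, 1, -1, -3, -3, -3, -1, -1, -1, -1, -1, 1], [-1, -5, 1, -3, -1, 5, 3, 3, 1, 1, 1, 3, 1, -1, 5, -3, 5, 1, -1, 5, 5, 5, 1, 5], [1, -1, -1, 1, 1, -1, -1, -1, 1, -1, 1, 5, -1, -1, -1, 1, 1, 3, 5, -3, 1, 3, 1, -1]],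
  [[-2, 0, 0, 0, -2, 0, 0, 0, -2, 0, 0, -2, 0, -2, -2, 0, 0, -2, 0, 0, 0, 0, 0, -2], [0, 0, 0, 0, 0, 0, 0, -2, 0, -2, -2, 0, 0, 0, -2, 0, 0, 0, -2, 0, -2, 0, -2, -2], [-1, 1, 1, 1, 1, 1, -1, -1, 1, -1, -1, 1, -1, 1, -1, -1, -1, 3, -1, -1, -1, -1, -1, -1], [0, 2, 0, 2, 0, 0, 0, 0, 0, 0, 0, 2, 0, 2, 2, 0, 0, 0, 2, 0, 0, 0, 2, 2], [-3, 1, -1, -1, -1, -1, 1, 1, -1, 1, 1, 1, -1, -1, -1, 1, 1, -1, 1, -1, 1, -1, 1, -1], [1, 1, 1, 1, 1, -1, 1, -3, 1, -1, -1, 1, -1, -1, -1, -1, 1, 1, -1, -1, -1, -1, -1, 1], [-1, 1, -1, -1, -1, 1, 1, 1, -1, 1, 1, -1, 1, -1, -1, -1, 1, -3, 1, -1, -1, -1, 1, 1], [0, 0, 0, 0, 2, 2, 0, 0, 0, -2, -2, 2, 0, 2, -2, 0, 0, 0, -2, 0, 0, 0, 0, 0], [0, -2, 0, -2, 0, 0, 0, 2, 2, 0, 0, 0, -2, -2, 0, -2,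 0, 0, -2, 0, 0, 0, 0, 0], [0, 0, 0, 0, 0, 2, 0, -2, 0, -2, -2, -2, 0, 0, 0, -2, -2, 0, 0, 0, 0, 0, 0, 2], [2, 0, -2, -2, 2, 0, 2, 0, 0, 0, 0, 0, 0, -2, 0, 0, 0, -2, 0, 2, 0, 0, 0, 0], [-2, -2, 2, -2, 2, 0, 0, 0, 2, 0, 0, 0, -2, -2, 0, 2, 0, 2, 0, 0, 2, 0, 0, -2], [0, 0, 2, -2, 2, 0, -2, 2, 2, 0, 2, -2, -2, -2, -2, 0, -4, 4, -2, -2, 2, -2, 0, -2], [2, 0, 4, 2, 0, 0, 0, -4, 0, 2, 0, -2, 0, -4, 0, -2, -2, 0, 0, 0, -2, 2, 0, 4], [2, 0, -2, 0, 0, -2, 2, -4, 0, 2, 0, 0, 0, -4, 0, 0, 4, -2, 0, 0, -2, 2, 0, 4], [0, -2, -2, 0, -4, 0, 0, 2, 2, 0, -2, 0, 0, 2, -2, 2, 2, -2, -2, -2, 0, 0, 0, 0], [-1, 1, 5, 3, -3, -1, -3, -1, -1, 1, 1, -1, -1, 1, -1, 3, -1, 3, -1, -1, -1, -3, -1, -1], [-1, -1, -1, -1, 3, 3, 3, 1, 1, -1, 1, -1,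 3, 1, -1, 5, 3, 1, -1, -1, 1, -1, 3, 1], [2, -8, -6, -2, 0, -2, 0, -2, -4, 0, 2, -6, 6, -4, 4, 4, -2, -2, 2, 0, 4, 4, -4, -2], [4, 0, 4, 2, -4, 0, -2, 4, -2, 4, 0, 0, -2, 0, -2, 0, -2, 2, -2, -2, 2, 2, 0, 2], [-3, -1, -5, 1, -1, -3, 1, -3, 1, -3, -3, 1, -5, -1, -1, 1, 1, -1, -1, -3, 1, 1, -3, 1], [2, 2, 0, -4, 2, -2, -2, 0, 2, 2, 2, 0, 0, -4, 0, -4, 0, 0, 0, 2, -2, -2, 0, -2], [1, -1, 1, 1, -3, 3, -1, 3, 3, 3, 1, 3, 1, 5, 3, -1, -3, 1, 5, -5, 1, -5, 5, 7], [-3, 1, 1, 3, 3, 1, 1, -1, -3, -3, -1, 1, -3, 1, 1, 1, -3, 3, 1, -1, 3, 1, -1, 1]],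
  [[-2, 0, 0, 0, -2, 0, 0, 0, -2, 0, 0, -2, 0, -2, -2, 0, 0, -2, 0, 0, 0, 0, 0, -2], [1, 1, -1, -1, 1, -1, 1, -1, -1, 1, -1, -1, 1, -1, -1, -1, -1, 1, -1, -1, -1, -1, -1, -3], [2, 0, 0, 0, 2, 0, 0, -2, 0, 2, -2, 0, 0, 2, 0, 0, 0, 0, 0, -2, 0, 0, 0, -2], [1, -1, 1, 1, -1, 1, 1, -1, 1, 1, 1, 1, -1, 1, 1, 1, 1, 1, -1, -1, 1, 1, -1, 3], [0, -2, 0, 0, -2, 0, 0, 2, -2, 0, 0, -2, -2, 0, 0, 0, 0, -2, 0, 0, 2, 0, 0, 0], [3, 1, -1, -1, 1, 1, 1, -1, -1, 1, 1, -1, 1, 1, 1, 1, -1, 1, -1, -1, -1, -1, 1, -1], [-1, -1, 1, 1, -1, 1, 1, 1, -1, -1, 1, -3, -1, -1, -1, 1, -1, -1, 1, 1, -1, 1, -1, 1], [2, 2, 0, 0, 2, 0, 2, 0, 0, 0, -2, 0, 0, 0, 0, -2, 0, 0, 0, -2, 0, 0, -2, 0], [-1, 1, -1, -1, 1, -1, -1, 1, 1, -1, 1, -1, -1, 1, 1, -1,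 -1, -1, 3, -1, -1, -1, 1, -1], [0, 2, 2, 0, 2, 0, 0, -2, 0, 0, 0, 0, 0, -2, 0, 2, 0, 0, 0, -2, -2, 0, 0, 0], [-1, 1, -1, -1, 1, -1, 1, 1, -1, -3, 1, -1, -1, -1, 1, -1, -1, 1, -1, 1, -1, 1, 1, 1], [0, 2, 0, -2, 0, -2, -2, 2, 0, 0, -2, 0, 0, 2, 2, 0, 0, -2, 0, 0, 2, 0, 2, -2], [0, 0, 0, 0, 2, 0, -4, -2, 0, 0, -4, 0, 0, 2, 2, -2, -2, -4, 2, 0, 0, 0, 4, -2], [-2, 4, 0, 0, 0, 4, 0, -2, 0, 2, 2, 0, 2, 0, 0, 4, -2, 2, 0, 0, -2, 0, 4, 0], [1, 1, -1, -1, -1, 1, 3, 3, -1, -1, 5, -1, 1, -1, -1, 3, -3, 3, -1, 1, -1, -1, 3, 1], [2, 0, 0, 2, -2, -2, 0, 2, 2, 0, 0, -2, 0, -2, -2, -2, 0, 0, 2, 0, 0, -4, -2, 0], [1, -1, -1, 3, -3, 1, -1, -3, -1, 5, -3, 1, 3, 1, 1, 1, 1, -1, 1, 1, 1, -1, 1, -3], [4, 2, 4, 0, 0, -2, 2, 4, 0, 0, -2,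 0, 0, 0, 0, -2, 0, -2, 0, 4, 0, 2, 0, 2], [-5, 1, 3, -3, -1, -3, -5, 3, -3, -7, 1, 7, 1, -5, -5, 1, -1, 1, -3, 7, -1, -3, 1, -1], [-1, 1, -3, 3, -1, 5, -1, -3, 3, 1, -1, 1, 1, -1, -1, -1, 1, -1, 5, 1, 3, -3, 3, 1], [3, -1, 1, -3, -1, -3, 1, 1, -3, -1, 1, -1, -1, -1, -1, 1, -1, 1, -1, -5, 1, -7, 1, -1], [-2, -2, -4, 0, 2, 0, -2, 0, 0, -2, 2, -2, 0, 2, 2, 0, -4, 0, 0, 0, -2, 4, 2, -2], [3, -1, 3, 7, -1, 3, -3, -1, 5, 1, -1, 1, -5, 3, 3, 5, 1, -1, 3, 1, -1, -1, -3, 7], [1, 1, 3, -3, 1, 1, 1, -3, -3, 1, -3, 3, -1, 1, 1, 1, 3, -1, -1, -3, 3, -1, 1, 1]],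
  [[1, -1, -1, -1, 1, -1, -1, -1, 1, -1, 1, -1, 1, -1, -1, -1, -1, -1, -1, -1, 1, -1, 1, -3], [-1, -1, -1, 3, -1, -1, -1, -1, -1, -1, -1, -1, -1, -1, -1, -1, -1, -1, -1, -1, -1, -1, -1, -1], [-1, 1, 1, 1, -1, -1, -1, -1, -1, -1, -3, 1, -1, -1, -1, -1, 1, -1, -1, -1, -1, 1, -1, 1], [0, 2, 2, 0, 0, 0, 0, 0, 2, 0, 0, 0, 0, 2, 2, 2, 0, 0, 0, 0, 0, 2, 0, 2], [2, 0, -2, -2, 2, 0, 0, 0, 2, -2, 0, 0, 0, 0, 0, 0, 0, 0, 0, 0, 0, 2, 0, -2], [0, 0, 0, 2, 0, 0, -2, 0, 0, 0, -2, -2, 0, 0, 0, -2, 0, 0, 0, 0, -2, 0, -2, 2], [1, -1, -1, -1, 3, -1, -1, 1, 1, -1, 1, -1, 1, 1, 1, 1, 1, -1, 1, -1, 1, -1, 1, -1], [1, 1, -1, 3, -1, -1, 1, -1, -1, -1, -1, 1, -1, -1, 1, 1, 1, -1, -1, -1, -1, -1, -1, 1], [0, 0, -2, -2, 0, 0, 0, 0, -2, 0,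 0, 2, 0, 0, 0, -2, 0, 0, 2, 0, 0, -2, -2, 0], [0, 2, 2, 2, 0, 0, -2, 0, -2, 0, 0, 0, 2, 0, 0, 0, 0, -2, 0, 0, 0, -2, 0, 0], [1, -1, -1, 1, 1, -1, 1, 1, -1, 1, 1, -1, 1, -1, 1, 1, -1, 1, 3, 1, -1, -1, -1, -1], [1, 1, -1, -1, 1, 1, 1, 1, -1, 1, -1, 3, -1, -3, -1, -3, -1, 1, -1, 1, -1, 1, -1, -1], [1, -1, 1, -3, -1, -1, 1, 1, -3, 1, -3, 3, 1, -3, -3, -3, 3, -1, -1, 1, 1, 1, -3, -1], [0, 0, 2, 0, 0, 0, -4, 2, 0, 4, 0, -2, 4, 0, -2, -2, -2, 0, 0, -2, 0, -2, 0, 4], [1, -1, -3, 1, 1, 1, -3, 3, 1, 1, 1, -5, 1, 1, 1, -1, -3, 1, 3, 1, -1, -1, 1, 3], [0, -2, -4, 0, 0, 2, 0, -2, -2, -2, 2, 0, -2, 2, 2, 0, 0, -2, -2, 0, 2, 0, 0, 0], [-1, -1, 3, -1, -1, 1, -1, -1, 1, -1, -1, -1, -1, -1, -3, -3, 1, 1, -5, -3, 3, 3, -1, 1], [3,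 -1, -1, 3, 3, 1, 5, 3, -1, -1, -1, 1, -1, -1, 3, -1, 1, -1, -1, 1, 1, 1, 3, 1], [0, -4, 0, 0, -4, 6, 2, 4, -2, 4, 6, -2, 2, -2, -2, 0, -2, 0, 2, 4, -2, -2, 8, -8], [3, -3, 1, -5, -3, 1, -1, -3, -1, 1, 1, 1, 1, 1, -3, 1, 1, 1, -3, -1, 3, -1, -1, 5], [2, 2, -4, 2, -2, 4, -4, -2, 0, -2, 0, -2, -2, 0, 0, -2, -2, -4, 2, 2, -2, 2, -2, -2], [-3, -1, -1, -3, 1, -5, -1, 3, -1, 1, -1, -1, 1, -1, -1, -1, 1, 3, 3, 1, -1, -1, -3, -1], [0, 2, 4, -4, 2, 4, -2, 2, -2, 0, 0, 4, 2, 6, 6, 4, 6, 0, -2, -2, 2, 4, 0, 4], [4, 4, 4, 2, -2, 2, 0, -2, 2, 0, -2, 2, 0, -2, -2, 0, 0, -2, 0, 0, -2, 2, 0, 0]],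
  [[0, 0, 0, 0, 0, 0, 0, -2, -2, 0, 0, -2, -2, 0, -2, -2, 0, 0, 0, 0, 0, 0, -2, -2], [-1, -1, -1, -1, -1, -1, 1, -1, 1, -1, -1, -1, -1, 1, 1, -1, 1, -1, -1, -1, 1, -1, 1, -3], [-1, -1, -1, -1, -1, -1, -1, 1, 1, 1, -1, -1, 1, 1, 3, -1, -1, -1, -1, 1, 1, -1, 1, -1], [-1, 1, 1, 1, -1, 1, -1, 1, -1, 1, 1, 1, 1, 1, 1, 1, -1, 1, -1, -1, 1, 1, 1, 3], [0, 0, 0, 2, 0, 0, 0, 0, -2, 0, 2, -2, 0, -2, -2, -2, -2, 0, 0, 0, 0, 0, 0, 0], [-2, -2, 0, 0, 0, 0, 2, 0, 0, 0, 0, 0, 0, 2, 2, 0, 0, -2, 0, 0, 0, -2, 2, 0], [-1, 1, 1, -1, 1, 1, 1, -1, -1, 1, 1, -1, -1, -1, -3, -1, -1, 1, 1, -1, 1, -1, -1, 1], [0, 0, -2, 0, 0, 0, 0, 0, 2, 0, -2, 0, 0, 0, 2, -2, 0, 0, 0, -2, 2, 0, 2, 0], [-1, -1, -1, -1, 3, -1, 1, 1, 1, -1, -1, 1, 1, -1, -1,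 -1, -1, -1, 1, 1, -1, 1, -1, -1], [-1, 1, 1, -1, 1, 1, -1, -1, 1, 1, -1, 1, 1, 3, 1, -1, 1, -1, 1, -1, 1, -1, -1, -1], [0, 0, 0, 0, 0, 0, 2, 0, 0, 0, 0, 2, 0, -2, -2, 0, 2, -2, 2, -2, 0, 0, 0, 0], [2, 0, 0, 2, 2, -2, 0, 2, 0, 0, 0, 0, 0, -2, 2, -2, 0, -2, 0, 2, -2, 0, 0, -2], [2, -2, -2, 0, 0, 0, 0, 2, 2, 2, -2, 0, 2, -2, 2, -2, -2, -2, 0, 4, -2, -2, -4, -2], [-2, 0, 2, -2, 2, 2, 2, -2, 0, 2, 0, 0, -2, 4, 2, 2, 2, -4, 0, 2, -2, 0, -2, 2], [-2, -2, 2, 0, 2, 0, 4, -2, 0, 0, 4, 0, -2, 2, -2, 2, 2, -2, 2, -2, -2, 0, 2, 2], [1, -1, 1, 1, 1, -1, 1, -1, 3, -3, -1, -1, -1, 1, -3, -1, -3, 3, -1, -1, 1, 1, 1, -1], [1, 1, -1, 1, -3, -1, 1, -1, -1, 1, -1, -3, -1, 3, 3, 1, -3, 1, -3, 5, -1, -1, -1, -1], [3, 1, 1, 3, 1, -3, 1,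 -1, 3, 1, 1, 1, -1, -3, 1, -3, 1, 3, 1, -1, 1, -3, 1, 3], [7, 1, 1, 1, 1, -1, -5, -3, 1, -5, 3, 1, -3, -1, -5, 5, 7, -1, 3, -3, -5, -3, -5, -3], [2, -2, -2, 0, 0, 4, 0, -2, 2, 0, -2, 0, -2, 2, 0, 2, -4, 0, 0, 6, 0, 4, -2, 2], [-1, -3, -1, 3, 1, -1, -1, 1, 1, -3, 3, -1, 1, 5, -3, -3, -1, -3, -1, -3, -1, -1, 3, -3], [-2, -2, 0, -4, 0, 0, 4, 2, -2, 2, 0, 0, 2, -4, 0, 2, 0, -2, 2, 0, -2, 0, -2, -2], [-1, 5, 5, 1, 1, 3, -3, 3, 3, 1, -1, 1, 3, 1, 1, 3, -9, 3, 1, 1, 1, -1, -1, 7], [1, 1, -3, 3, -1, 1, -5, 1, -1, 1, 1, 1, 1, 3, 3, -3, 1, -3, -1, 1, 1, -1, 1, 1]],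
  [[-1, -1, 1, -1, -1, -1, -1, 1, -1, -1, -1, -1, -1, 1, 1, -1, -1, 1, -1, 1, -1, -1, 1, -3], [0, -2, -2, 0, 0, 0, 0, 0, 0, 0, 0, 0, 0, 0, -2, 0, -2, 0, -2, -2, -2, 0, 0, -2], [0, 0, -2, 0, 2, -2, 0, 0, 0, 0, 0, 2, 0, 0, -2, 0, 0, -2, 0, -2, -2, 0, 0, 0], [0, 2, 0, 0, 2, 2, 0, 0, 0, 0, 0, 2, 0, 0, 0, 0, 2, 2, 2, 0, 0, 0, 0, 2], [-2, 0, 2, -2, 0, 0, -2, 0, 0, 0, -2, 0, 0, 0, 2, -2, 0, 0, 0, 0, 0, -2, 0, 0], [-1, -1, -3, 1, 1, 1, -1, 1, -1, 1, 1, 1, 1, 1, -1, -1, -1, -1, -1, -1, -1, 1, -1, 1], [-1, -1, 3, 1, -1, 1, -1, 1, -1, 1, -1, 1, -1, 1, 1, -1, -1, 1, 1, 1, 1, -1, 1, -1], [2, 0, 0, 0, 0, 0, 0, 0, 2, 0, 0, 2, 2, 0, -2, 0, -2, 0, 0, -2, -2, 0, 0, 0], [-1, 1, 1, 1, -1, -1, -1, 1, 1, 1, 1, -1, 1, -1, -1, 1, -1, -3,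 -1, 1, 1, -1, -1, -1], [2, 0, -2, 2, 0, 0, 0, 2, 0, 0, 0, 2, 0, 2, 0, 2, 0, 0, 0, 0, 0, 0, 0, -2], [0, -2, 0, 0, -2, 2, 0, 0, 2, 0, 0, 0, 0, 0, 0, 0, -2, 0, 0, 2, 2, 0, -2, 0], [-1, -1, -1, -1, -1, -3, -1, -1, 1, -1, -1, -1, 3, -1, 1, 1, 1, -3, -1, 1, -1, -1, -1, 1], [1, -1, -1, -1, 1, -5, -1, 1, 1, -1, -1, -1, 1, -1, -1, -1, 1, -7, 1, 1, 1, 1, 1, -1], [0, -2, -2, 4, 2, 0, 0, 2, -2, 0, 4, 0, 0, 4, 0, 0, 2, 0, -2, 4, 0, 2, 0, 0], [-2, -2, 0, 2, 0, 4, -2, 0, -2, 2, 2, 0, 0, 2, 2, 0, -2, 2, -4, 2, 2, 2, -2, 2], [1, 1, 3, 1, 1, 1, -1, 1, -1, 1, -1, -3, 1, -3, 1, 1, -3, 1, -1, -3, -1, -1, 1, -1], [-1, -1, -1, -1, 3, -3, -1, 1, -3, -3, 1, -3, -1, 1, -1, -1, 3, -1, 1, -3, -3, 1, 3, 1], [2, -2, 2, 0, -2, 0, -2, -2, 2, 2,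 -4, 0, 2, 0, 2, 2, -2, 0, 2, 0, -2, 2, 2, 4], [5, -1, -1, 1, -7, -1, 3, -5, -1, -1, -5, -7, -3, 1, 5, 1, 1, 3, -5, 3, 5, 3, -3, -3], [3, 3, 3, 1, 3, -1, 1, 3, -1, -3, 5, -3, -1, -1, 1, -3, 1, -3, -1, 1, -1, 1, 3, 1], [-2, 2, -2, 0, 2, 2, -2, 2, 0, 0, -4, 0, 2, 0, 2, 0, -2, 0, -6, -4, 0, 0, -4, -2], [-3, -3, -1, -1, -1, -1, -1, -1, -1, 1, 3, 1, -1, -1, -3, -1, -1, -3, 1, 3, 5, -1, -1, -1], [4, 4, 4, 6, 4, 0, -2, 2, -2, 2, 0, 2, 0, -2, 2, 0, 6, 0, 8, -2, 2, -2, 0, 4], [1, 3, -3, -1, 1, -1, 1, 1, 3, -3, -3, 3, 1, 3, 1, -1, 3, -1, -1, -1, -3, 1, -1, 1]],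
  [[0, 0, -2, -2, 0, 0, -2, 0, -2, 0, 0, -2, 0, 0, -2, 0, 0, 0, 0, -2, 0, 0, 0, -2], [-1, -1, 1, -1, -1, 1, -1, -1, -1, 1, 1, -1, -1, -1, 1, -1, -1, -1, -1, 1, -1, 1, -1, -3], [-1, -1, 1, 1, -1, 1, -1, -1, 1, 1, 1, 1, -3, 1, 1, -1, -1, -1, -1, 1, 1, -1, -1, -1], [0, 2, 0, 2, 0, 0, 0, 0, 2, 2, 0, 2, 0, 0, 0, 2, 0, 2, 0, 0, 0, 0, 0, 2], [0, 0, -2, 0, -2, -2, 0, 0, 0, 0, 0, -2, 0, 0, -2, 0, 0, 2, 0, -2, 2, 0, 0, 0], [0, 0, 0, 0, -2, 2, 0, -2, 0, 2, 0, 0, 0, 0, 2, -2, 0, 0, 0, 2, 0, 0, -2, 0], [1, 1, -1, -1, -1, -1, -1, 1, -3, 1, -1, -1, 1, -1, -1, 1, -1, 1, 1, -1, 1, -1, 1, 1], [-1, 1, 3, 1, -1, 1, -1, 1, 1, 1, 1, -1, -1, -1, 1, -1, -1, -1, -1, 1, 1, 1, 1, -1], [1, -1, 1, 1, 1, -1, 1, 1, -1, -1, -1, -1, 1, 1, 1, -3,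 -1, -1, 1, -1, 1, -1, -1, -1], [0, 0, 0, 0, 2, 2, -2, 0, 0, 2, -2, 0, 0, 0, 0, 0, -2, -2, 0, 2, 0, 0, 0, 0], [0, 0, 2, -2, 0, 0, 2, 0, 0, 0, -2, -2, 2, -2, 0, 0, 0, 0, 2, 0, 0, 0, 0, 0], [-2, -2, 0, 0, 0, 0, 0, 0, 2, -4, 0, -2, 0, 2, 0, -2, 0, 0, 0, 0, 2, 0, -2, 0], [-1, -3, 1, -1, 1, -1, -1, -1, 1, -3, -1, 1, -3, 1, -1, -5, 1, -3, -1, -1, 3, -3, -1, 1], [0, 0, -2, -2, 2, 4, -2, -2, -2, 2, -2, 2, 2, 2, 4, 0, 2, -2, 2, 0, 0, 0, -2, 2], [2, 0, -2, -2, -2, 2, 2, -2, -2, 2, -2, -2, 4, 0, 4, 0, 0, 2, 2, 0, -2, 2, 0, 2], [3, -1, 1, 3, -1, -1, -1, 1, -3, -1, 1, -1, 1, -1, -1, -1, -1, 1, -3, -1, -1, 3, 1, -1], [-1, -1, -3, 1, -1, 1, -3, -1, -1, -1, 3, 3, -5, 1, -1, -1, 3, -1, -1, -1, -1, 1, -3, 1], [2, 0, 2, -2, -2, 0,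 -2, 2, 2, -4, 2, -2, 0, -2, 0, 0, -2, 2, 0, 2, 2, 2, 2, 4], [2, 0, -4, -8, 4, -2, 4, -2, 0, -8, -4, -2, 4, 0, -2, 4, 0, -4, -2, 2, -4, 4, 4, -2], [2, 0, 0, 4, 2, 0, -2, -2, -2, 0, 2, 2, 0, 2, 0, -2, 6, -4, 0, -4, 0, 0, 2, 2], [1, -1, -1, 1, -3, -1, 1, -3, 1, 3, -3, -3, 1, 3, -1, -3, -3, 1, -3, 1, -1, 5, -1, -3], [-2, -2, 0, -2, 0, 0, 4, 0, -2, 0, -2, 0, 0, -2, 2, -2, 0, 0, 2, -2, 0, -6, -2, 0], [3, 3, -1, 9, 1, -1, -1, 1, -1, -1, -3, 7, -1, -1, -1, 3, -1, 1, -1, 1, 5, -1, 1, 7], [-2, 2, 0, 0, 0, 0, -2, -2, 6, 2, 0, 0, -2, 4, -2, 0, 0, -2, 0, 2, 2, 2, 0, 0]],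
  [[0, 0, -2, 0, 0, 0, 0, 0, -2, -2, 0, 0, -2, 0, -2, 0, 0, -2, 0, 0, -2, 0, 0, -2], [-1, 1, 1, 1, -1, -1, -1, 1, 1, -1, -1, -1, -1, -1, -1, -1, -1, -1, -1, -1, 1, -1, 1, -3], [-2, 0, 2, 0, 0, 2, 0, 0, 2, 0, 0, 0, 0, -2, 0, 0, 0, 0, 0, -2, 2, 0, 0, -2], [0, 0, 2, 0, 0, 0, 2, 0, 0, 2, 0, 2, 2, 0, 0, 2, 0, 0, 0, 0, 0, 2, 0, 2], [0, 0, -2, -2, 2, 0, 0, -2, -2, 0, 0, 0, 0, 0, -2, 2, 0, -2, 0, 0, 0, 0, 0, 0], [0, 2, 2, -2, 0, 0, 0, 2, 2, 0, 0, 0, 0, 0, 0, 0, 0, 0, 0, 0, 2, 0, 2, -2], [2, 0, 0, 0, 2, 0, 0, 0, -2, -2, 0, 0, 0, 0, 0, 2, 0, -2, 0, 2, -2, 0, 0, 0], [-2, 0, 2, 2, 0, 0, 0, 0, 2, 0, -2, -2, 0, 0, 0, 0, 0, -2, 0, 0, 2, 0, 0, 0], [1, -1, -1, -1, 1, 1, 1, -1, 1, -1, -1, -1, -1, 1, 1, -1, 1, 1, -1, 1, 1, -3, -1,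 -1], [0, 0, 2, 2, -2, 2, 0, 2, 0, 0, 0, 0, 0, 0, 0, 0, 2, 0, 0, 2, 0, 0, 0, -2], [1, 1, -1, -1, -1, -1, -1, 1, -1, -1, -1, -1, 1, 1, 1, -1, -1, -1, -1, 3, 1, -1, -1, 1], [-1, 1, -3, -1, 1, 1, -1, -1, 1, 1, 1, -1, -1, 1, -1, -1, 1, 1, 1, -1, 3, -1, -3, -1], [-4, -2, -2, -2, 0, 4, -2, -2, 2, -2, 2, 0, -2, 0, 2, 0, 0, 2, 2, 0, 2, -2, -2, -2], [1, 3, 1, -1, -1, 1, 3, 5, 1, -1, 3, 1, -3, -1, 1, -1, 1, 3, 1, 3, -1, 1, 1, -1], [3, 5, 1, -3, 1, -3, 1, 3, -1, -1, 1, -1, 1, 1, -1, -1, 1, 1, -1, 3, -1, -1, 3, 1], [0, -2, 0, 2, 2, -2, 0, 0, 0, 0, -2, -2, 0, 2, -2, 2, 0, 0, 0, -2, -2, -4, 2, 0], [-3, -1, 1, -1, 1, 1, -1, 1, 1, 1, 3, 3, -5, -1, -1, 1, -1, 1, 1, -5, -1, 1, 1, -1], [0, 0, 0, 2, 2, -2, -4, 0, 2, -2, 2, -2, 2, 2,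 -2, 2, 2, -2, 2, 0, 2, 0, -2, 4], [2, -2, -6, 2, -4, -6, -6, 0, -6, 0, 2, -2, 2, 0, -2, -8, 2, 4, 4, 4, -4, 0, 0, 0], [-3, -3, -1, -1, 1, 3, 3, 1, 1, -1, -1, -1, -5, 1, 1, 1, -1, 5, 1, -1, -3, 1, 3, 3], [-2, 2, 0, -2, 0, -2, 0, 0, -2, 2, -4, 0, 2, 0, -4, 0, 4, 0, 0, 0, 2, -4, 4, -4], [2, 2, 0, -4, 0, 2, 0, -2, 0, -2, 2, 0, 0, 0, 4, -2, -4, 0, -2, 2, 0, -2, -2, -2], [1, -7, 5, 1, 5, 3, 3, 1, -1, 5, 3, 1, 3, 1, 3, 7, 1, 3, 3, 1, -1, 1, -1, 3], [-4, 0, 0, 0, -2, 2, 0, 0, 0, 2, -2, 2, 0, -2, -2, 0, 4, 0, 2, 0, 4, 4, 0, 0]],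
  [[-1, -1, 1, -1, -1, 1, 1, 1, -1, -1, -1, -1, -1, -1, 1, 1, -1, -1, -1, -1, 1, -1, -1, -3], [0, -2, 0, 0, -2, -2, -2, 0, 0, 0, 0, 0, 0, -2, -2, 0, 0, 0, 0, -2, 0, 0, 0, -2], [0, 0, 0, 0, 0, -2, -2, 0, 0, 2, 0, 0, 0, -2, -2, -2, -2, 0, 0, 0, 0, 2, 0, 0], [-1, 1, -1, -1, 1, 1, -1, 1, 1, 1, 1, 1, -1, 1, 1, 1, -1, 1, 1, 1, -1, 1, 1, 3], [-1, -1, -1, -1, 1, 3, 1, 1, -1, 1, -1, -1, -1, 1, 1, -1, -1, 1, -1, -1, 1, -1, -1, -1], [0, -2, 0, 0, 0, 0, -2, 0, 2, 2, 0, 2, 2, -2, -2, 0, 0, 0, 0, 0, 0, 0, 0, 0], [-2, -2, 0, 0, 0, 2, 2, 2, 0, -2, -2, 0, 0, 0, 2, 0, 0, 0, 0, 0, 0, 0, 0, 0], [0, 0, 0, 2, 0, -2, -2, 2, 0, 0, 0, 0, 0, 0, -2, 0, 0, 2, 0, -2, 0, 2, 0, 0], [0, 0, 0, 2, 0, 0, 2, 0, 0, 0, 0, 0, 2, 2, -2, -2, 0, -2, 0,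 0, 0, 0, 0, -2], [1, -1, 1, 1, -1, -1, -1, 1, 1, -1, 1, 1, 1, -1, 1, 1, -1, -1, 1, 1, -1, 3, -1, -1], [1, -1, -1, 3, -1, 1, 1, -1, 1, -1, -1, 1, 1, 1, 1, 1, 1, 1, -1, -1, -1, -1, 1, -1], [3, 1, 1, 1, 1, 1, -1, -1, -1, 1, 1, -1, 1, 1, -1, -3, -1, -1, -3, -1, 1, -1, -1, -1], [1, 1, 1, 3, 1, -1, 1, -3, -3, 1, -1, -1, 1, -1, -3, -3, -3, -1, -3, 3, 1, 1, -3, -1], [1, -1, 3, -1, -1, -1, 1, 1, 1, 1, 1, 3, 5, -3, 1, 3, -1, -3, -1, 3, -1, -1, 1, 1], [1, -3, -1, -1, -1, 3, 1, 1, 3, 1, -1, 1, 5, -1, 1, 3, 3, -1, 1, -1, -1, -3, 1, 1], [-2, -2, 0, 0, 0, 0, 0, 2, -2, 0, 0, -2, -2, 2, -2, 0, 4, -2, 2, -2, 0, 0, -2, 0], [-3, 1, 3, -3, -1, -1, -3, -1, -3, 3, 1, -1, -1, -3, -1, -1, -1, -1, -1, 3, 3, -1, -1, 1], [2, -2, 2, 2, 2, 2,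 -2, 0, 0, -2, -2, -4, 0, 2, 0, 0, 2, 2, -2, -2, 2, 2, 0, 4], [8, 0, 2, -2, 0, -2, 2, -6, 0, -6, -2, -4, 0, 2, 6, 4, 4, 0, 2, 0, -2, -6, -4, -4], [-3, 3, 1, 1, 3, -3, 3, 1, -5, 3, 1, 1, 1, -1, -1, 3, 1, -3, 1, 3, 3, -1, -1, 1], [2, -4, -2, 0, 0, 2, -2, 2, 2, 4, 2, -2, 0, 0, -2, 0, 0, 0, 4, -2, -2, -2, -4, -4], [-1, 1, -3, 1, -3, 1, 3, -3, 1, -1, -3, 3, 3, -1, -1, -3, -1, -1, -3, 1, -1, -1, 1, -1], [-3, 1, 1, -1, 5, 1, -1, 3, -3, 1, -1, 3, -1, 5, 3, -3, 1, -1, 3, 7, -3, 5, -1, 7], [3, 1, 1, 1, 3, -1, -3, 1, 1, 3, 3, -1, -1, -1, 1, 1, -5, 3, 1, 1, 1, 1, -1, -1]],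
  [[0, 0, 0, 0, 0, 0, 0, 0, 0, 0, 0, 0, 0, 0, 0, -4, 0, 0, 0, 0, 0, 0, 0, -4], [0, -2, 0, 0, -2, -2, -2, 0, 0, 0, 0, 0, 0, -2, -2, 0, 0, 0, 0, -2, 0, 0, 0, -2], [-1, -1, 1, 1, -1, -1, -1, -1, -1, -1, -1, -1, -1, -1, -1, 1, -1, 1, -1, -3, 1, 1, -1, 1], [0, 2, 0, 0, 0, 2, 2, 0, 0, 0, 2, 0, 0, 0, 0, 2, 0, 2, 0, 0, 0, 2, 0, 2], [-2, 2, 0, 0, 0, 0, 2, 0, 0, 0, 0, -2, 0, 0, 2, -2, 2, 0, 0, 0, 0, 0, 0, -2], [-1, -1, 1, 1, -3, -1, -1, -1, 1, 1, 1, -1, -1, -1, -1, 1, -1, 1, 1, -1, 1, -1, 1, 1], [-1, 1, -1, 1, 1, 1, 1, 1, 1, 1, 1, -1, 1, 1, -1, -3, 1, 1, 1, 1, -1, -1, -1, -1], [1, -1, 1, 1, -1, -1, -1, 1, -1, 1, 1, -1, 1, -1, -1, 1, 1, -1, -1, -3, -1, 1, -1, 1], [0, -2, 0, 0, 0, 0, 0, 0, 2, 0, -2, -2, 0, 2, 0, 0, 0, -2, -2,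 0, 0, -2, 0, 0], [1, -1, 1, -1, -1, 1, -1, 1, -1, 1, 1, 1, -1, 1, -3, -1, -1, 1, -1, -1, 1, -1, -1, 1], [0, 0, 0, -2, 0, 0, 0, 2, 2, 2, 0, 0, 0, 0, 0, 0, 0, -2, 2, 0, -2, -2, 0, 0], [-1, -1, 3, -1, 1, -1, -1, -1, -1, 1, -3, -1, -1, 1, 3, 1, 1, -1, -1, -1, 1, -1, 1, -1], [-3, -1, 1, 1, 1, -1, -1, -1, -3, -1, -5, -1, -1, 3, 1, -1, -3, -3, -1, -3, 1, -1, 1, 1], [2, -2, 0, 0, -2, 2, -2, -2, 2, 2, 0, 2, 0, 2, 0, -2, -4, 4, 2, 0, 2, -2, 2, 2], [-1, -1, -1, -1, -3, 1, -1, -1, 5, 3, 3, 1, 1, -1, 1, -1, 1, 1, 3, 3, 1, -3, 1, 1], [0, 0, 0, 2, -2, 0, 0, 0, 0, -2, 0, 0, 4, 0, -2, 0, 4, -2, -2, 2, 0, 0, 0, -2], [0, 2, 0, 4, 0, -2, 0, -4, -2, -2, -2, 2, 0, 0, 0, 0, -2, 2, 0, -2, 4, 2, 2, -2], [-2, 0, 4, 0, 4, -2, 0, 0, -2, 2,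 2, 0, 4, 0, 0, 0, 4, -2, 2, 0, 0, 0, 0, 2], [2, 0, -2, -8, 4, 0, -4, 0, -4, 0, 0, 6, 0, -4, 2, -4, 0, -4, 0, 8, -2, -6, 2, -2], [4, 2, -2, 4, -2, 2, -2, -2, 0, -4, -2, 0, 2, 4, 2, -2, -2, -2, 0, 0, 2, 2, 2, 2], [-3, 1, 1, -3, -7, -1, -1, -1, 1, 1, 1, -1, -1, -3, -1, -1, 3, -1, -5, 1, 1, -1, 1, -1], [-3, -3, -3, 1, 1, 1, 1, 1, 3, 1, -3, -1, -3, 1, 1, 1, -3, -1, 3, -1, -1, -3, -1, -1], [0, 6, 0, 4, 2, 6, 4, 0, -4, -2, 0, -2, 4, 4, -2, 4, 0, 4, -2, 2, 2, -2, -2, 6], [1, 3, 3, -3, -1, -1, -1, -1, -3, 1, 1, -1, -3, -1, 1, -1, -1, 1, -3, -3, 1, 3, 1, 3]]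
]

/-- tables of the elements -/
def threeC6 : List (List ℕ) := [
  [12773413, 10672465, 1290338, 9187962, 5172446, 3529434, 2111110, 12536240, 5915284, 342907, 15370271, 6072399, 13683740, 6714106, 16547636, 3449595, 9583297, 15265938, 6223204, 10674979, 14438490, 15949168, 10766398, 4173115],
  [11963554, 3211413, 11139243, 2224149, 4956068, 15141425, 10817152, 5342035, 10198082, 7530846, 6561893, 15392572, 12425704, 3428901, 11084703, 5075493, 1666023, 4015004, 13281481, 1310735, 3533191, 1681981, 16062008, 9909081],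
  [14721117, 6326214, 334195, 12705793, 7849286, 11681186, 16438737, 3804822, 15634823, 1579212, 6847322, 1601820, 15361742, 12389107, 8350857, 9350133, 5413592, 1089683, 16596086, 2595305, 6784247, 2587857, 11972118, 6043074],
  [8932746, 945494, 11206103, 1220524, 3977834, 3320862, 11480466, 13824902, 13030158, 12792492, 6176955, 864814, 3601475, 14371758, 4228303, 13032271, 2624753, 10103616, 12420785, 6832770, 2211885, 6155946, 7866464, 6949218],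
  [8932746, 9241763, 2788726, 9417005, 9170054, 15576248, 5133872, 7305468, 7183204, 819492, 8482289, 6367620, 13144362, 10521940, 1038364, 2043090, 16405133, 12273821, 12574232, 12528379, 5737370, 3609409, 6986031, 163762],
  [1559144, 12681217, 9553917, 2826783, 12072494, 11253616, 7723842, 13180732, 720307, 11739788, 14679524, 3225066, 3276767, 11128507, 14335668, 11800320, 13009489, 7245689, 5272881, 5374593, 3353218, 1164342, 3867583, 5190792],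
  [11963554, 455314, 6354718, 4166322, 15406563, 8192134, 4115632, 1313345, 10710049, 11098560, 1871673, 4043128, 8814411, 5043700, 16253222, 7353532, 4721417, 1393419, 14683294, 13142861, 15353658, 14268187, 4307715, 9069217],
  [11682049, 1142798, 2727888, 5504990, 15923393, 4387478, 1530596, 10788264, 6856537, 14253736, 828020, 13926993, 1602360, 16503605, 12218072, 11307714, 8183996, 10495923, 5435275, 7377783, 14537189, 10476472, 4761655, 9584125],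
  [1563953, 908310, 3486125, 6396347, 10956752, 2942317, 11540250, 6008592, 10178994, 12418239, 11925368, 10132910, 448897, 6094917, 4038662, 4795208, 7729371, 2036801, 2387696, 5411928, 15213640, 12393052, 15518050, 4167577],
  [11392543, 11412231, 7103066, 9227063, 13042466, 7316230, 8660535, 2897385, 1434355, 14504306, 14979341, 11398691, 13397978, 7527656, 15038631, 10270615, 4265847, 12558726, 15549740, 4301630, 4294211, 3317011, 14162571, 9843590],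
  [3637698, 13091047, 570565, 11522200, 5973423, 13556008, 826769, 2519514, 8958099, 10876128, 7187818, 3107, 2893746, 9772998, 1776178, 11648166, 15284959, 11963554, 3149196, 6801072, 14300211, 277308, 22137, 4289413],
  [7622656, 13091047, 8904728, 12273821, 7806781, 7994997, 8695728, 14110028, 15001076, 5026471, 9058062, 16346237, 4858409, 7460929, 4025800, 918581, 11309491, 14544396, 4931505, 8399295, 8175217, 2706859, 3247064, 2039389]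
]

/-- images of the basis -/
def threeW7 : List (List (List ℤ)) := [
  [[1, 1, -1, -1, -1, 1, 1, -1, -1, -1, -1, -1, -1, -1, -1, -1, -1, -1, 1, -1, 1, -1, 1, -3], [-1, -1, 1, -1, -1, -1, -1, 1, 1, 1, -1, -1, -1, -1, -1, 1, -1, -1, 1, 1, -1, -1, -1, -3], [-3, -1, 1, -1, 1, -1, -1, 1, -1, 1, -1, 1, -1, 1, 1, 1, -1, 1, 1, 1, -1, -1, -1, -1], [-1, 1, 1, 1, -1, 1, -1, 1, -1, 1, 1, 1, 1, 1, 1, 1, -1, 1, -1, -1, 1, 1, 1, 3], [1, 1, -1, -1, -1, 3, 1, -1, -1, -1, -1, -1, -1, 1, 1, -1, -1, 1, -1, -1, -1, 1, 1, -1], [-1, -1, 1, 1, -1, 1, -1, 1, 1, 1, 1, 1, -1, 1, -1, 1, -1, 1, 1, 3, -1, -1, -1, -1], [2, 2, -2, 0, 0, 2, 0, -2, 0, 0, 0, -2, 0, 0, 0, 0, -2, 0, 0, 0, 2, 0, 0, 0], [-1, -1, 1, -1, 1, -1, -1, 1, 1, 3, -1, -1, 1,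 1, 1, 1, -1, -1, 1, 1, -1, 1, 1, -1], [2, -2, -2, 0, 2, 0, 0, 0, 0, 0, 0, 0, 0, 2, 0, 0, 2, 0, 0, 0, 0, 0, -2, -2], [-1, 1, 1, -1, 1, -1, -1, 1, 1, 1, 1, 1, 1, 1, -1, -1, -1, -1, 1, 1, 3, -1, -1, -1], [2, 0, -2, 0, 0, 0, 0, 0, 2, 0, 0, 0, 0, 0, -2, 0, 0, -2, -2, 2, 0, 2, 0, 0], [0, 0, 0, -2, 2, 0, 2, 0, 0, -2, 0, 2, 0, 2, 0, 0, 2, 0, 0, 0, -4, 0, 0, -2], [-3, -1, -1, -1, 5, -1, 3, -1, -3, -1, -1, 1, -1, 1, 1, -1, 3, 1, -1, 3, -1, -1, -1, -3], [-1, 1, -1, 3, -1, 1, 1, 1, 1, -1, 1, 3, 1, 1, -3, 1, 1, -1, 3, 3, 3, -5, -1, 1], [2, 0, -2, 2, -4, 4, 0, 0, 4, 0, 2, 0, 0, 0, -4, 0, 0, 0, 2, 2, 0, 0, -2, 2], [2, 0, 2, 0, -2, 0, 0, -2, 0, 2, 0, -4, 0, 0, 2, 0, 2, 0, 2, -2, 0, 2, -2, -2], [-3, 1, 3, 1, -1, -1, 3, -1, -3, 1,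 -1, 1, -3, -1, 1, 1, 1, 3, 1, -1, -1, -5, 1, -1], [1, 1, 3, -3, 3, 1, 3, -3, 1, 1, 1, -3, 1, 1, -1, 1, -1, -1, 1, 1, -3, 3, 1, 3], [1, 1, 1, 1, 1, -1, 1, -3, 5, -7, 1, -1, 1, -7, -5, -9, 3, -7, -1, -3, -1, 1, -1, 1], [-1, -1, -1, 3, -1, -1, 1, -1, -3, 1, -1, -1, -1, 1, 3, -1, 7, 1, 3, 1, 3, -3, 3, 1], [-1, -1, 3, -1, -3, 5, -3, 1, 3, 1, -1, 1, -1, 1, -1, -3, 1, 1, 1, -1, -1, 3, -3, -5], [1, -1, -7, 1, 1, -1, 1, 1, -1, -1, 1, 1, -1, -1, -1, 1, -1, 1, -3, 3, -1, -1, -3, -1], [-2, 4, 2, 4, 2, 0, 0, -4, -2, 2, 4, 0, 2, 6, 8, 0, 0, 2, -2, -2, 4, 0, -2, 6], [-4, 0, 4, -2, 2, 2, -2, 2, 0, 0, -2, 4, 0, 2, 0, -2, 0, 0, 0, 0, 0, 0, 4, 0]],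
  [[1, 1, -1, 1, 1, -1, -1, -1, -1, -1, -1, 1, -1, -1, -1, -1, -1, -1, -1, 1, 1, -1, -1, -3], [-2, -2, -2, -2, 0, -2, 0, 0, 0, 0, 0, 0, 0, 0, -2, 0, 0, -2, 0, 0, 0, 0, 0, -2], [-3, -1, -1, -1, -1, -1, 1, 1, -1, -1, 1, 1, 1, 1, -1, -1, 1, 1, 1, -1, -1, 1, 1, -1], [0, 0, 2, 0, 0, 0, 0, 0, 0, 0, 2, 2, 0, 0, 2, 2, 0, 2, 2, 0, 0, 0, 0, 2], [2, 0, 0, 2, 0, 0, 0, -2, -2, 0, 0, 0, -2, 0, 0, 0, 0, 2, 0, 2, 0, 0, 0, -2], [-2, -2, -2, -2, 0, -2, 0, 0, 0, 0, 0, 0, 0, 0, -2, 0, 0, 2, 0, 0, 0, 0, 0, 2], [1, 1, -1, 1, 1, 1, -1, -1, 1, -1, -1, 1, -1, -1, 1, 1, 1, 1, -1, 3, 1, -1, -1, -1], [-1, -1, -1, -1, 1, -1, 1, 1, 1, 1, 1, 1, 1, 1, -1, 1, 1, -1, 1, 1, -3, 1, 1, -1], [1, -1, -1, 1, -1, 1, -1, 1, 1, 1, -1, -1, 1, 1, -1, -1, 1,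 1, -3, -1, -1, -1, 1, -1], [-2, 2, 0, -2, 0, 0, 0, 2, 2, 0, 0, 2, 0, 0, -2, 0, 0, 0, 0, 0, 0, -2, 0, 0], [2, 0, 0, -2, 0, 0, 0, 0, 2, 2, 0, -2, 0, -2, 0, 0, 0, 0, -2, 2, 0, 0, 0, 0], [1, 1, 1, 1, -1, -1, 1, 1, -3, 1, -1, -3, 1, 1, -3, -1, 1, 1, -1, -1, -1, 1, 1, -1], [-2, 2, 0, 2, -2, 0, 2, 0, 0, -2, -2, -2, 2, 0, -2, -4, 0, 2, -2, -2, -2, 2, 4, -2], [-1, 3, -3, -1, -1, -3, -1, 1, 1, -1, -1, 1, 3, -1, -1, -1, -1, 1, -1, -1, 3, -3, -1, 5], [1, -1, -3, -1, -1, -1, -3, -1, 1, 3, -1, -1, -1, -1, -1, 1, -1, 1, -1, 3, 3, -1, -3, 5], [-1, -3, 1, 3, 1, 1, -1, -3, 1, 1, -1, 1, -1, 3, -1, 1, 1, -3, -1, 1, -1, -1, -1, -1], [-2, 0, 0, 2, 0, -4, 2, -2, -2, -4, -2, 2, 0, 2, 0, -2, 0, 0, 2, -4, 2, 2, 0, 0], [-1, 3, 1, 1, 3, 1,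 1, -1, -1, 3, -1, -1, -1, 1, -1, 3, 3, -1, -1, 3, -1, 5, 1, 1], [2, 6, 2, -2, -2, 4, -2, 0, -2, 2, -4, -6, -6, -4, 0, -2, -4, -10, -2, 0, 0, -2, -2, 2], [1, 1, -1, 5, 1, -1, -1, -3, 3, -3, 1, 1, 3, 3, 1, -5, -1, -1, 1, -3, -1, -1, 1, 3], [0, -4, 0, -2, -4, 0, -2, -2, -2, 2, 0, 2, -4, 2, -6, 0, -2, 0, 0, 2, -2, -2, 0, 0], [0, -2, -2, 0, -2, 0, 0, 2, 2, 0, -2, -4, 2, -4, 2, -2, 0, 4, -2, 0, 2, 0, 0, -2], [-3, 3, 5, 5, -1, 3, 3, -1, 3, -3, 1, 3, -1, 3, 5, 3, 5, 5, 1, -1, -3, -3, -1, 5], [1, 3, 1, -3, -1, -1, 1, 1, -3, -1, 3, 3, -1, 1, -3, -1, -1, 1, 3, -1, -3, 1, 3, 1]],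
  [[1, -1, -1, 1, 1, -1, -1, -1, -1, -1, 1, -1, -1, -1, -1, 1, 1, 1, -1, -1, -1, -1, -1, -3], [-1, -1, -1, -1, -1, -1, 3, -1, -1, -1, -1, -1, -1, -1, -1, -1, -1, -1, -1, -1, -1, -1, -1, -1], [0, 2, 0, -2, -2, 0, 2, 0, 0, 0, -2, -2, 0, 0, -2, 0, 0, -2, 0, 0, 0, 0, 0, 0], [2, 2, 2, 0, 0, 0, 0, 0, 2, 0, 0, 2, 2, 0, 0, 0, 0, 0, 2, 0, 0, 0, 0, 2], [2, 0, 0, 0, 0, 0, -2, 0, 0, 0, 2, 0, 0, 0, -2, 0, 0, 2, 0, 2, -2, 0, 0, -2], [0, 0, 0, -2, 0, -2, 2, 0, 0, 0, -2, 0, 0, 0, -2, 0, -2, 0, -2, 0, 0, 0, 0, 2], [1, -1, 1, 1, 1, 1, -1, 1, 1, -1, 1, 1, -1, -1, -1, 1, 1, 3, -1, -1, -1, 1, -1, -1], [-1, 1, -1, 1, -1, 1, 3, -1, 1, -1, -1, -1, -1, -1, -1, -1, -1, -1, 1, 1, -1, 1, -1, 1], [-3, -1, -1, 1, -1, 1, -1, 1, -1, 1, -1, -1,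 1, -1, -1, 1, -1, 1, -1, 1, 1, 1, 1, -1], [0, 0, 0, 2, 0, 0, 2, 0, 2, 0, -2, 0, 0, 0, 0, 2, 0, -2, -2, -2, 0, 0, 0, 0], [0, -2, 0, 2, 0, 0, 0, 0, 0, 0, 0, 0, 0, 0, 2, -2, -2, 2, -2, 0, 0, 2, 0, 0], [0, 0, -2, 0, -2, 0, -2, 0, -2, 2, 0, -2, 0, 0, 0, 0, 0, -2, -2, 4, 0, 0, 0, 0], [-1, 1, -1, -1, -3, 1, -3, -1, -1, 3, -3, -5, -3, 1, -1, 1, 1, -1, -1, 1, 1, 1, 3, -1], [0, 0, 0, 0, 0, -4, 0, 0, 0, 0, 0, 0, 0, 0, 0, 4, 0, 0, -4, -4, 4, 0, 0, 4], [0, -2, 0, 0, 2, -4, 2, 2, 0, 0, 2, 4, 0, 0, 0, 0, -2, 4, -4, 0, 2, 0, 0, 2], [-3, -3, -1, 1, 1, 1, 1, 1, 1, 1, 1, 1, -1, -1, -3, -1, 1, 1, 3, 1, -1, -3, -1, -1], [1, 1, -1, -5, -1, -3, -1, -1, -1, 1, -1, -3, -1, 1, -1, 3, 3, -1, 3, -1, -1, -3, -1, 1], [1, 1, -3, 1, 1, 3, 1, 1,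 1, 3, 1, 1, -3, -1, 1, -3, 3, 1, -1, 3, -3, 1, -1, 3], [-2, -4, -4, 4, 4, -2, -4, 2, -2, -2, 4, 4, -4, 4, 8, -4, 2, -4, -4, -2, 0, -2, 4, -4], [-2, 0, 0, 0, 2, -2, -2, 0, 0, 2, 2, -4, -2, 0, -2, 4, 0, 0, 6, -2, 4, 0, 2, 2], [1, -3, -3, 1, -1, -3, 3, 1, 1, -1, -1, 3, 1, 1, -5, -1, -3, -1, -1, 3, -1, -3, 3, -3], [-2, 0, 4, -2, -2, 0, -2, 0, -2, 0, -2, -2, 0, 0, 2, 0, -2, 4, -4, 0, 2, 2, 0, -2], [-1, 3, 5, 1, -1, 3, -5, 5, 7, 3, -1, 3, 1, 3, -3, 3, 3, -1, 5, -1, -1, 1, -1, 5], [5, 3, -3, 1, -1, -1, 1, -1, 1, -1, -1, -1, 1, 1, -1, 1, -1, -5, 1, 1, -1, 1, 3, 1]],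
  [[0, 0, 0, 0, -2, 0, -2, 0, 0, 0, 0, -2, -2, 0, -2, 0, 0, 0, -2, 0, -2, 0, 0, -2], [0, 0, 0, 0, -2, 0, 0, -2, -2, -2, 0, 0, 0, 0, 0, 0, -2, -2, 0, 0, 0, 0, -2, -2], [1, 1, -1, -1, 1, -1, 1, -1, -1, -1, -1, 1, 1, 1, 1, 1, -1, -3, -1, 1, 1, -1, -1, -1], [1, 1, 1, 1, 1, 1, 1, 1, 1, 1, -3, 1, 1, 1, 1, 1, 1, 1, 1, 1, 1, 1, 1, 1], [-1, 1, -1, 1, -1, -1, -1, 3, 1, 1, -1, -1, -1, 1, -1, -1, 1, -1, -1, -1, -1, 1, 1, -1], [1, 1, 1, 1, -1, -3, 1, -1, -1, -1, 1, 1, 1, 1, 1, 1, -1, -1, 1, 1, 1, 1, -1, -1], [-1, -1, 1, 1, -1, -1, -1, 1, 1, 1, -1, -1, -3, 1, -1, 1, -1, 1, -1, -1, -1, 1, 1, 1], [-1, 1, -1, 1, -1, 1, 1, -1, -1, -1, -1, 1, -1, -1, 1, 1, -1, -3, 1, 1, 1, -1, -1, 1], [-2, 0, -2, -2, 0, -2, 0, 0, 0, 2, 2, 0, 0, -2,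 0, 0, -2, 0, 0, 0, 0, 0, 0, 0], [0, 0, 0, 0, 0, 0, 0, -4, 0, 0, 0, 0, 0, 0, 0, 4, 0, 0, 0, 0, 0, 0, 0, 0], [-3, -1, 1, 1, -1, -1, -1, -1, -1, 1, 1, -1, -1, -1, 1, -1, 1, 1, 1, -1, 1, 1, -1, 1], [0, 0, -4, 0, 0, -2, 0, 0, 0, 0, 2, 0, 2, -2, 0, -2, 2, -2, -2, 0, 0, 0, 0, 0], [1, 1, -3, -3, 3, -3, -1, -1, 1, 1, 3, 1, -1, -1, 3, -1, 1, -3, -3, -1, -1, -3, -1, -1], [4, 0, 2, 0, 0, -2, 0, -2, 0, 0, 4, 0, 0, 0, 0, 4, 0, 4, -2, 2, 2, 2, -2, 0], [-1, 1, 3, 3, -3, -3, 1, 1, -1, -1, 3, -1, 1, 1, -1, 1, -1, 5, 1, -1, 1, 3, -1, 1], [0, 0, -2, 0, -4, 2, 0, 2, 0, 0, 0, 0, 0, 0, 0, 0, -4, 0, 2, -2, -2, -2, 2, 0], [6, 0, 0, -2, 0, 0, -2, 2, 2, -2, 0, 2, 2, 2, 0, 0, 0, -2, -2, 2, -2, -2, -2, -2], [0, 0, -2, 6, 0, 0, 0, 0, 0, 0, 0,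 0, 0, 0, 0, -2, 0, -2, 0, -2, -2, -2, 0, 6], [-1, -3, -1, 1, 3, 3, -3, -3, -3, -5, 5, -5, -1, -3, -5, -3, 5, 7, 3, -7, -3, -1, 1, -1], [3, 1, 1, -3, 1, 3, -1, 5, 1, 1, 5, 1, -1, -1, 3, 3, -1, 1, -1, 3, -1, -3, 1, -1], [-2, 4, -4, 0, -4, -2, 2, 0, -2, -2, 0, -2, 2, 2, 0, 2, 0, 0, 4, -2, -2, 2, 0, -4], [-3, -1, 3, -3, 1, -5, -1, -1, 1, 1, 1, 1, -1, -1, 1, -3, -1, 1, -3, -1, 3, 1, -1, -1], [4, -2, -2, 0, 4, 0, 0, 4, 4, 4, -4, 6, 0, 2, 2, 6, 0, 2, 2, -2, 2, -2, 6, 4], [1, 3, -3, 1, 3, 1, 1, -1, -1, -1, -1, -1, 1, 1, 1, 3, 5, -3, 1, 3, -1, 1, -1, -1]],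
  [[0, 0, 0, 0, 0, 0, 0, 0, 0, 0, 0, 0, 0, 0, 0, 0, 0, 0, 0, 0, -4, 0, 0, -4], [0, 0, -2, -2, 0, 0, 0, 0, 0, -2, 0, 0, 0, 0, -2, -2, -2, 0, 0, 0, 0, 0, -2, -2], [1, 1, -1, -1, -1, -1, -1, 1, -1, -1, -1, -1, 1, 1, -3, -1, -1, -1, -1, -1, 1, -1, -1, 1], [1, 1, 1, 1, -1, -1, 1, -1, 1, 1, -1, 1, -1, 1, -1, 1, 1, -1, 1, 1, 1, 1, 1, 3], [-2, 0, 0, 2, 0, 0, 0, 0, 0, 2, 0, 0, 0, 2, 0, 0, 0, -2, 0, 0, -2, 0, 2, -2], [2, 0, -2, 0, 0, 0, 0, 0, 0, 0, 0, 0, 0, 2, -2, -2, -2, 2, 0, 0, 2, 0, 0, 0], [0, 0, 0, 2, 0, 0, 2, 0, 0, 0, 2, 2, 0, 0, 0, 2, 0, 0, 0, 0, -2, 0, 2, -2], [-1, 1, -1, -1, -1, 1, 1, 1, -1, -1, 1, -1, 1, -1, -3, -1, -1, -1, 1, 1, 1, 1, -1, 1], [-1, -1, -1, 1, -1, 1, -1, 3, -1, 1, 1, -1, -1, -1, 1, 1, -1, 1, -1,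 -1, 1, -1, -1, -1], [3, 1, -1, -1, -1, -1, 1, 1, 1, -1, 1, -1, 1, -1, -1, 1, 1, 1, 1, -1, 1, 1, -1, -1], [-1, -1, -1, 1, 1, 1, 1, -1, -1, 1, 3, 1, -1, -1, 1, -1, 1, 1, 1, -1, 1, 1, -1, -1], [-2, -2, 0, 0, 0, 0, -4, 2, 0, 2, 0, -2, 2, 0, 0, -2, 0, 0, 0, -2, 0, 0, 0, 0], [0, 0, 0, 0, -2, 0, -4, 2, -2, 0, 2, -4, 2, 0, 0, -2, 2, 0, -4, -2, 0, -4, 0, 0], [5, -1, -1, 1, -1, -1, 1, 1, 1, -1, -1, 1, 1, 1, 1, -1, 1, 7, 1, -1, -1, -1, -1, 1], [1, -1, -1, 1, 1, 1, 3, -1, 1, 1, 1, 3, -1, 3, 3, -1, -3, 5, 3, -1, 1, 1, 1, -1], [-3, -1, -1, -3, -1, 1, 1, 1, 1, -1, 1, -1, -1, 1, 1, 3, -3, -1, -1, 3, -1, 1, 1, -1], [3, -1, 1, -1, -1, -1, -3, -1, 1, -1, -3, -1, 3, 3, -1, -1, -1, -1, -3, 3, -3, -3, -1, 1], [-2, 0, 0, -2, 0, 4, -2,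 0, 0, 0, 4, 2, 4, 0, 0, 0, 0, -2, 2, 0, 0, 2, 4, 2], [-2, -2, 2, -4, 6, 0, -2, -4, 0, -4, 0, -2, 0, -4, 10, 0, 4, 2, 6, -2, 0, 0, 2, -6], [2, 0, 0, 0, -2, 0, 2, 2, -2, 0, -2, -4, 0, 0, 4, 0, 0, 2, -4, 4, -4, -2, 0, 4], [-2, 2, -4, -2, 0, -2, 0, 0, 2, 2, 0, -4, -2, 4, 0, 0, -4, 0, 4, 0, 2, 0, 0, -4], [0, -2, 2, 4, 0, 0, 0, 0, -2, 0, 2, 2, -2, 0, 0, -2, 0, 2, -4, -4, 2, -2, -2, -2], [2, -2, 2, 2, -4, -4, 2, 2, 0, 0, 0, 0, 2, 2, 0, 8, 4, -2, -2, 4, 4, 0, 6, 6], [2, 4, -2, 0, 0, -2, -2, 0, 0, 2, -2, -4, 2, 0, -2, -2, 2, -2, 4, 0, 0, 0, 0, 2]],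
  [[0, 0, 0, 0, 0, 0, 0, 0, 0, 0, 0, 0, 0, 0, 0, 0, 0, 0, 0, 0, -4, 0, 0, -4], [0, 0, 0, 0, -2, 0, 0, -2, 0, 0, 0, 0, 0, -2, -2, -2, -2, 0, -2, 0, 0, 0, 0, -2], [2, 0, 0, 0, 0, 0, -2, -2, 0, 0, 0, 0, 0, 0, -2, 0, -2, 0, -2, 0, 2, -2, 0, 0], [2, 0, 0, 0, 2, 0, 2, 0, 0, 0, 0, 0, 0, 2, 0, 2, 0, 0, 0, 0, 2, 2, 0, 2], [-2, 0, 0, 0, 2, 0, -2, 0, 0, 0, 0, 0, 0, 2, 0, 2, 0, 0, 0, 0, -2, 2, 0, -2], [1, 1, 1, 1, -1, -1, -1, -3, -1, 1, -1, 1, 1, -1, -1, -1, -1, 1, -1, -1, 1, 1, -1, 1], [0, 0, 0, 0, 0, 2, 0, 0, 0, 0, 0, 0, 0, 2, 2, 0, 0, 2, 2, 0, -2, 2, 0, -2], [0, 0, 0, 0, 0, 2, 0, -2, 0, 0, 2, 0, 0, -2, -2, 0, -2, 0, 0, 2, 2, 0, 0, 0], [-2, -2, 0, 0, 0, 0, -2, 0, 0, 0, 0, 0, 0, -2, 2, 0, 0, 2, 0, 0, 0, -2, -2, 0], [3, -1,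 1, 1, -1, 1, 1, -1, 1, 1, 1, -1, 1, -1, -1, -1, 1, 1, 1, -1, 1, -1, -1, -1], [-2, 0, 0, 0, -2, 0, 0, 0, 0, -2, 0, 0, 0, -2, 0, 0, 2, 2, 2, 0, 0, 2, 0, 0], [-2, 0, 0, 2, 0, -2, -4, 0, 2, 0, 0, 0, 0, -2, 0, 2, 0, -2, 0, 0, 0, -2, 0, 0], [1, 1, 1, -1, -1, -1, -7, 1, -1, -1, 1, -1, 1, -1, 1, 1, 1, -1, -1, 1, 1, -5, -1, -1], [5, 1, 1, 3, -3, -3, 1, 1, -1, 3, -1, 3, 1, -1, 1, -1, 1, 3, 1, -1, -1, -1, -1, 1], [-2, 2, 2, 2, -2, -2, 2, 0, 0, 2, -2, 2, 0, 0, 0, -2, 0, 4, 2, -2, -2, 4, -2, 2], [-3, -1, 1, -3, 1, 3, 1, 1, 1, 3, -1, -1, 1, -1, 1, -1, -3, -1, -1, 1, -1, 1, -1, -1], [4, 2, -2, -2, 0, -2, -2, 0, 0, 2, 0, 2, 2, 2, 0, 0, -2, -4, -4, 0, -2, -2, 0, 0], [-2, 4, 0, 2, 0, 4, -2, 0, 4, 0, 0, -2, 0, 0, 0, 0, 0, -2, 2, 4,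 0, 2, 0, 2], [-5, 3, -1, 1, -1, -3, 3, 7, 1, 1, -1, -5, -3, -3, -1, -7, 7, -3, 5, -3, -3, -1, 3, -3], [3, -1, 1, -3, 1, 1, -1, 5, -5, 3, 1, 3, 1, -1, 1, 1, -1, -1, -1, 1, -3, -3, -1, 3], [-4, 0, 2, 0, 2, -2, 0, -2, 0, 4, 0, -4, 2, -2, -4, 0, -2, 2, -2, -4, 0, 2, -2, -2], [-1, -1, 1, -1, -3, -3, -3, -1, -1, -5, -1, 3, -1, 1, 3, -1, 1, 3, 1, -1, 1, -1, -1, -1], [5, -1, -1, -3, 5, 5, -1, 3, 1, 5, -1, 1, 1, 5, 5, 3, 1, -1, 3, -1, 7, 1, -1, 3], [3, 1, -1, 3, 3, -1, -1, -1, -1, 1, 3, -3, 1, -1, -5, 3, 1, -1, -1, -1, 1, -1, 1, 1]],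
  [[-2, -2, 0, 0, 0, -2, 0, 0, 0, 0, -2, 0, -2, 0, 0, 0, -2, 0, 0, -2, 0, 0, 0, -2], [1, -1, -1, 1, 1, 1, -1, -1, -1, -1, -1, -1, 1, 1, -1, -1, -1, -1, 1, -1, -1, -1, -1, -3], [0, 2, 0, 0, 0, 2, 0, 0, 0, -2, 0, 0, 2, 0, -2, -2, 0, 0, 2, 0, 0, 0, 0, -2], [0, 4, 0, 0, 0, 0, 0, 0, 0, 0, 0, 0, 0, 0, 0, 0, 0, 0, 0, 0, 0, 0, 0, 4], [-2, 0, 0, -2, 0, 0, 0, 0, 2, 0, -2, 0, -2, 0, 0, 0, -2, 0, -2, 0, 0, 2, 0, 0], [1, 1, 1, 1, 3, 1, -1, -1, 1, -1, 1, -1, 1, 1, -1, -1, -1, 1, 1, 1, -1, -1, -1, -1], [-1, -1, 1, 1, -1, -1, -1, 1, 1, 1, -1, -1, -3, 1, -1, 1, -1, 1, -1, -1, -1, 1, 1, 1], [2, 0, -2, 0, 0, 2, 0, 0, 0, 0, -2, 0, 2, 0, -2, 0, 0, 0, 2, 0, -2, 0, 0, 0], [0, -2, 0, 0, 0, 0, 0, 2, 2, 0, 0, -2, 0, -2, 0, 0, 2, 0, 0, 2,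 0, 0, 0, -2], [0, 0, 0, 2, 0, 0, 0, 2, -2, -2, 0, 0, 0, 0, 0, 0, 0, 2, 2, 0, -2, -2, 0, 0], [2, -2, 0, 0, 0, 0, 0, 0, 0, 2, 0, -2, 0, 0, 2, 0, 0, 2, -2, 0, -2, 0, 0, 0], [-2, -2, 0, -2, 0, 2, 0, 0, 2, 0, 0, 2, 2, -2, 2, -2, 0, 0, 0, 2, 0, 0, 0, -2], [-1, -1, 1, -1, -1, 1, 1, 1, 1, -1, 1, 3, 1, -3, -1, -3, 3, 3, 1, 1, 1, 3, -1, -5], [0, 0, 4, 2, 4, -2, -2, 2, 0, 0, 4, 0, 0, 0, 2, 0, 0, 2, 4, -2, 0, -2, 0, 0], [1, -1, 3, 1, 5, -1, -3, -1, 1, 1, 1, -3, -1, 3, 3, 3, -1, 1, -1, 1, -1, -1, 1, 1], [-1, -3, -1, 1, 1, 1, -1, -1, -1, -1, -3, -1, -1, -1, -3, 3, 1, -3, -1, 1, 1, 1, -1, 1], [-2, 2, 0, 2, 2, 0, 0, -2, 0, -2, 2, 4, 0, -2, -2, -2, -2, -2, 2, -2, 4, 2, 0, -2], [1, -3, 1, 1, -3, 3, -1, -3, 1, 1, -3, 3, 1, 1, 1, 1,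 -1, 1, 1, 3, -1, 3, 1, 3], [0, -6, 2, -2, -4, -2, 2, -2, -6, 2, 2, 4, -2, 2, 8, 8, 0, 0, -4, 0, 0, -4, -2, -4], [-1, -1, -1, -1, 3, -3, 1, 1, 1, -1, 3, 1, 1, -3, -3, 3, 3, 1, 3, -3, 5, 3, -1, 1], [-3, 1, -1, -1, 5, 3, 1, -1, -1, -3, -3, -3, -1, 1, 1, 3, -1, -1, -1, 3, -3, -1, -3, -3], [2, 0, 2, 0, 0, -2, -2, 2, 2, 2, 2, -2, 0, 0, 0, -4, 2, 2, -4, 0, 0, 0, 2, -4], [-1, 5, 3, 1, -3, 3, -1, 3, 1, -3, 3, 3, -3, -5, -5, 3, 3, 1, -1, 1, 1, 1, 1, 9], [-2, 4, -2, -2, 0, 2, 4, 0, 0, -2, 0, 2, 2, 0, 2, 0, -2, 2, 4, 0, -2, 0, -2, 0]],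
  [[-1, -1, -1, -1, -1, -1, -1, -1, -1, -1, -1, -1, -1, -1, -1, -1, -1, -1, -1, -1, 3, -1, -1, -1], [1, -1, -1, 1, 1, 1, -1, -1, -1, -1, -1, -1, 1, 1, -1, -1, -1, -1, 1, -1, -1, -1, -1, -3], [1, -1, 1, 1, 1, 1, 1, -1, -1, -1, 1, 1, 1, 1, -1, -1, -1, 1, 1, 1, -1, 1, 1, -3], [1, 1, 1, 1, 1, -1, 1, -1, -1, 1, 1, 1, -1, 1, 1, 1, -1, 1, -1, 1, -1, 1, 1, 3], [-2, 0, 0, -2, 0, -2, 0, 0, 0, 0, 0, 0, 0, 0, 0, 0, -2, -2, -2, 2, 2, 0, 0, 0], [3, 1, 1, 1, 1, 1, 1, 1, -1, -1, -1, -1, 1, 1, -1, -1, -1, -1, 1, 1, -1, 1, -1, -1], [0, 0, 0, 0, 0, -2, 0, 0, 0, 0, 0, 0, 0, -2, -2, 0, 0, -2, -2, 0, 2, -2, 0, 2], [1, -1, -1, 1, 1, 1, -1, -1, -1, 1, 1, -1, 3, 1, -1, 1, -1, 1, 1, 1, -1, -1, 1, -1], [0, -2, 0, 0, 0, 0, 0, 2, 2, 0, 0, -2,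 0, -2, 0, 0, 2, 0, 0, 2, 0, 0, 0, -2], [2, 0, 0, 2, 0, 2, 0, 0, -2, 0, 0, 0, 0, -2, 0, -2, 0, 2, 0, 0, 0, -2, 0, 0], [1, 1, -1, -1, -1, -1, -1, 1, 1, -1, -1, -1, 1, -1, 1, 1, 1, -1, 1, 1, -1, -3, -1, 1], [-2, -2, 0, -2, -2, 2, 0, 2, 0, -2, 0, 0, 2, 0, 2, 0, 0, 0, 0, 2, 0, 2, 0, -2], [-2, 0, 2, 0, -2, 0, 0, 2, 0, -2, 2, 2, 2, -2, 0, 0, 2, 2, 2, 2, 2, 2, 0, -6], [6, 0, 2, 0, 0, 2, 0, 2, -2, -2, 0, 0, -2, -2, 0, -2, 2, 0, 2, -2, 2, 2, -2, 2], [4, 2, 0, -2, 2, 0, 0, 2, 0, 0, -4, -2, 0, 0, 0, -2, 2, -4, 0, 0, 0, 0, -2, 4], [-4, -2, 0, 2, 2, 0, -2, 0, 0, 4, -2, -2, 0, 0, -2, 0, 0, -2, 0, 0, 0, 0, 0, 0], [-2, 0, 0, 2, 0, 0, 0, 0, -2, -2, 2, 2, -2, 2, -2, -2, -2, 0, 2, -2, 2, 6, 0, -2], [-4, 0, 0, 0, 0, 0, 0, 0, 0, 0, 0,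 0, 8, 0, 0, 0, 0, 0, 0, 0, 0, 0, 0, 4], [-5, 3, -3, -7, -5, 3, -1, 1, 1, 3, -3, 1, -1, -1, 3, -3, 5, 1, -1, -7, -1, -5, -7, 1], [1, -1, 1, 1, -1, -1, -1, 1, 1, 5, 1, 1, -3, -1, -1, 1, 1, 1, 5, -1, 5, 5, 1, -1], [-1, 1, -1, -1, 3, 3, 1, -1, -3, 3, -3, -3, -1, 1, 1, -3, -1, -3, -1, 5, -1, -1, -3, -3], [3, 1, 1, -1, -1, -3, -1, 3, 3, -5, -1, 1, -1, -1, -1, 1, 3, -1, -1, 1, -1, -1, 1, -3], [-2, 0, 6, 4, 0, -2, 2, 4, -2, 6, 6, 4, -2, -2, -2, 0, 0, 2, -2, 2, -2, 2, 4, 6], [1, 1, -1, -1, -1, 3, 3, -3, -3, 1, 3, 1, 1, 1, 3, -1, -3, 3, 1, 3, 1, 1, -1, -1]],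
  [[-2, 0, -2, 0, 0, 0, 0, 0, 0, 0, 0, -2, 0, 0, -2, 0, 0, 0, 0, 0, -2, -2, -2, -2], [-2, 0, 0, 0, 0, -2, -2, -2, 0, 0, 0, 0, 0, -2, 0, 0, -2, -2, 0, 0, 0, 0, 0, -2], [1, -1, 1, 1, -1, -1, -1, -1, -1, 1, 1, 1, -1, -3, 1, 1, -1, -1, 1, -1, 1, -1, 1, -1], [0, 0, 2, 0, 0, 0, 2, 2, 0, 0, 0, 2, 0, 0, 0, 0, 2, 0, 2, 0, 0, 0, 2, 2], [-1, 1, -1, 1, -1, 1, 1, 3, -1, 1, -1, -1, -1, 1, -1, -1, -1, 1, 1, -1, -1, -1, -1, -1], [0, 2, 0, 0, 0, 0, 0, -2, 0, 0, 0, 0, 0, -2, 0, 0, -2, -2, 2, 0, 2, 0, 2, 0], [-1, 1, -1, 1, 1, 1, 1, 1, 1, -1, -1, -1, -1, 1, -1, -1, 1, -1, 1, -1, -1, -1, -3, 1], [0, 0, 2, 2, 0, -2, -2, 0, 0, 0, 0, 2, 0, 0, 0, 2, -2, -2, 0, 0, 0, 0, 0, 0], [3, 1, -1, 1, -1, 1, -1, -1, -1, -1, 1, -1, 1, 1, 1, -1, -1,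 -1, -1, -1, -1, 1, -1, -1], [1, 1, 1, -1, 1, -1, -1, -3, -1, -1, 1, 1, -1, -1, -1, 1, 1, -1, 1, 1, -1, -1, -1, 1], [-1, 1, 1, -1, 1, 1, -1, -1, -1, -1, -1, -1, 1, 3, -1, -1, -1, -1, -1, -1, 1, 1, -1, 1], [2, 0, 0, 0, 0, 2, 0, 0, -2, 2, 2, 0, 0, 0, 0, 0, -4, 2, -2, 0, 0, 0, 0, -2], [5, -3, -3, -1, -1, 1, -1, -1, -3, 1, 1, -1, -1, -1, 1, 3, -3, 1, -1, -3, 1, -1, -1, -1], [1, 1, -3, -1, 3, 1, 1, -5, 1, -1, 3, -1, 1, -1, -1, -1, 1, -1, 1, 1, 1, -3, 3, 3], [-2, 4, -2, 0, 2, 2, 0, -2, 2, 0, 0, -2, 0, 2, -2, -4, 0, -2, 2, 2, 2, 2, 2, 2], [0, 2, -2, 0, 0, -2, -2, 4, 2, 0, 0, 0, 0, 0, 2, 0, 0, -2, 0, 2, -2, 2, -2, -2], [-1, -3, -3, -1, -1, 1, 1, 1, 1, 1, 1, -1, -1, -5, 3, 3, -1, 1, 1, 1, -1, -3, 3, -1], [-1, 1, 1, 1, 1,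 1, 1, 3, 1, 3, 1, 1, -3, 1, -1, 3, -3, -1, -3, 1, 1, 3, -3, 3], [-3, 1, -3, -7, 1, -1, -1, -5, 3, 1, -1, -1, -3, 7, -3, -1, 3, 7, -7, 3, 1, 3, -3, -3], [4, -2, -6, 0, -2, 0, -2, 2, 2, 0, 0, 0, 4, 0, 2, 2, 2, 0, 0, 2, 0, -4, 2, 2], [0, 6, 0, -2, -2, -2, -4, 0, 0, 2, 0, 0, -2, 0, -2, -2, -2, 0, 4, 0, -2, 2, 2, -4], [1, -3, -1, 1, 1, 3, 1, -3, -3, -3, -1, -3, 1, 1, 1, -3, -1, -1, 1, -3, 3, 1, -1, -1], [6, 2, 0, 0, 2, 2, 4, 6, 0, -2, 0, 6, -4, 0, 6, 2, 6, 0, 2, 0, 0, -2, 0, 4], [1, 1, 3, -1, -3, -1, -1, -1, -1, 3, 1, 3, -1, -1, -3, 3, -1, 3, 1, -1, -1, -3, 3, 1]],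
  [[0, -2, 0, 0, -2, 0, -2, 0, -2, 0, 0, -2, 0, 0, 0, 0, 0, 0, 0, 0, 0, -2, -2, -2], [0, 0, 0, -2, 0, 0, 0, 0, 0, -2, -2, 0, 0, -2, 0, -2, 0, 0, -2, 0, 0, -2, 0, -2], [0, 0, 0, -2, 0, 0, 0, 0, 0, -2, -2, 2, 0, 0, 0, 0, -2, -2, -2, 0, 0, 0, 2, 0], [0, 0, 0, 2, 0, 0, 0, 2, 0, 2, 0, 2, 0, 0, 0, 0, 0, 0, 0, 2, 0, 2, 2, 2], [0, -2, 0, 2, 0, -2, -2, 0, -2, 0, 0, 0, 0, 0, -2, 2, 0, 0, 0, 0, 0, 0, -2, 0], [-1, 1, 1, -1, 1, -1, -1, -1, 1, -1, -1, 1, 1, -3, 1, -1, -1, -1, -1, 1, 1, -1, 1, 1], [-1, -3, 1, 1, -1, 1, -1, -1, -1, 1, 1, -1, -1, -1, -1, 1, 1, 1, 1, 1, -1, -1, -1, 1], [1, -1, -1, -1, 1, 1, 1, 1, 1, -1, -1, 1, 1, -1, -1, -1, -1, 1, -3, -1, -1, -1, 1, 1], [0, 0, 0, 0, 0, 0, 0, -2, 2, -2, 2, -2, 0, 0, -2, 0, 0, -2,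 0, -2, 0, 0, 0, 0], [1, 1, -1, -1, -1, 3, -1, -1, 1, 1, -1, -1, -1, -1, 1, -1, -1, -1, -1, 1, -1, -1, 1, 1], [-1, 1, -1, 1, 1, -1, 1, -1, 1, 1, 1, -1, -1, -1, -1, -1, 1, 1, 1, -1, -1, -3, -1, 1], [2, 2, 0, 0, 0, -2, 0, 0, 0, -2, 0, 0, 0, 0, 0, 2, -2, -2, 0, -4, 0, 0, -2, 0], [0, 0, -2, -4, 0, -2, 2, -2, 0, -2, 0, -2, 0, 2, 0, 4, -4, -4, 0, -2, 0, 0, 0, 0], [-2, 4, 2, -2, -2, 2, -2, 0, 0, 0, 2, -2, 2, -2, 4, 0, 0, -2, 2, 2, 0, -2, 2, 2], [-2, 2, 2, 2, 2, 0, -2, -2, 0, 0, 2, 0, 2, -4, 2, -2, 4, 0, 2, 2, 0, -2, -2, 2], [1, -3, 1, 1, 1, 1, 1, -1, -1, -1, -1, -3, 1, -1, -1, -1, 3, 1, -3, -1, 1, 3, -1, -1], [-1, -1, 1, -3, -1, -1, -1, 3, -3, -3, -3, -1, 1, 1, 3, 1, -3, -1, 1, 1, 3, 3, 1, -1], [3, -3, 1, 1, 3, 1, 3, 1,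 1, 1, -3, 1, 1, -1, 1, 3, 1, 1, 1, -3, -1, -1, -3, 3], [0, 6, -4, 2, 0, 4, 2, -4, 0, 4, 0, -2, 0, 2, 4, 2, 4, 4, 4, -2, 0, -2, -8, -8], [-2, 0, 0, -4, -2, 0, 0, 0, -2, 0, 2, -4, 6, 4, 0, 0, 0, 0, 0, 0, 2, 4, 2, 2], [2, 2, -2, 4, 2, 0, -2, -4, -2, -2, -2, 0, 2, -4, -2, -2, 0, -2, -4, 2, 2, 0, -2, -2], [-4, 0, 0, -2, 0, -4, 0, -2, 2, -2, 4, 0, -4, 0, 0, 0, 0, -2, 2, 0, -2, -2, 0, 0], [-2, -2, 0, 2, 0, 4, 0, 0, 0, 4, 0, 0, -2, 0, 0, 6, 0, 0, 0, 0, 0, 10, 6, 6], [3, 3, -3, 1, -1, 1, -1, 1, -1, 1, -3, 3, 3, 1, -1, 1, -5, -1, -1, 1, 1, -1, 1, 1]],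
  [[0, -2, -2, 0, 0, 0, -2, 0, 0, 0, -2, 0, -2, 0, -2, 0, 0, 0, 0, 0, 0, 0, -2, -2], [0, 0, 0, 0, 0, -2, 0, 0, 0, 0, 0, 0, 0, -2, -2, 0, 0, -2, -2, 0, -2, -2, 0, -2], [-1, 1, -1, 1, -1, -1, 1, -1, -1, 1, 1, -1, 1, -1, -1, 1, 1, -1, -1, -1, -1, -1, 3, -1], [-1, 1, 1, 1, 1, 1, 1, 1, -1, 1, -1, -1, 1, 1, 1, -1, 1, 1, 1, -1, 1, -1, 1, 3], [-1, -1, -1, -1, 1, 1, -1, 1, -1, -1, -1, -1, -1, 3, -1, 1, 1, 1, -1, -1, 1, 1, -1, -1], [0, 0, 0, 0, 2, -2, 2, 0, 0, 0, 2, 0, 0, 0, -2, 0, 0, 0, 0, 0, -2, -2, 2, 0], [0, -2, 0, 0, 0, 0, -2, 2, 0, 0, -2, 0, -2, 2, 0, 0, 0, 2, 0, 2, 0, 0, 0, 0], [-1, 1, 1, 1, -1, -1, -1, 1, -1, 1, 1, 1, 1, -1, -1, 1, -1, -1, -3, -1, -1, -1, 1, 1], [-1, -1, -1, -1, -1, 1, -1, -1, 1, -1, 3, 1, -1, 1,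 1, -1, -1, -1, -1, 1, -1, 1, 1, -1], [0, 0, 0, 2, 0, -2, 0, 0, 0, 2, 0, 2, -2, -2, 0, -2, 0, 0, 0, 0, 0, 0, 2, 0], [0, 0, 2, -2, 0, 0, 0, 2, 2, -2, 0, 2, -2, 0, 0, 0, -2, 0, 0, 0, 0, 0, 0, 0], [0, 2, -2, 0, 0, 0, 0, -2, 0, -2, 2, 2, 0, 2, 0, 2, 0, -2, 0, -2, 0, 2, 0, -2], [-1, -1, -3, -1, -3, -1, -1, -3, 1, -1, 3, 1, 1, -1, 1, 3, 1, 1, 1, -3, -1, 3, 3, -3], [2, 0, -2, 2, 2, 0, 2, -2, 2, 0, 0, 2, -2, -2, -2, -2, 0, 2, 4, 2, -4, 0, 2, 2], [3, -1, 1, -1, 5, 1, 3, 3, 1, -1, 1, 1, -3, 1, -1, -1, -1, 1, 1, 3, -3, -1, -1, 1], [0, -4, 0, 0, 2, 0, -2, 0, -2, 0, 0, 0, 2, 0, 2, 0, 0, -2, -4, 2, 0, 0, -2, 0], [1, -1, -3, 1, 1, -1, -1, -3, -1, 1, -1, -3, 5, -1, -3, 1, 3, -1, 3, -1, -1, 1, 1, -1], [3, -1, 3, 3, -1, -1, -1, 3,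 -1, -1, 1, 3, 1, 3, 1, 5, 1, -1, -1, -1, 1, 1, -1, 1], [6, 0, 2, -2, -2, 0, 4, 0, 0, -2, -2, 6, -2, -4, 2, -2, -2, 2, 2, 2, 4, 4, -10, -6], [0, -4, -4, 0, 0, 2, 0, -4, 2, 2, 0, -2, 4, -2, 0, 0, -2, 2, 0, 0, -2, 4, 0, 4], [-1, -1, -3, -1, 5, -1, 3, 3, -3, -1, 3, 1, -1, -1, -1, -3, 1, -1, -5, -1, 1, -1, -1, -3], [-1, 1, 1, -5, -1, 1, -1, -1, 3, -1, 1, -1, -3, 1, 1, 1, -1, 1, 3, 1, -3, -1, 3, -3], [-2, -2, 2, 2, 0, 0, 0, -2, -6, 2, -2, 0, 4, 4, 6, -2, 2, 4, 2, 2, 2, 4, 6, 6], [-1, 3, -3, 3, -1, -1, 3, 1, -1, 1, 1, 1, 1, -1, -3, -1, 1, 1, -1, -5, 3, 1, 1, 1]],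
  [[-1, -1, 1, -1, -1, -1, -1, -1, 1, 1, 1, 1, -1, 1, -1, -1, -1, -1, -1, -1, -1, -1, 1, -3], [0, 0, 0, 0, 0, 0, 0, 0, 0, -4, 0, 0, 0, 0, 0, 0, 0, 0, 0, 0, 0, 0, 0, -4], [-1, -1, -1, 1, 1, 1, 1, -1, -1, -3, -1, 1, -1, -1, 1, -1, 1, 1, 1, -1, 1, 1, -1, -1], [0, 0, 0, 4, 0, 0, 0, 0, 0, 0, 0, 0, 0, 0, 0, 0, 0, 0, 0, 0, 0, 0, 0, 4], [0, -2, 0, 0, 0, 0, 0, -2, 2, 2, 0, 0, 0, 0, -2, -2, -2, 0, 0, 0, -2, 0, 0, 0], [1, -1, 1, 1, -1, 1, 1, 1, 1, -3, -1, -1, -1, -1, 1, -1, 1, 1, 1, 1, 1, 1, 1, -1], [0, 0, 0, 0, 0, 0, 0, 0, 2, 2, 0, 0, 0, 2, -2, -2, 0, -2, -2, 0, 0, 0, 2, 0], [-1, 1, -1, 1, 1, 1, 1, -1, -1, -3, -1, 1, 1, 1, -1, 1, -1, 1, 1, 1, 1, 1, 1, -1], [-1, -1, -1, -3, 1, -1, 1, 1, -1, 1, -1, -1, 1, -1, 1, -1, -1, -1,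 1, 1, 1, 1, 1, -1], [0, 0, 0, 0, 0, 0, 0, 2, -2, -2, 0, 0, -2, 2, 0, 0, 0, 0, 0, -2, 2, 0, 2, 0], [1, 1, 1, -1, 1, -1, -1, 1, 1, 1, -1, -3, 1, 1, -1, 1, -1, 1, -1, 1, 1, 1, 1, -1], [-1, -1, 1, -3, 1, 1, 1, -1, -1, 1, -1, -1, 1, -1, 1, -1, -1, 3, 3, -1, -1, -1, -1, -1], [-1, -3, -1, -5, 1, -1, 1, -3, -3, 1, -3, 1, -1, -1, 1, -1, 3, 3, 1, -1, 1, 1, -1, -1], [1, 1, 5, -1, -1, -1, -1, 3, 1, -1, -1, 1, -3, -1, 3, -1, 3, -1, 1, -1, 3, -1, 3, 1], [3, 1, 3, -1, -1, 1, -1, 3, 5, -1, 1, -3, -1, -1, 1, -1, -1, -1, -1, 3, 1, -1, 3, 1], [1, -1, -3, -1, -1, 1, -1, -1, -1, -1, 3, 1, 3, 1, -1, -1, -1, -3, 1, 3, -1, -1, 1, -1], [-1, -3, 1, 1, -1, 1, -1, -1, -1, -1, 1, 5, -1, -3, 1, -1, 5, 1, 1, -1, -3, -1, -1, -1], [0, 2, -2, -2,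 0, 4, 0, -2, 2, 0, 0, 0, 4, 4, 0, 0, 0, 4, 0, 0, -2, 0, 2, 2], [3, 3, 1, -9, -5, 1, -5, 3, 1, 3, 1, -3, -1, 3, -1, 7, -3, -1, -3, -3, -1, -5, -5, -1], [1, -1, -1, -1, -1, -3, -1, -1, -1, 3, 1, 7, -1, -3, 1, 1, 3, -1, 3, 3, 3, -1, 1, 1], [1, -5, -1, -1, -1, 1, -1, 1, 1, -5, 1, -3, -3, 1, -1, -1, -5, -1, 3, 3, -1, -1, -1, -1], [0, 0, 2, -2, 2, -2, 2, 0, 0, 2, -2, -4, 0, -4, 0, -2, 2, 0, -4, 0, 2, 2, 0, -2], [2, -2, -4, 4, 0, 4, 0, 0, -4, 4, -2, 2, 2, 0, -2, -2, 4, -4, 2, -2, 2, 0, 2, 10], [-2, -2, 0, 2, 0, 0, 0, 0, 0, -2, -2, 2, -4, 2, 0, 2, -2, 4, 4, -2, 0, 0, -2, 2]]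
]

/-- tables of the elements -/
def threeC7 : List (List ℕ) := [
  [9900230, 11360022, 7998108, 4166322, 12566663, 880805, 3792638, 16454450, 4960302, 4444369, 7639579, 2185996, 13241739, 1137541, 13355075, 15959334, 2570680, 15839401, 9015291, 5780, 9235029, 3737169, 4040255, 15128992],
  [7061389, 1634396, 11007594, 6690795, 13292298, 13561948, 11152861, 14852189, 7468876, 281783, 16226751, 3491898, 12034896, 14945514, 6976152, 8251592, 193643, 3637467, 8010001, 2278107, 13793335, 9407341, 6474820, 5489537],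
  [13473896, 10936321, 6575956, 11922854, 3954904, 2873482, 15217795, 8962630, 7669085, 3529434, 1085463, 13728004, 9685182, 4263936, 9894390, 12140553, 10955769, 8811590, 9422684, 3361981, 12723012, 9622849, 6832400, 3867273],
  [266011, 16717629, 266014, 8433665, 10077697, 2791228, 10573575, 6246254, 76804, 7503872, 14404676, 14497817, 7760369, 16175425, 2048494, 13566273, 10983477, 14626841, 8383445, 4759744, 4127085, 15786436, 3616693, 2416857],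
  [131072, 3920927, 15634701, 10996018, 15000597, 6529034, 9463664, 4966804, 5094415, 7314372, 1436492, 15522481, 9616227, 2243634, 11984446, 2403216, 10783426, 565034, 8314647, 9616355, 2168387, 2946556, 4460951, 359575],
  [131072, 6426922, 6607240, 13111458, 16527522, 10599081, 131137, 12683537, 8781958, 7487124, 11449382, 12448323, 4717023, 4989412, 6451993, 6423459, 3947361, 565034, 12011078, 13187371, 14315875, 12513512, 1685981, 7068602],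
  [6096925, 10338417, 3617857, 3780608, 6302298, 12003860, 10573575, 9340947, 13061284, 3430158, 14838713, 13143550, 12823435, 5173722, 8888646, 1681453, 3923297, 7245689, 12124059, 13757536, 9552704, 15663157, 3679779, 7756775],
  [16404481, 10338417, 1038104, 86873, 9523282, 2253303, 131137, 8907823, 13061284, 3396163, 11490076, 329080, 15377093, 1787732, 16457350, 10295124, 9269735, 16273408, 5571810, 6766822, 3020151, 8511477, 6782598, 12339361],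
  [569265, 1864137, 16372735, 5676601, 3765459, 7549198, 15389678, 16559969, 13092879, 10823364, 4141164, 7519756, 11996675, 13398751, 5438667, 3416796, 13606795, 10650893, 13251640, 7611319, 3445874, 9951248, 7658194, 11974783],
  [2096396, 14707791, 4432884, 14027428, 15291077, 281991, 13315073, 609344, 9146620, 3180050, 3436281, 795715, 2370174, 10385177, 9669101, 9219910, 3231319, 3162275, 15879982, 2898537, 13909731, 12707598, 5464085, 3837199],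
  [6658260, 65, 10878154, 15390193, 1708394, 4761785, 3115476, 4166387, 9879018, 1219565, 3319997, 13488867, 16592009, 7445529, 6837656, 9519793, 14670477, 16275545, 7930844, 11315693, 6434177, 14899222, 5562202, 7451364],
  [11297277, 6696960, 10222412, 3788800, 10893081, 440262, 3286551, 1293130, 14681534, 13993759, 15628427, 4658431, 6176859, 7622055, 15644084, 15290353, 8017852, 5665542, 12142010, 9463834, 7926968, 8297638, 1918951, 7308272]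
]

/-- images of the basis -/
def threeW8 : List (List (List ℤ)) := [
  [[1, -1, -1, -1, -1, -1, -1, 1, -1, 1, -1, -1, -1, -1, 1, 1, -1, 1, -1, -1, -1, 1, -1, -3], [-2, 0, 0, -2, 0, -2, -2, 0, 0, -2, 0, 0, 0, 0, 0, -2, 0, 0, 0, -2, 0, 0, 0, -2], [-2, -2, 0, 0, 0, 0, -2, 0, 2, -2, 0, 0, 0, 0, 0, -2, 0, 0, 2, 0, 0, -2, 0, 0], [0, 0, 0, 0, 0, 2, 2, 2, 2, 0, 2, 0, 0, 0, 0, 0, 0, 0, 0, 2, 0, 0, 2, 2], [2, -2, 0, 0, -2, 2, 0, 2, -2, 0, 0, 0, 0, 0, 0, 2, 0, 0, 0, 0, 0, 0, 0, -2], [-2, 0, 0, -2, 0, 2, -2, 0, 0, -2, 0, 0, 0, 0, 0, -2, 0, 0, 0, -2, 0, 0, 0, 2], [2, 0, 0, 0, 0, 0, 0, 2, -2, 0, 0, -2, 0, 0, 0, 2, -2, 2, -2, 0, 0, 0, 0, 0], [-1, 1, 1, -1, 1, -1, -1, 1, 1, -1, 1, 1, 1, 1, 1, -1, 1, 1, 1, -1, 1, -3, 1, -1], [1,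 1, 1, 1, 1, 1, -1, -3, -1, -1, -1, -1, -1, 1, -1, 1, 1, 1, 1, -1, -1, -1, -1, -1], [-1, 1, -1, -1, 1, -1, -1, -1, 1, 1, 1, -3, 1, -1, 1, -1, -1, 1, 1, -1, -1, -1, 1, 1], [2, 2, 0, 0, 0, 0, 0, -2, -2, 0, 2, 0, 0, 0, 0, 0, 0, 0, -2, -2, 2, 0, 0, 0], [1, -3, 1, 1, -1, 1, -1, -3, -1, 1, -1, 1, 1, 1, 1, -1, 3, -1, 1, -1, -1, -1, -1, -1], [0, -2, 0, 2, -2, 0, -4, -4, 0, 0, -2, 0, 0, -2, 0, 0, 2, 0, 2, 2, 0, -4, -4, 0], [-1, 1, 1, -1, 1, 1, -3, -1, 1, 3, -1, -3, -3, -1, 1, -3, -1, 1, -1, -1, -1, 3, -1, 5], [0, 2, 2, -2, 0, 2, 0, 0, -4, 0, 0, 0, -2, 0, 0, 0, -2, 0, -2, -4, 0, 4, 2, 4], [-2, 2, 0, 0, 0, -2, 0, 2, -2, -2, -2, 0, 0, 2, 0, 4, 2, 0, 0, 0, -2, 0, 2, -2], [-1, -3, -1, -1, -1, -1, -3, 3, 3, -1, -3, 1, -1, -1, 1,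 -1, 1, -3, 1, 3, -3, 1, -3, 1], [1, -3, 1, -1, 1, -3, 1, 1, -3, 1, 1, 3, 3, 1, 1, 3, 3, 1, -1, -1, 1, -3, 1, 3], [-2, 2, -2, 0, -2, -6, 4, -6, -6, 10, 0, 2, 2, 0, -2, 2, -4, -4, -2, -2, 0, 4, -2, -2], [0, 4, 0, 2, -2, 0, -2, 2, 4, 2, -6, 0, -4, 0, 0, 2, 2, 0, 2, 2, 0, 0, -2, 2], [-3, 1, -1, -3, -3, 3, -3, -1, -3, -1, 1, 1, 1, 1, -1, 1, -1, -1, 3, -3, -3, 1, 5, -3], [2, 0, 2, 2, 0, 2, 0, -4, -2, -4, 0, -2, -2, -2, 0, -2, -2, 0, -2, 0, 2, 0, -4, 0], [-1, 1, -1, 5, 1, 3, 3, 5, 1, 1, 1, -5, 1, 3, -1, 3, 1, -1, 1, 7, -3, -5, 1, 7], [0, -2, -2, -2, -2, 2, -2, 0, 4, 4, 2, 2, 2, 0, 0, -2, 0, 0, 4, 0, 0, -2, 2, 0]],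
  [[0, 0, -2, -2, 0, 0, 0, 0, 0, 0, 0, 0, 0, 0, 0, -2, 0, -2, 0, -2, -2, -2, 0, -2], [-1, -1, -1, -1, -1, 1, -1, -1, 1, 1, -1, -1, -1, -1, -1, 1, -1, -1, -1, -1, 1, 1, 1, -3], [-3, -1, -1, 1, -1, 1, -1, 1, -1, 1, -1, -1, 1, -1, -1, 1, -1, 1, -1, 1, 1, 1, 1, -1], [-1, 1, 1, 1, -1, -1, 1, 1, 1, -1, 1, 1, 1, 1, -1, 1, -1, 1, 1, 1, -1, 1, 1, 3], [0, 2, -2, 0, 0, 0, 0, 0, -2, -2, 0, 2, 0, 0, 0, 0, 0, 0, 0, -2, -2, -2, 0, 0], [-2, 0, 0, 0, 0, 2, -2, 0, 2, 0, -2, 0, 0, 0, 0, 2, -2, 0, 0, 0, 2, 0, 0, 0], [1, 1, -1, -1, -1, -1, -1, -1, 1, -1, 1, 1, 1, 1, 1, -1, 1, -1, -1, -1, -1, -3, 1, 1], [0, -2, 0, 0, -2, 2, 0, 0, 0, 0, 0, 0, 0, -2, 0, 2, 0, 0, -2, 0, 0, 2, 2, 0], [0, -2, 0, 0, 0, 0, 0, 0, -2, 0, 0, 0, -2, 0, 2, 0, 0,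 0, -2, 0, 2, -2, -2, 0], [0, -2, 0, -2, -2, 0, -2, 2, 2, 2, 0, 0, 0, 0, 0, 0, 0, 0, 0, 2, 0, 0, 0, 0], [3, -1, 1, -1, 1, -1, -1, -1, 1, -1, -1, 1, -1, -1, -1, 1, 1, -1, -1, -1, 1, -1, -1, 1], [-1, -1, -1, 1, 3, 1, -1, 1, -3, 1, -1, 1, -1, -1, 1, 1, 1, 1, -1, -1, -1, 1, -3, -1], [0, -2, 0, 2, 2, 2, -2, 2, -6, 2, -2, -2, 2, 0, 0, 0, 0, 0, -2, 2, 0, -2, -2, -2], [-1, -1, -1, -1, 1, 1, -1, 1, 5, 3, -3, -3, 1, 3, 1, -1, -1, -1, 1, 1, 1, -1, -3, 3], [1, 3, -1, -3, 1, 1, -1, -3, 5, -1, -1, 1, -1, 1, 1, 1, -1, -1, 1, -1, 3, -1, -3, 3], [0, 0, 0, -2, -2, 2, 2, -4, -2, 0, 2, 2, -2, 2, 2, 0, 0, 0, 0, 0, 0, 0, 2, -2], [-3, 1, -1, 3, 1, 3, 1, 1, -1, 3, -1, -1, 3, 3, -1, -3, -3, 1, 1, -1, -1, 1, 1, -3], [2, 2, 2, -2, 2, 2, -2,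 -2, -2, 2, 2, 2, 2, -2, 2, 2, 2, 2, -2, -2, -2, 2, 2, 2], [8, 4, 2, -6, 4, -4, -2, -2, 0, 0, -2, -2, -4, -2, 2, -6, 4, -2, 4, 2, -2, 4, -4, -4], [0, -2, 0, 2, 0, 6, 4, 0, -2, 0, 0, -4, 0, 4, 0, -4, 0, 0, 2, 2, 0, -2, 0, 2], [-2, 2, -2, -4, -4, 2, -2, 0, -2, -2, -2, 4, -4, 0, 0, 2, -2, -2, 2, 0, 2, 2, -2, -2], [1, -1, -1, 3, 3, -3, -1, -1, 1, -1, -1, -1, 1, -1, -1, 1, -1, -1, -3, 1, 3, -5, -3, -1], [-1, 1, 3, 3, -3, -1, 1, 1, -1, -1, 1, 3, 3, 7, 3, -1, 1, 7, -1, 7, -3, -1, 3, 5], [-2, 0, 0, 0, -2, 2, -2, 6, -2, 0, -2, 0, 0, -2, -2, 0, 0, 0, 2, 0, -2, 4, 0, 2]],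
  [[-1, 1, -1, -1, -1, -1, 1, 1, -1, 1, -1, -1, -1, 1, -1, 1, -1, -1, -1, -1, -1, -1, 1, -3], [3, -1, -1, -1, -1, -1, -1, -1, -1, -1, -1, -1, -1, -1, -1, -1, -1, -1, -1, -1, -1, -1, -1, -1], [2, 0, 0, 0, 0, 0, -2, 0, 0, -2, 0, 0, 2, 0, -2, -2, 0, 0, 0, 0, -2, 0, -2, 0], [-1, 1, 1, 1, -1, 1, -1, 1, 1, 1, 1, 1, 1, -1, 1, -1, 1, 1, 1, 1, -1, -1, 1, 3], [-3, -1, -1, -1, -1, 1, 1, 1, -1, 1, 1, -1, 1, 1, -1, 1, 1, -1, -1, 1, -1, -1, 1, -1], [3, -1, -1, -1, -1, 1, -1, -1, -1, -1, 1, 1, 1, -1, -1, -1, -1, -1, 1, -1, -1, 1, 1, 1], [-1, 1, 1, -1, -1, 1, 1, 1, -1, 3, 1, -1, -1, 1, 1, 1, -1, -1, -1, 1, -1, 1, 1, -1], [2, 0, 0, 0, -2, 0, 0, 0, 0, -2, 0, -2, 0, 0, 0, -2, 0, 0, -2, 0, 0, 0, -2, 2], [0, 0, 0, 0, 2, 2, 2, -2, 0,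 -2, 0, 0, 0, 0, 0, 0, 0, 0, -2, 0, 0, 2, 0, -2], [2, 2, 0, 0, 0, 0, 0, 2, 0, 0, -2, 0, 0, -2, 0, -2, -2, 0, 0, 0, 0, 2, 0, 0], [0, -2, 0, 0, 0, 2, 2, 0, 0, 0, 0, 0, -2, 0, 2, 0, -2, -2, 0, 0, 2, 0, 0, 0], [-1, -1, -3, 1, 1, 1, 1, -1, 1, -3, -1, -1, 1, 1, -3, 1, 1, -1, 1, 1, 1, 1, -1, -1], [0, 0, 0, 0, 2, 2, -2, 0, 0, -4, -2, 0, 4, 4, -2, 0, 0, 0, 0, 0, 2, 2, -2, -4], [3, 3, 1, 1, 1, 1, -1, 1, -1, -1, -1, 3, -1, -1, -1, 3, -3, -1, 3, -3, -1, 3, 3, 1], [2, -2, 0, -2, 0, 2, 2, 0, -2, 2, 2, 2, -4, -2, 0, 2, 0, -2, 2, -2, 0, 2, 4, 2], [0, 0, 0, -4, 0, -2, 0, -2, 0, 0, 0, -2, -2, 0, 0, 0, 2, 2, -4, 2, 0, 0, 2, 0], [2, 2, 0, 0, 0, -4, -4, 0, 0, -2, 0, 0, 4, 2, -2, 2, 2, 0, 2, 0, -2, -2, 2, -2], [1, 1, -3, -3, -1, 1, 1,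 1, 1, 1, 1, -3, -1, 3, 1, 1, 3, -1, 1, 3, 3, 1, -3, 3], [-3, -3, -3, -1, 1, -5, 3, 3, -1, 3, -3, 3, -7, -3, 1, 5, -1, 3, 3, -1, 9, 1, -3, -5], [-1, 3, 5, -1, 1, -3, -1, -1, 1, -3, -1, 3, 3, 3, -1, 3, 1, 1, -3, -3, 1, 1, 3, 1], [1, -3, -3, -3, -1, 1, 1, 1, -3, -1, 1, 1, -1, -5, -5, -3, 1, 1, -3, 1, 1, -1, 3, -1], [0, -4, 2, 2, 2, 4, 0, -2, 0, 0, 0, 0, 0, 2, 2, 0, -2, -2, 2, -2, -2, 2, 0, -4], [-4, 4, 4, 0, 0, 0, -4, 2, 2, 0, 2, 2, 4, 0, 4, 0, 2, 4, 0, 8, -2, 6, 2, 4], [0, 2, -2, 2, -2, 0, 0, 4, 0, -2, 0, 2, 4, -2, -4, -2, 0, 0, 0, 0, 2, -2, -2, 2]],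
  [[-2, -2, 0, 0, 0, 0, 0, -2, 0, 0, -2, -2, 0, 0, 0, 0, 0, -2, 0, 0, 0, 0, -2, -2], [1, -1, -1, 1, -1, 1, -1, 1, -1, -1, 1, -1, -1, -1, -1, -1, -1, -1, -1, -1, 1, 1, -1, -3], [1, -1, -1, 1, -1, 1, -1, 1, 1, -1, 1, 1, -1, -1, -1, -1, -1, 1, 1, -3, -1, 1, 1, -1], [1, 1, 1, -1, 1, 1, 1, 1, -1, -1, -1, 1, 1, 1, 1, 1, -1, 1, 1, -1, -1, 1, 1, 3], [-1, -1, -1, -1, -1, -1, -1, -1, 1, -1, -3, -1, 1, 1, 1, -1, -1, -1, 1, 1, -1, -1, -1, 1], [2, 0, -2, 0, 0, 2, 0, 2, 0, 0, 2, 0, 0, 0, 0, -2, 0, -2, 0, -2, 0, 0, 0, 0], [-2, 2, 0, 0, 0, 0, 0, -2, 0, 0, -2, -2, 0, 0, 0, 0, 0, -2, 0, 0, 0, 0, -2, 2], [1, -1, -1, 1, -1, 1, -1, 1, -1, -1, 1, -1, -1, -1, -1, -1, -1, 3, -1, -1, 1, 1, -1, 1], [0, 0, 0, 0, 0, -2, -2, 0, 0, 2, 0, 0,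 0, -2, -2, -2, 2, 0, 0, 0, 0, -2, 0, 0], [0, 0, 2, 0, 2, 2, 0, 0, 0, 0, 2, 0, -2, -2, 0, 0, 0, 0, 0, -2, 0, 0, -2, 0], [2, 2, 0, 0, 0, 0, 0, 0, 0, 0, 0, -2, 0, 0, 0, 0, 2, 0, -2, 2, 0, -2, -2, 0], [1, -3, -1, -1, -1, -1, -3, -1, 3, 1, 1, 1, 1, -1, 1, -1, 1, 1, -1, 1, -1, -1, 1, -1], [0, -2, -2, 0, 0, -2, 0, -2, 6, 0, 0, 2, -2, -2, -2, -2, 2, 2, 0, -2, 0, -2, 2, -2], [1, -1, 1, 1, 3, 1, 3, 1, 1, 3, 3, -1, -1, -1, 1, 1, 3, -5, -1, -3, -1, 1, 1, 1], [2, 2, -2, 0, 2, 0, 0, 2, -2, 2, 2, -2, 0, 2, 2, 0, 2, -6, 0, 2, 0, 0, -2, 2], [-2, 0, 0, -2, 0, -2, -2, 0, -2, 0, 0, -2, 0, 0, -2, -2, -2, 0, 2, 2, 4, 2, 0, 0], [-3, -3, -1, 1, 1, 1, 1, 1, 3, -1, -1, 1, 1, 1, 1, -1, -1, -1, 1, -3, 1, 3, 5, -3], [1, 1, -3, 1, 1, 1, -3,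 -3, 3, 1, 1, -1, 1, 1, 1, 1, -3, 3, -1, 3, 3, 1, -1, 3], [-3, 1, 1, -3, 1, -3, 3, -1, 1, 5, 3, 1, -3, 1, 3, 7, -1, -1, -3, 9, 1, -3, -5, -7], [-3, -3, 1, 1, 1, -5, 5, 1, 1, 1, 1, -1, 1, 1, -1, -1, 3, 1, 3, -3, 3, 1, 3, 1], [2, -2, -2, -4, 0, 0, -2, 4, -2, 0, 0, 0, -2, -2, 2, -4, -2, -2, 4, 2, 0, 0, -4, -2], [1, 3, -1, 1, -1, -1, -1, -1, 1, -1, -1, 1, -1, 1, -3, -1, 5, -3, -3, -1, -3, -3, 1, -1], [-5, 5, 3, -5, 3, -1, 1, 1, 3, -1, 1, 1, 1, -1, -1, 1, -3, 3, 3, -3, -1, 1, 5, 9], [2, -4, 0, 0, 0, 2, 2, 2, 2, 0, 0, 2, 0, -2, 4, 0, -2, 4, 2, -2, -2, 0, -2, 0]],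
  [[0, 0, 0, 0, 0, 0, 0, 0, 0, 0, 0, 0, 0, 0, 0, 0, 0, 0, 0, 0, 0, -4, 0, -4], [0, 0, -2, -2, 0, 0, -2, -2, 0, -2, -2, 0, 0, 0, 0, 0, 0, -2, 0, 0, 0, 0, 0, -2], [0, 0, 0, -2, 0, 0, 0, -2, 0, 0, -2, -2, -2, 0, 0, 2, 0, -2, 0, 0, 0, 2, 0, 0], [-1, -1, -1, 1, 1, 1, 1, 1, -1, 1, 1, -1, -1, 1, 1, 1, 1, 1, -1, 1, 1, 1, 1, 3], [0, -2, 0, 0, 0, 0, 0, 2, 2, 2, 2, 0, -2, 0, 0, 0, 0, 0, 0, 0, 0, -2, 0, -2], [1, -1, -1, -1, -1, 1, -1, -1, 1, -1, -3, -1, -1, -1, 1, -1, 1, -1, 1, 1, 1, 1, 1, 1], [0, 0, 0, 2, 0, 0, 0, 2, 0, 2, 0, 2, 0, 0, 0, 0, 0, 0, 0, 2, 0, -2, 2, -2], [-1, 1, -1, -1, 1, 1, -1, -1, 1, -1, -1, 1, -1, 1, -1, 1, -1, -3, -1, 1, 1, 1, -1, 1], [1, 1, 3, 1, -1, -1, -1, 1, 1, -1, -1, 1, -1, -1, 1, -1, -1, -1, -1, -1,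 -1, 1, -1, -1], [0, 2, 0, 0, 0, 2, 0, 0, -2, -2, -2, 0, 0, -2, 0, 2, 0, 0, 0, 2, 0, 0, 0, 0], [0, 0, 0, 0, 0, 0, -2, 2, 0, 0, 0, 2, 2, -2, 0, -2, -2, 0, 0, 0, 2, 0, 0, 0], [0, 0, 2, -2, 0, 0, 0, 0, 4, 0, 0, -2, 0, -2, 0, 0, -2, 0, 0, -2, -2, 0, -2, 0], [1, 1, 5, -3, -1, -3, 1, 1, 1, 1, -3, -3, -1, -1, -3, 1, -1, -1, 1, -1, -1, 1, -3, -1], [1, 1, 3, 1, -1, 1, 1, -1, -1, -3, -3, -3, 3, -1, 3, -1, 1, 1, 3, 3, 1, -1, 3, 1], [2, -2, 0, 2, 0, 2, -2, 0, 2, -2, 0, 2, 2, -2, 2, -4, 2, 2, 2, 2, 2, 0, 4, 0], [1, 1, -1, 1, 1, -1, -3, -1, 1, -1, 1, 3, -3, 3, -1, -1, 1, 1, -1, 1, -3, -1, -1, -1], [1, -1, 1, -3, -1, -1, 1, -3, -1, 1, -1, -5, -1, 3, -1, 1, 3, -1, 1, -1, -3, -3, 1, 1], [0, 0, 0, -2, 4, 2, 0, 0, 4, 4, 0, 4, 2, 0,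 -2, 0, 0, 0, 0, 2, -2, 0, -2, 2], [-2, -2, 0, 0, -2, 0, 2, -2, -2, -4, 4, 6, 8, -4, -4, -2, -2, 8, 4, -2, -2, -2, -4, -4], [3, 3, 5, 1, -3, -1, 1, -1, -1, -1, 1, -3, -1, 7, -1, -1, 1, 1, 1, 1, 1, -1, -1, 1], [2, -4, -2, -2, 0, 2, -2, 0, 2, -6, 0, 2, -6, -2, 0, 0, 0, 2, 0, 0, 0, 0, 0, -2], [0, 0, 2, 2, -2, -4, -2, 2, 0, 2, -2, -2, 2, -4, 0, -2, 0, -2, 0, -2, 2, 2, 2, -2], [-3, 1, 3, 5, -1, 1, 1, 3, -3, 5, 1, -1, -5, 3, -1, 3, 1, 3, 1, 5, -5, 3, 1, 7], [0, -2, 0, -4, 0, 4, 4, 0, 0, -2, 0, -2, -2, 0, 0, 4, -2, 0, 0, 0, 2, 0, -2, 2]],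
  [[0, 0, 0, 0, 0, -2, 0, 0, 0, 0, -2, -2, -2, 0, 0, 0, 0, 0, -2, 0, 0, -2, -2, -2], [-1, 1, 1, -1, -1, -1, -1, -1, -1, 1, -1, -1, -1, -1, -1, -1, -1, 1, 1, -1, -1, 1, 1, -3], [-1, 1, 1, -1, -1, 1, 1, -1, -1, -1, 1, -1, 1, -3, -1, -1, -1, 1, 1, -1, 1, 1, 1, -1], [-1, 1, -1, 1, 1, 1, 1, 1, 1, -1, 1, -1, 1, 1, 1, 1, -1, -1, 1, -1, 1, 1, 1, 3], [0, -2, 0, 2, 0, -2, 0, 0, 0, 0, 0, -2, 0, 0, 0, 0, 0, -2, 0, 0, 2, -2, -2, 0], [-1, 1, 1, 1, 1, -1, 1, -1, -1, 1, 1, -1, 1, -1, -1, -1, -1, 1, 1, 1, -1, 3, 1, -1], [2, 0, 0, 2, 2, 0, 0, 0, 0, 0, -2, -2, 0, 2, 0, 0, 0, 0, 0, 0, 0, -2, -2, 0], [0, 0, 2, 0, -2, 0, 0, 0, 0, 0, 0, 0, 0, 0, 0, -2, -2, 2, 2, -2, 0, 0, 2, 0], [2, -2, 0, 0, 0, 0, 0, 0, -2, 0, 0, 2, 0, -2, 0, -2, 0,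 0, 0, 0, -2, 0, -2, 0], [1, 3, 1, 1, 1, 1, 1, -1, 1, -1, -1, 1, -1, -1, 1, -1, -1, 1, -1, -1, -1, 1, 1, -1], [2, 0, 0, 2, 0, -2, -2, 0, 0, 0, 0, 2, 0, 2, -2, 0, 0, 0, 0, 0, -2, 0, 0, 0], [0, -2, 0, 0, -2, -2, 0, -2, -2, 0, 2, 2, 0, -2, 0, -2, 2, 0, -2, 0, 2, 0, 0, 0], [2, -2, 2, -2, -2, 0, 4, -2, -2, -2, 2, 2, 2, -4, -2, 0, 2, 0, -2, 0, 0, -2, 0, -2], [0, 4, 2, 0, 4, 0, 2, 2, -2, 0, 0, 0, 0, 0, 0, 0, 2, 2, -4, 2, -2, 4, 0, 0], [0, 2, 0, 4, 4, -2, -2, 2, -2, 4, 0, 0, 0, 2, 0, 0, 0, 0, 0, 4, -2, 2, 0, 0], [0, -2, 0, 0, -2, 2, 0, 0, 0, 4, -2, -2, -2, 0, 2, -2, 0, -2, 2, 0, -2, -2, 0, 0], [-3, -1, 1, -3, -1, 1, 3, -1, -1, -1, 1, -5, -1, -3, 1, 3, 3, 1, -1, 1, 1, 1, 1, -1], [4, -2, 0, 2, -2, 0, 0, -2, 0, 4, 0, 0, 0,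 2, 0, 0, 0, 2, 0, 0, 4, -2, 4, 2], [0, 0, -2, 0, -2, 0, -6, 0, 4, 4, -4, 8, 0, 4, 2, 4, 2, -2, -8, 4, 0, -2, 0, -6], [-1, -1, 3, -3, -1, 3, 5, 5, 1, 1, 3, -1, -1, -1, 1, 1, 3, 1, -1, 1, -3, -1, -3, 1], [-4, 0, 2, 4, 0, -2, -2, -2, 0, 4, 0, 0, 0, -4, 2, -2, -4, -4, 0, 0, -2, 0, 0, -2], [2, 0, -2, 0, 2, -2, 0, 0, -4, -4, 0, 2, 2, 0, -4, 0, 2, 0, 2, 2, -2, 0, -2, -2], [3, -1, -1, 3, 1, 9, 5, 1, 3, -3, 1, -3, 5, 1, 5, -1, 3, -3, 1, -1, 1, 1, 1, 5], [-3, 1, 3, 1, -1, -1, 1, -1, 3, -1, 3, 1, 1, -3, 1, 1, -3, 1, -3, -3, 3, 1, 1, 1]],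
  [[0, 0, -2, -2, 0, -2, 0, 0, 0, -2, 0, -2, 0, 0, 0, 0, 0, 0, -2, 0, -2, 0, 0, -2], [-2, 0, 0, 0, -2, 0, 0, 0, -2, 0, 0, -2, 0, -2, -2, 0, 0, -2, 0, 0, 0, 0, 0, -2], [-1, 1, 1, 1, -1, 1, -1, -1, -1, 3, -1, -1, 1, -1, -1, -1, 1, -1, 1, -1, -1, -1, 1, -1], [1, -1, 1, -1, 1, 1, 1, -1, 1, 1, -1, 1, 1, 1, -1, -1, 1, 1, 1, -1, 1, 1, 1, 3], [0, 0, -2, 0, 2, -2, 0, -2, 2, -2, -2, 0, 0, 0, 0, 0, 0, 0, 0, 0, -2, 0, 0, 0], [-1, 1, 1, 1, -1, 1, 1, 1, -1, 1, -3, -1, 1, -1, -1, 1, 1, -1, 1, 1, 1, 1, 1, -1], [0, 0, -2, -2, 2, -2, 2, 0, 0, -2, 0, 0, 2, 0, 2, 0, 0, 0, 0, 0, 0, 0, 0, 0], [-3, 1, 1, 1, -1, 1, 1, -1, -1, 1, 1, -1, 1, -1, -1, -1, -1, -1, 1, -1, -1, 1, -1, 1], [-1, 1, 1, 1, -1, -1, -1, 1, -1, -1, -1, 1, -1, -1, 3, -1,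 -1, 1, 1, 1, -1, -1, -1, -1], [-1, 1, 3, -1, -1, -1, 1, 1, -1, 1, 1, -1, 1, 1, 1, -1, 1, -1, -1, -1, 1, 1, 1, -1], [0, 0, 0, 2, 0, -2, 2, 2, 0, -2, 0, 0, 0, 0, 0, 0, -2, 0, 0, 0, 2, 0, -2, 0], [0, 2, 0, 4, 0, 0, -2, 0, 2, 0, 0, 0, -2, 0, 0, -2, 0, 0, 0, 2, -2, 0, 0, -2], [1, 3, 1, 3, 1, 1, -3, 1, 1, 3, -1, -1, -1, -1, 3, -1, 1, -1, -1, -1, -3, -3, -3, -3], [1, 3, 1, -1, -1, 1, 1, 5, -1, 1, -1, -1, 1, -1, 1, 1, 3, 3, -3, 1, 3, 1, 3, -1], [0, 0, 0, 0, 0, -2, 4, 2, 0, -2, -2, 0, 0, -2, 0, 4, 0, 2, 0, 4, 4, 2, 2, 0], [-3, -1, 1, -3, 1, 1, -1, -3, -1, -3, 1, -1, -1, -1, 1, 1, -1, -1, 1, 3, -1, -1, -1, 1], [3, 1, -1, -1, 1, 5, -3, -1, -1, 1, -1, -3, -1, -1, -1, 1, 3, -1, -1, -1, -3, -1, 3, -1], [0, 0, 0, 4, 4, 0, 2, -2,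 0, 0, 4, 0, 2, 0, 0, 0, 0, -2, 0, 4, -2, 2, -2, 2], [3, -3, -1, 1, -3, -3, -1, -1, 3, -3, 7, 3, -3, 3, 1, 5, -3, -1, -9, 3, 5, 1, -3, -5], [-1, 1, 1, -3, 1, 5, -3, 3, 1, 1, -1, -1, -1, -1, 3, 3, -1, 3, -3, -1, -3, -3, 1, 3], [-3, 1, 3, -1, -3, -3, 1, -5, 1, -1, -5, -1, -3, -1, -1, 1, -1, -3, -1, 3, 1, 1, 1, -1], [2, 0, -2, 2, 0, -2, 0, 4, 0, 0, -2, 0, 0, -2, 2, 0, 0, 2, 4, -2, 2, -2, -2, -4], [0, 0, 4, -2, 6, 6, 0, -4, 2, 0, 0, 4, 4, 4, 6, -2, 4, 2, 2, -2, 2, -2, 2, 4], [0, 2, 2, 2, -2, 0, 0, -2, 2, 4, -2, 0, 0, 2, -2, -2, 0, -2, -4, -2, -2, 2, 2, 2]],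
  [[-2, -2, 0, 0, -2, 0, 0, 0, 0, 0, -2, 0, 0, 0, -2, 0, 0, 0, -2, 0, 0, -2, 0, -2], [0, 0, -2, 0, 0, 0, 0, 0, -2, -2, -2, -2, 0, -2, 0, 0, 0, 0, 0, 0, 0, 0, -2, -2], [2, 2, -2, -2, 0, 0, -2, 0, 0, -2, 0, -2, 0, 0, 0, 0, 0, 0, 0, 0, 0, 0, -2, 0], [2, 2, 2, 0, 0, 0, 0, 0, 0, 2, 2, 0, 0, 0, 0, 2, 0, 0, 0, 0, 2, 0, 0, 2], [0, -2, 2, 0, -2, 0, 0, -2, 2, 0, 0, 0, 0, 0, 0, 0, -2, 0, -2, 0, 0, -2, 0, 0], [1, 1, -1, -1, 1, 1, 1, -1, -1, -1, -1, -3, 1, -1, -1, 1, -1, -1, 1, 1, -1, 1, -1, 1], [-2, -2, 2, 0, -2, 0, 2, 0, 2, 0, 0, 0, 0, 0, -2, 0, 0, 0, 0, 0, 2, 0, 0, 0], [0, 2, -2, 0, 0, 2, 0, 0, 0, -2, 0, 0, 0, -2, 2, 0, 0, 0, 0, 0, 2, 0, -2, 0], [-1, -1, -1, -1, 1, 1, 1, -1, 1, -1, 1, -1, -1, 1, 1, -3, 1, -1, 1, 1, -1, -1,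 1, -1], [-1, 1, -1, -1, 1, 1, -1, 1, 1, 1, -1, -1, 1, -1, -1, 1, 3, -1, 1, 1, 1, 1, -1, -1], [-2, -2, 0, 0, 0, 0, 2, 0, 0, 0, 0, 0, 0, -2, 2, 0, 0, -2, 0, 0, 0, 2, 2, 0], [0, 0, -2, 0, 0, 0, -2, -2, 2, -2, 0, 0, 0, 0, 2, 0, 0, 0, 0, 0, -4, -2, 2, 0], [0, 0, -4, -4, 2, 0, -2, 0, 4, -2, 0, 0, -2, 2, 0, -2, 0, 0, -2, -2, -4, 0, 0, 0], [-1, 1, -1, 1, 1, 1, 1, 3, -1, 1, -1, -3, 1, 1, -5, 1, 3, -3, 1, 1, -3, 1, 1, 3], [0, -2, 4, 2, 0, 2, 4, 0, -2, 0, -2, -2, 2, -2, -2, 0, 0, -2, 2, 2, -2, 2, 2, 2], [2, -2, 0, 2, 0, 2, 2, -2, 0, 0, -2, 2, -2, 0, 0, -2, 0, 2, 2, 0, 2, -2, -2, -2], [3, 1, -3, -1, -1, -1, -1, 1, -1, 1, -1, -1, 1, 3, -3, 1, -1, 3, -1, -3, -3, -3, -3, 1], [-1, 1, 1, 1, -1, 1, 1, -3, 3, -3, -3, 3, 1, -1, 3,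 1, 1, 3, 1, -3, 1, 1, 1, 3], [-6, -4, 4, 4, 4, -4, -4, 2, -2, 2, -6, 8, 2, -2, 0, -2, 0, -2, 2, -2, -4, 2, 4, -4], [1, -1, -3, 1, 1, 5, -1, 3, -1, 3, 1, 1, -3, 5, -3, -3, -1, 1, -1, -1, -1, -1, -1, 3], [3, -3, 3, -1, 3, 3, -1, -3, -1, -1, -3, -1, 1, -3, 1, 1, -1, -3, 1, 3, -1, -3, -3, -3], [-1, -1, -1, -3, -1, -3, 3, 1, 1, -1, 3, -3, -1, -1, -1, -3, -1, -1, -1, 1, -3, 3, 3, -1], [4, 4, 2, 0, 0, 0, 0, 0, 8, 6, 4, 2, -2, 4, -2, 0, 0, 0, 6, -2, 4, 0, -2, 4], [0, 2, 0, -2, 2, 2, -6, 0, 0, 0, 0, 0, 2, 0, 2, 4, 0, -2, -2, 0, 0, -2, -2, 2]],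
  [[-1, 1, 1, 1, -1, -1, -1, -1, -1, 1, -1, -1, 1, 1, -1, -1, -1, -1, -1, 1, -1, -1, -1, -3], [0, 0, -2, -2, -2, 0, 0, 0, 0, 0, -2, 0, 0, -2, -2, 0, 0, 0, 0, 0, -2, 0, 0, -2], [0, 0, -2, 0, -2, 0, 0, 0, 2, -2, 0, 0, 0, -2, -2, 0, 2, 0, 0, -2, 0, 0, 0, 0], [1, 1, -1, 1, 1, -1, -1, 1, 1, 1, 1, 1, -1, 1, 1, 1, 1, -1, -1, -1, 1, 1, 1, 3], [0, 2, 0, 2, 2, 0, 0, -2, 0, 0, 0, 0, 0, 2, 0, 0, 0, -2, 0, 0, 0, -2, 0, -2], [1, -1, -1, -1, -1, -1, 1, -1, 1, -1, -1, 1, 1, -1, -1, 1, 1, -1, 1, -1, -3, 1, 1, 1], [-1, 1, 1, 1, 1, -1, -1, -1, -1, 1, 1, 1, 1, 1, 1, -1, 1, -1, -1, 3, -1, -1, 1, -1], [0, 2, -2, -2, -2, 2, 0, 0, 2, 0, 0, 2, 0, -2, 0, 0, 0, 0, 0, 0, 0, 0, 0, 0], [0, -2, 0, 0, 0, 2, 0, 0, 0, -2, 0, 0, 2, 0, 2, -2, 0, 0,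 2, 0, 0, 0, 0, -2], [-2, 0, 0, 0, -2, 0, -2, 0, 0, 0, 0, 0, 0, -2, 0, -2, 0, 0, 0, 0, -2, 2, 0, 2], [0, 0, 0, -2, 0, 0, 0, -2, -2, 0, 0, 0, 0, 0, 2, 0, -2, 0, 2, 2, 0, 0, 2, 0], [-1, -1, 1, 1, -1, 3, 1, -1, 1, -3, -1, -1, -1, 1, -1, 1, -1, -1, 3, -1, 1, -1, -1, -1], [-1, -3, 1, 1, -1, 1, 1, -3, 3, -5, 1, -1, 1, -1, -3, -3, -1, 1, 1, -1, 3, -1, -1, -1], [1, -3, 3, -1, -3, -3, -1, 1, -1, -1, -1, -1, 3, 1, -1, -1, 1, -1, 1, 1, -3, 1, -1, 5], [2, 0, 2, -2, 2, -2, 0, 0, -2, 0, -2, 0, 2, 2, 2, 2, 0, 0, 2, 2, -6, 0, 2, 2], [-1, 1, -1, 1, 3, 1, 1, 3, 1, 1, -3, 3, 1, -1, 1, -1, -1, 1, -1, 1, -1, -1, -1, -3], [2, -2, 0, 4, -2, -2, 2, 2, 2, 0, 0, 0, 0, 0, -6, 0, 0, 0, -2, -2, 0, -2, -2, 0], [-1, 3, 3, 1, 1, 5, 1, -1, 1, -1,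 -1, 3, -1, -1, -1, 3, -1, 1, -1, 3, 1, -1, 3, 1], [-5, -1, 9, -5, 3, 1, 1, -1, -7, 3, -3, -5, -5, 1, 1, -1, -5, 5, -1, -1, -1, -1, -1, -1], [3, -1, 3, 1, 1, -3, 1, 3, 3, 1, 1, 1, 5, -1, -1, -3, -1, 1, 1, -1, 3, -1, -5, 1], [0, 2, -2, 0, 2, 0, 0, -2, 2, 0, -6, 0, -2, 0, 2, -2, 0, 0, 2, -4, -6, 0, 0, -2], [0, -4, -2, -2, 0, -2, 0, -2, -2, -4, 4, -2, 2, 2, 0, 0, 0, 0, 2, 2, 0, 0, 2, -2], [-3, -1, 1, 5, 5, -1, 1, 5, 3, -1, 5, 5, -1, -1, 3, -3, 3, -3, -3, -1, 3, -1, 1, 7], [1, 3, 1, 1, -3, 1, -1, -3, 3, 1, -1, -1, -3, -1, -1, -1, 1, -1, 1, -5, 1, 1, -1, 3]],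
  [[-1, -1, -1, -1, -1, -1, -1, -1, -1, -1, -1, -1, -1, 3, -1, -1, -1, -1, -1, -1, -1, -1, -1, -1], [0, 0, 0, 0, 0, 0, 0, 0, 0, 0, 0, 0, 0, 0, 0, 0, 0, 0, -4, 0, 0, 0, 0, -4], [0, 0, 0, 0, 0, 0, 0, 0, 0, 0, 0, 0, 0, -4, 0, 0, 0, 0, -4, 0, 0, 0, 0, 0], [1, 1, 1, -1, 1, -1, 1, 1, 1, 1, -1, -1, 1, -1, 1, 1, 1, -1, 1, -1, 1, 1, 1, 3], [-1, -1, -1, -1, -1, -3, 1, -1, 1, -1, -1, 1, -1, 1, -1, 1, -1, -1, 1, -1, -1, -1, -1, 1], [-1, 1, 1, 1, 1, -1, 1, 1, 1, 1, -1, 1, 1, -1, -1, -1, 1, 1, -3, 1, 1, 1, -1, -1], [-1, -1, -1, -1, -1, -1, -1, -1, 1, 1, -1, 1, -1, 3, 1, -1, 1, -1, 1, -1, -1, 1, -1, 1], [1, -1, -1, -1, 1, 1, 1, 1, 1, -1, 1, 1, -1, -1, 1, 1, 1, 1, -3, -1, 1, 1, 1, -1], [-1, -3, -1, 1, 1, 1, -1, -1, 1, 1, 1, 1,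 -1, -1, -1, -1, -1, 1, 1, 1, 1, -1, -1, -1], [0, 0, 0, -2, 0, 2, -2, 0, 0, 0, 0, 0, 2, 0, 0, -2, 0, 0, -2, 0, 2, 2, 0, 0], [-2, 0, 0, 0, 0, 0, 0, 0, 0, 0, 2, 2, 0, 2, 0, 0, 2, 0, 2, 0, 2, 0, 0, -2], [-2, -2, 0, 0, 0, 0, 0, 0, -2, -2, 0, 2, 0, -2, -2, 2, -2, 2, 0, 2, 0, -2, 0, 0], [-1, -1, -1, 1, 1, 1, -1, -3, -3, -3, 1, 3, -1, -5, -1, -3, -1, 1, -1, 1, -1, -3, -1, 1], [0, 0, 4, 2, 0, 2, -2, 2, -2, 2, -2, 0, 2, 2, -2, -4, 2, 0, -2, 2, 2, 0, -2, 2], [-1, 1, 3, 1, -1, -1, 1, 1, 3, 3, -1, 1, 1, 5, -3, -1, 3, 1, 1, 3, 1, 1, -1, -1], [2, -2, -2, 0, 2, 0, 0, 0, 4, 0, 0, 0, 0, 2, 0, 0, -2, 0, 0, 0, -4, 0, 2, -2], [2, 0, 0, 2, 0, -2, 2, 0, -4, 0, -2, -2, 2, -2, 0, -2, -2, 0, -4, 0, -4, -2, 0, 2], [0, 0, -2, 0, 0, 0, 0, -2,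 0, -2, 0, 4, 0, 2, 0, 4, 2, 4, 0, 0, -2, 2, 4, 2], [2, 6, -2, 0, -6, 4, -4, 0, -4, -4, 0, 0, 0, 6, -4, 0, -2, 0, 8, 4, 0, 0, 2, -6], [4, -2, 2, 4, 2, 0, 0, 2, 0, -2, 2, -2, -2, 0, 0, -6, -2, 0, 0, 0, -2, -2, 0, 4], [0, 0, -2, -2, 0, -2, 2, 0, 6, -2, -2, 0, 2, 0, -4, 0, -2, -2, -2, 4, 2, 0, 0, -4], [-4, 0, 2, 0, 0, 0, 0, -2, -2, 4, 2, 2, -2, -2, 0, -2, 2, 0, 2, 0, 0, -2, -4, -2], [3, -1, -1, -1, 1, 1, -1, 3, 3, 3, -3, 3, 3, -5, 3, -3, -1, -1, 5, -3, -3, 3, 3, 9], [1, 1, -1, -1, -1, -1, 1, 1, -1, -5, -1, -1, 1, -3, -1, 1, -1, -1, -3, 1, 5, 1, 1, 3]],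
  [[-1, -1, -1, -1, -1, -1, -1, -1, 1, -1, -1, 1, -1, -1, -1, -1, -1, 1, 1, 1, 1, -1, 1, -3], [-1, -1, 1, 1, 1, -1, -1, -1, -1, -1, 1, -1, -1, 1, 1, -1, -1, -1, -1, -1, 1, -1, -1, -3], [-1, -1, 3, 1, 1, -1, -1, 1, -1, 1, 1, -1, -1, -1, 1, -1, 1, -1, -1, -1, -1, 1, -1, -1], [0, 0, 0, 0, 0, 0, 0, 0, 0, 0, 0, 0, 0, 0, 0, 0, 0, 0, 0, 0, 0, 4, 0, 4], [0, -2, 0, -2, -2, 0, 0, 0, 0, 0, -2, 0, 0, -2, 0, 0, -2, 0, 2, 2, 0, 0, 0, 0], [0, 0, 2, 2, 0, 0, 0, 0, 0, 0, 2, 0, -2, 0, 2, 0, -2, -2, 0, -2, 0, 0, 0, 0], [0, 0, 0, 0, -2, 0, 0, 0, 2, 0, -2, 0, 0, 0, -2, 0, -2, 2, 2, 0, 2, 0, 0, 0], [0, -2, 2, 2, 2, -2, 0, 0, -2, 0, 0, -2, 0, 2, 0, 0, 0, 0, 0, 0, 0, 0, 0, 0], [2, 0, 0, 2, 0, 2, 0, 2, 0, 0, -2, 0, 0, 0, 0, 0, 0, 0, 0,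 0, -2, -2, 0, -2], [0, 0, 0, 2, 0, -2, -2, 0, 2, 0, 0, 0, -2, 2, 0, 0, 2, 0, 0, -2, 0, 0, 0, 0], [2, 2, 0, 0, 0, 0, 0, -2, 0, 0, -2, 0, 0, 2, 0, 2, -2, 0, 0, 0, 0, -2, 0, 0], [-1, -1, 1, -1, 1, 1, -1, 1, -1, 1, -1, 1, 1, -1, 1, 1, 1, -3, 1, 1, -3, -3, 1, -1], [0, 2, 2, 0, 0, -2, 0, 4, 0, 4, 0, 0, 0, -2, 0, 0, 2, -2, 0, 2, -4, -2, 0, -4], [0, 4, 0, 2, 2, 2, -2, 0, 4, 0, 4, 2, -4, 0, 0, 0, 0, 0, 2, -2, 0, 0, 2, 0], [2, 2, 0, 0, -2, 4, 0, -2, 2, -2, 2, 0, -2, 2, 2, 0, -4, 0, 2, -2, 2, -2, 2, 2], [0, -4, -2, 2, -2, 2, 2, 0, 0, 0, 0, -2, 2, 2, 0, -2, 0, 0, 0, 2, 2, 0, 0, -2], [-3, -1, 1, -1, 1, -1, 1, 1, 1, 1, 5, 3, 1, -3, 1, -3, 1, -1, 1, 1, -1, 3, -1, -3], [-1, -1, 3, -1, -1, -1, 1, 1, -1, 1, -1, -1, 5, 3, 1, 3, 1,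 -1, 3, 1, 3, -1, 3, 1], [-2, 4, -8, -6, -4, 0, 0, -4, 2, -4, 2, -2, 2, 2, 0, 6, 4, 2, -2, 0, 0, -8, 2, -2], [3, 1, -1, 3, 1, 1, 3, 1, 1, 1, 5, 1, -1, -3, -3, -3, 3, 1, 1, 5, -1, 1, 1, -1], [0, -4, -2, 2, -4, 0, -2, -2, 0, -2, 0, -4, -2, 0, 6, -2, -2, -2, 0, 0, -2, -2, 0, 0], [2, 4, 2, -2, 0, 2, 0, 2, 0, 2, -2, 2, -2, 0, -2, 0, -4, 0, -2, -2, -2, -2, -2, -2], [0, -2, 0, 2, -2, 2, 4, 4, 6, 4, 0, -2, 2, 0, -4, 2, 4, 0, 2, 0, -2, 8, -2, 6], [-1, -1, 1, 1, 1, -5, -3, -1, -1, -1, 1, -1, -1, -3, 3, 1, 3, -1, 1, 1, -3, 1, 1, 3]],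
  [[-1, -1, -1, -1, -1, -1, -1, -1, 1, 1, -1, 1, -1, -1, 1, -1, 1, -1, 1, -1, -1, 1, -1, -3], [-1, 1, -1, -1, -1, 1, -1, 1, -1, 1, -1, -1, -1, -1, -1, -1, -1, 1, -1, 1, 1, -1, -1, -3], [0, 2, 0, 0, 0, 2, 0, 0, -2, 0, 2, -2, 0, 0, -2, 0, 0, 0, 0, 0, 2, 0, 0, -2], [-1, 1, 1, 1, 1, 1, -1, -1, -1, -1, 1, -1, 1, 1, 1, 1, 1, 1, 1, 1, -1, 1, 1, 3], [-1, -1, -1, 1, -1, -1, -1, -1, 1, -1, 1, 1, -1, 1, 1, 1, 1, -1, 3, -1, -1, -1, -1, -1], [-1, 1, 1, 1, 1, 1, -1, 1, -1, 1, 1, -1, -1, 1, 1, -1, -1, 1, -1, 1, 3, -1, -1, -1], [-1, -1, -1, -1, -1, -1, -1, -1, 1, 1, -1, 1, -1, 3, 1, -1, 1, -1, 1, -1, -1, 1, -1, 1], [0, 2, 0, 0, -2, 2, 0, 0, -2, 2, 0, 0, 0, 0, -2, 0, 0, 2, 0, 0, 0, -2, 0, 0], [1, -1, 1, 1, 1, -1, 1, 1, 1, 1, 1,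 1, -1, 1, -3, -1, -1, -1, -1, -1, -1, -1, -1, -1], [2, 2, 0, 0, 0, 0, -2, 0, -2, 2, 0, 0, 0, 0, 0, -2, 0, 0, -2, 0, 0, 2, 0, 0], [0, 0, 0, 0, 0, -2, 0, 0, 0, 0, -2, 2, -2, 0, 0, 0, 0, 0, -2, 0, 0, -2, -2, 2], [3, 1, 1, 1, 1, -1, 1, 1, 1, -1, 1, 1, -1, -1, -1, 1, 1, -1, 1, -1, 1, -3, 1, -3], [3, -1, 1, -1, 1, -1, 3, 1, -3, -1, 3, 1, 1, -1, -3, -1, 1, -3, 1, -3, 3, -1, -1, -3], [0, 0, 2, 0, 4, 0, 0, 0, 0, 2, 0, 2, -2, 0, 2, -4, 0, 0, -2, 2, 4, 4, 2, 0], [-2, -2, 0, 2, 2, 0, -2, 2, 2, 2, -2, 2, -4, 2, 4, 0, -2, 0, -2, 2, 2, 0, 0, 2], [1, -3, -1, -1, -1, 1, -1, 1, 1, 3, -1, -1, 1, 1, -1, 1, -3, 1, 3, 1, -3, -1, -1, -1], [0, 0, 0, -2, 2, 4, 2, 0, 0, -2, 2, -2, 2, -2, 2, -2, 0, 0, 4, 0, 2, 2, 0, -4], [3, 1, 1, -3, -3,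 1, -1, 3, 1, 1, -1, 1, -1, 1, 1, 3, 1, 1, 3, -3, 1, -3, 1, 3], [5, -5, -1, -3, -5, -5, -1, 1, 3, -3, -5, 5, 1, -5, 5, 3, -3, -3, -7, 1, -1, 1, 3, -1], [0, -4, 2, 2, 2, 2, 4, -2, 0, 2, 0, 2, 4, -2, -2, -2, -2, 0, 4, 0, 2, 4, 0, 0], [0, 0, 0, 4, -2, 0, -4, 2, -2, 2, 2, 0, -2, 0, 2, 2, -4, -2, 0, 4, -2, -2, -2, -4], [-2, -2, -2, 0, 4, -2, 2, 0, 0, -2, 0, 0, -2, 2, -2, -2, 2, -2, -4, -2, 2, -2, -2, 0], [6, -2, 2, 0, 2, 2, 0, -4, -2, -2, 4, -2, 4, 8, 0, 0, 0, 2, 4, 0, -2, 4, 2, 6], [1, 5, 3, 3, -3, 1, -1, -1, -3, -1, 3, 1, 1, -3, 1, 1, 1, -1, 1, 1, 1, 1, 1, -1]]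
]

/-- tables of the elements -/
def threeC8 : List (List ℕ) := [
  [10650893, 15725782, 6817425, 3931010, 14246782, 12723414, 13376672, 1508567, 12460407, 9327057, 9849669, 7236328, 3709037, 1379652, 2936926, 12812034, 11712358, 10129323, 10516683, 15355367, 11650374, 10653168, 5795699, 15726365],
  [14626841, 13043287, 7669085, 10339430, 8378786, 2833032, 11429367, 5242981, 12022295, 13084584, 4418945, 14379253, 16404490, 10531992, 9747667, 13026562, 9494957, 3637248, 337520, 11346503, 4275840, 16274003, 12130807, 14998434],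
  [5027211, 1, 10495110, 3162275, 4234646, 432035, 12138908, 12770205, 12793327, 5572948, 16543941, 15189742, 13785273, 6857075, 15806754, 13868786, 4793346, 16273443, 14455, 16197245, 12002341, 9273651, 2114810, 8014720],
  [8013551, 8345859, 3474601, 11533919, 13929032, 5781787, 4454127, 11098371, 12195013, 11171891, 6004671, 6222690, 2653421, 3748674, 7532754, 9960826, 2592326, 1084843, 1632723, 1204219, 5001887, 2055608, 10315374, 306275],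
  [40960, 9301453, 7665402, 5094823, 2498369, 15559179, 14068388, 7716302, 11410614, 9281032, 4095537, 2420642, 16678947, 15057714, 14662010, 15522557, 13649302, 1413200, 15084550, 4945755, 8333684, 15532628, 9633432, 9595835],
  [432034, 12837897, 14592148, 12749750, 4259821, 273632, 6490066, 10637354, 2825646, 16735569, 3084139, 4990111, 4808899, 14873491, 8647644, 12224390, 14702595, 14790973, 13332648, 186253, 15098307, 15237074, 9794061, 11398957],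
  [10820581, 8932746, 9601119, 2689350, 454444, 589195, 10556670, 3202177, 13856429, 85459, 14681564, 193173, 15786995, 1603014, 14597399, 14662959, 2583387, 5538186, 3302515, 5060328, 9392885, 13109250, 2679395, 5348220],
  [4794494, 5517820, 10386210, 12799058, 14738229, 11988831, 2929341, 8070217, 4455081, 10008443, 295046, 11425685, 8639654, 5004106, 13301156, 4208189, 5494017, 7347595, 9690949, 8664986, 12015959, 5274867, 11439029, 3522806],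
  [3474456, 15407203, 7996989, 15565002, 10551613, 15650091, 2048985, 12848598, 10748993, 13152418, 7295752, 14599821, 12491149, 12927342, 12544561, 1896090, 971772, 13386464, 13765251, 5292820, 10574701, 11263226, 6915665, 16737655],
  [8482817, 12193792, 5500928, 5797810, 5471592, 2287642, 1554861, 9376792, 15167873, 2941138, 10086369, 14223784, 12414772, 94101, 1961511, 5660718, 5920563, 10257670, 3280942, 11977409, 10673813, 5797106, 5019706, 14242191],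
  [1084843, 1263714, 6565220, 40960, 14751853, 15407169, 12753515, 12848598, 7178498, 9196227, 6162772, 8510175, 14897231, 3276619, 10207073, 3276611, 7167980, 14820749, 3495393, 7188632, 11523477, 4567735, 12512734, 11077856],
  [7248301, 382280, 4298165, 12773413, 7906786, 15650091, 1554861, 10155634, 1159238, 13772433, 6674338, 15516740, 16444553, 4524981, 9601097, 8033117, 6857556, 15481297, 14379687, 10820303, 16658277, 13219017, 12528067, 13831628]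
]

/-- images of the basis -/
def threeW9 : List (List (List ℤ)) := [
  [[0, -2, 0, 0, 0, -2, 0, 0, -2, 0, -2, -2, 0, 0, -2, 0, 0, 0, 0, 0, -2, 0, 0, -2], [0, 0, 0, -2, 0, 0, 0, -2, 0, -2, 0, -2, 0, 0, 0, 0, 0, 0, 0, -2, 0, -2, -2, -2], [-1, 1, 1, -1, -1, 1, 1, -1, 1, -1, -1, 1, -1, 1, 1, 1, 1, -1, -1, -3, 1, -1, -1, -1], [0, 2, 0, 0, 0, 0, 0, 0, 0, 2, 0, 2, 2, 0, 0, 0, 2, 0, 0, 0, 2, 0, 2, 2], [-1, -1, 1, 1, 1, -1, 1, -1, -3, 1, -1, 1, 1, 1, -1, -1, -1, -1, -1, 1, -1, 1, 1, -1], [2, 2, 0, -2, 0, 2, 0, -2, 0, 0, 0, 0, 0, 2, 0, 0, 0, 0, 0, -2, 0, 0, -2, 0], [0, -2, 0, 0, 0, 0, 0, 0, -2, 0, 0, 0, 2, 0, -2, 0, 0, 0, 2, 0, -2, 2, 2, 0], [-3, 1, 1, -1, 1, 1, 1, -1, 1, -1, 1, -1, 1, 1, 1, 1, 1, 1, 1, -1, 1, -1, -1, -1],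 [0, -2, 0, 0, 0, 2, 0, 2, 0, 0, 0, 0, 0, 0, 2, 0, -2, 0, 0, 0, 0, 2, -2, -2], [0, 0, 0, -2, -2, 0, 0, 0, 2, 0, 0, -2, 0, 0, 0, 0, 2, 2, 0, -2, 0, 2, 0, 0], [0, 0, 0, 0, 2, 0, -2, 0, 0, 0, 2, -2, 0, 0, 0, -2, -2, 0, 2, 0, 0, 2, 0, 0], [-1, 1, 1, 1, 1, 1, 1, 1, -1, -1, -1, -1, -3, 1, 3, -1, -1, -1, -3, 1, -1, 1, -1, -1], [-1, -1, 3, 3, -1, 3, 1, 1, 3, -1, -3, 1, -5, 1, 1, -1, -1, -1, -1, -1, -1, 1, -1, -3], [5, 1, -1, -1, -1, 3, -1, 3, 1, 1, -1, -3, -1, 1, -3, 1, 1, 1, -1, -3, -1, 1, -1, 3], [4, 0, -2, -2, 2, 2, -2, -2, -2, 2, 2, -2, 2, 0, -2, 0, -2, 0, 0, 0, -2, 2, -2, 4], [0, -2, 0, 0, 0, 0, 2, -2, 0, 0, 0, 0, 4, -2, 2, 2, -2, 2, 0, 2, -2, -2, 0, -2], [2, 0, 0, 2, -2, 0, 2, 0, 0, 0, -4, 2, -2, 2, 0, 0, 2, 0, -2,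 -2, -2, -6, 0, 0], [-3, 1, 3, 3, 1, 1, -1, -3, -1, -3, 1, -1, 1, 1, 3, 1, 1, 1, 1, 3, -3, 1, 1, 3], [1, -3, -3, 1, -3, -5, -5, -1, 3, -1, 5, -7, -5, -3, -3, -1, -3, -1, -3, 9, -3, 1, 1, 1], [2, -2, 2, 2, 0, 2, 2, 4, 2, 4, -2, 2, -2, 0, -2, 4, -2, 4, 0, 0, 0, -4, 0, 0], [1, -1, 1, -5, 1, -1, 1, -5, 1, 3, 1, -1, 3, 1, 1, -1, -1, -1, -5, 1, -1, 1, -3, -3], [1, -1, -3, 1, 1, 3, -1, 1, -1, -1, -1, 1, -3, -1, -1, -3, -3, -3, 3, -3, 1, 3, -1, -1], [0, 2, 0, 4, -6, 4, 4, 2, 2, 4, 2, 6, 4, 0, 2, 2, 2, 2, 0, 0, 0, 2, 8, 2], [-2, 2, 4, -2, 0, -2, 0, 0, 2, 2, 0, 0, -2, 4, 0, 0, 4, 0, -4, 0, 2, 0, 0, 0]]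
]

/-- tables of the elements -/
def threeC9 : List (List ℕ) := [
  [3085749, 14027428, 15043942, 4082619, 11798804, 1184092, 2720279, 14027429, 16699727, 1068441, 4306755, 14430711, 1160808, 6953385, 7393284, 11071884, 9539336, 15699248, 12695517, 16237868, 11037410, 6893195, 5387486, 13801027]
]

end CfsgLib.Leech.Mult
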