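import Cfsg.Agent.Lib.Leech.Mult.ThreeData
import Cfsg.Agent.Lib.Leech.Sub.Split

/-!
The checks of the points of the Sylow 2-subgroup used for the stabilizer of a vector.
-/

set_option autoImplicit false
set_option Elab.async false
set_option maxRecDepth 100000
set_option maxHeartbeats 4000000

namespace CfsgLib.Leech.Mult

open Cfsg CfsgLib.Leech

theorem three_tree0 : pieceOK 128 ((List.range threeTwo.T.tree.length).zip threeTwo.T.tree) threeTwo.treeOK 0 = true := by decide +kernel

theorem three_tree1 : pieceOK 128 ((List.range threeTwo.T.tree.length).zip threeTwo.T.tree) threeTwo.treeOK 1 = true := by decide +kernel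

theorem three_tree2 : pieceOK 128 ((List.range threeTwo.T.tree.length).zip threeTwo.T.tree) threeTwo.treeOK 2 = true := by decide +kernel

theorem three_tree3 : pieceOK 128 ((List.range threeTwo.T.tree.length).zip threeTwo.T.tree) threeTwo.treeOK 3 = true := by decide +kernel

theorem three_tree4 : pieceOK 128 ((List.range threeTwo.T.tree.length).zip threeTwo.T.tree) threeTwo.treeOK 4 = true := by decide +kernel

theorem three_tree5 : pieceOK 128 ((List.range threeTwo.T.tree.length).zip threeTwo.T.tree) threeTwo.treeOK 5 = true := by decide +kernel

theorem three_tree6 : pieceOK 128 ((List.range threeTwo.T.tree.length).zip threeTwo.T.tree) threeTwo.treeOK 6 = true := by decide +kernel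

theorem three_tree7 : pieceOK 128 ((List.range threeTwo.T.tree.length).zip threeTwo.T.tree) threeTwo.treeOK 7 = true := by decide +kernel

theorem three_treeLen : ((List.range threeTwo.T.tree.length).zip threeTwo.T.tree).length ≤ 128 * 8 := by decide +kernel

theorem three_treeAll : ((List.range threeTwo.T.tree.length).zip threeTwo.T.tree).all threeTwo.treeOK = true := by
  refine all_of_pieces three_treeLen fun i hi => ?_
  interval_cases i
  · exact three_tree0
  · exact three_tree1
  · exact three_tree2
  · exact three_tree3
  · exact three_tree4
  · exact three_tree5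
  · exact three_tree6
  · exact three_tree7

theorem three_pos0 : pieceOK 128 (List.range threeTwo.T.N) threeTwo.posOK 0 = true := by decide +kernel

theorem three_pos1 : pieceOK 128 (List.range threeTwo.T.N) threeTwo.posOK 1 = true := by decide +kernel

theorem three_pos2 : pieceOK 128 (List.range threeTwo.T.N) threeTwo.posOK 2 = true := by decide +kernel

theorem three_pos3 : pieceOK 128 (List.range threeTwo.T.N) threeTwo.posOK 3 = true := by decide +kernel

theorem three_pos4 : pieceOK 128 (List.range threeTwo.T.N) threeTwo.posOK 4 = true := by decide +kernel

theorem three_pos5 : pieceOK 128 (List.range threeTwo.T.N) threeTwo.posOK 5 = true := by decide +kernel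

theorem three_pos6 : pieceOK 128 (List.range threeTwo.T.N) threeTwo.posOK 6 = true := by decide +kernel

theorem three_pos7 : pieceOK 128 (List.range threeTwo.T.N) threeTwo.posOK 7 = true := by decide +kernel

theorem three_posLen : (List.range threeTwo.T.N).length ≤ 128 * 8 := by decide +kernel

theorem three_posAll : (List.range threeTwo.T.N).all threeTwo.posOK = true := by
  refine all_of_pieces three_posLen fun i hi => ?_
  interval_cases i
  · exact three_pos0
  · exact three_pos1
  · exact three_pos2
  · exact three_pos3
  · exact three_pos4
  · exact three_pos5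
  · exact three_pos6
  · exact three_pos7

theorem three_mono0 : pieceOK 128 (List.range (threeTwo.T.N - 1)) (fun r => decide (get2 threeTwo.els (get2 threeTwo.srt r) < get2 threeTwo.els (get2 threeTwo.srt (r + 1)))) 0 = true := by decide +kernel

theorem three_mono1 : pieceOK 128 (List.range (threeTwo.T.N - 1)) (fun r => decide (get2 threeTwo.els (get2 threeTwo.srt r) < get2 threeTwo.els (get2 threeTwo.srt (r + 1)))) 1 = true := by decide +kernel

theorem three_mono2 : pieceOK 128 (List.range (threeTwo.T.N - 1)) (fun r => decide (get2 threeTwo.els (get2 threeTwo.srt r) < get2 threeTwo.els (get2 threeTwo.srt (r + 1)))) 2 = true := by decide +kernel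

theorem three_mono3 : pieceOK 128 (List.range (threeTwo.T.N - 1)) (fun r => decide (get2 threeTwo.els (get2 threeTwo.srt r) < get2 threeTwo.els (get2 threeTwo.srt (r + 1)))) 3 = true := by decide +kernel

theorem three_mono4 : pieceOK 128 (List.range (threeTwo.T.N - 1)) (fun r => decide (get2 threeTwo.els (get2 threeTwo.srt r) < get2 threeTwo.els (get2 threeTwo.srt (r + 1)))) 4 = true := by decide +kernel

theorem three_mono5 : pieceOK 128 (List.range (threeTwo.T.N - 1)) (fun r => decide (get2 threeTwo.els (get2 threeTwo.srt r) < get2 threeTwo.els (get2 threeTwo.srt (r + 1)))) 5 = true := by decide +kernel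

theorem three_mono6 : pieceOK 128 (List.range (threeTwo.T.N - 1)) (fun r => decide (get2 threeTwo.els (get2 threeTwo.srt r) < get2 threeTwo.els (get2 threeTwo.srt (r + 1)))) 6 = true := by decide +kernel

theorem three_mono7 : pieceOK 128 (List.range (threeTwo.T.N - 1)) (fun r => decide (get2 threeTwo.els (get2 threeTwo.srt r) < get2 threeTwo.els (get2 threeTwo.srt (r + 1)))) 7 = true := by decide +kernel

theorem three_monoLen : (List.range (threeTwo.T.N - 1)).length ≤ 128 * 8 := by decide +kernel

theorem three_monoAll : (List.range (threeTwo.T.N - 1)).all (fun r => decide (get2 threeTwo.els (get2 threeTwo.srt r) < get2 threeTwo.els (get2 threeTwo.srt (r + 1)))) = true := by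
  refine all_of_pieces three_monoLen fun i hi => ?_
  interval_cases i
  · exact three_mono0
  · exact three_mono1
  · exact three_mono2
  · exact three_mono3
  · exact three_mono4
  · exact three_mono5
  · exact three_mono6
  · exact three_mono7

theorem threePoints_head : (unpackC (get2 threeTwo.els 0) == pow2L) = true := by decide +kernel

theorem threePoints_ok : threeTwo.pointsOK = true := by
  simp only [Two.pointsOK, Bool.and_eq_true]
  exact ⟨⟨⟨threePoints_head, three_treeAll⟩, three_posAll⟩, three_monoAll⟩

end CfsgLib.Leech.Mult
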