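import Cfsg.Agent.Lib.Leech.Mult.TwoEltDef

/-!
Checks of the elements fixing a vector of norm 32.
-/

set_option autoImplicit false
set_option Elab.async false
set_option maxRecDepth 100000
set_option maxHeartbeats 4000000

namespace CfsgLib.Leech.Mult

open Cfsg CfsgLib.Leech

theorem twoElts_piece0 : pieceOK 11 (twoPacked.zip twoCols) two32EltOK 0 = true := by decide +kernel

theorem twoElts_piece1 : pieceOK 11 (twoPacked.zip twoCols) two32EltOK 1 = true := by decide +kernel

theorem twoElts_piece2 : pieceOK 11 (twoPacked.zip twoCols) two32EltOK 2 = true := by decide +kernel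

end CfsgLib.Leech.Mult
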