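import Cfsg.Agent.Lib.Leech.Mult.TwoElts
import Cfsg.Agent.Lib.Leech.Sub.Cert32
import Cfsg.Agent.Lib.Leech.Sub.Pack
import Cfsg.Agent.Lib.Leech.Sub.Split

/-!
Checks of the elements fixing a vector of norm 32.
-/

set_option autoImplicit false
set_option Elab.async false
set_option maxRecDepth 100000
set_option maxHeartbeats 4000000

namespace CfsgLib.Leech.Mult

open Cfsg CfsgLib.Leech

/-- each element fixes the vector and has the listed table -/
def two32EltOK (z : List ℕ × List ℕ) : Bool :=
  stabOK cert32V (unMat z.1) && (unMat z.1).map keyL == z.2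

end CfsgLib.Leech.Mult
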