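import Cfsg.Agent.Lib.Leech.Mult.TwoRelData
import Cfsg.Agent.Lib.Leech.Mult.TwoEltChk0
import Cfsg.Agent.Lib.Leech.Mult.TwoEltChk1
import Cfsg.Agent.Lib.Leech.Mult.TwoEltChk2

/-!
The checks of the certificates for the stabilizer of a vector of norm 32.
-/

set_option autoImplicit false
set_option Elab.async false
set_option maxRecDepth 100000
set_option maxHeartbeats 4000000

namespace CfsgLib.Leech.Mult

open Cfsg CfsgLib.Leech

theorem twoElts_len : twoPacked.length = twoCols.length ∧ (twoPacked.zip twoCols).length ≤ 11 * 8 := by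
  decide +kernel

theorem twoElts_ok : (twoPacked.zip twoCols).all two32EltOK = true := by
  refine all_of_pieces twoElts_len.2 fun i hi => ?_
  interval_cases i
  · exact twoElts_piece0
  · exact twoElts_piece1
  · exact twoElts_piece2
  · exact twoElts_piece3
  · exact twoElts_piece4
  · exact twoElts_piece5
  · exact twoElts_piece6
  · exact twoElts_piece7

theorem twoTabP_ok : twoTabP.ok = true := by decide +kernel

theorem twoTab_ok : twoTab.okR 4 = true := by decide +kernel

theorem twoRel_classes : twoRel.classesOK = true := by decide +kernel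

theorem two3_ok : twoOdd3.pieceOK twoOdd3.as twoOdd3.pairA = true ∧
    twoOdd3.pieceOK twoOdd3.bs twoOdd3.pairB = true ∧ twoOdd3.actOK = true ∧
    twoOdd3.sizeOK twoOdd3.as = true ∧ twoOdd3.sizeOK twoOdd3.bs = true := by decide +kernel

theorem two5_ok : twoOdd5.pieceOK twoOdd5.as twoOdd5.pairA = true ∧
    twoOdd5.pieceOK twoOdd5.bs twoOdd5.pairB = true ∧ twoOdd5.actOK = true ∧
    twoOdd5.sizeOK twoOdd5.as = true ∧ twoOdd5.sizeOK twoOdd5.bs = true := by decide +kernel

end CfsgLib.Leech.Mult
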