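import Cfsg.Agent.Lib.Leech.Mult.TwoRelData
import Cfsg.Agent.Lib.Leech.Sub.Split

/-!
The checks of the elements and cosets for the stabilizer of a vector of norm 32.
-/

set_option autoImplicit false
set_option Elab.async false
set_option maxRecDepth 100000
set_option maxHeartbeats 4000000

namespace CfsgLib.Leech.Mult

open Cfsg CfsgLib.Leech

theorem twoRel_els : twoRel.elsOK = true := by decide +kernel

theorem twoRel_pairs : twoRel.pairsOK = true := by decide +kernel

end CfsgLib.Leech.Mult
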